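import Cfsg.Agent.Lib.Helper5.BN
import Mathlib

/-!
# Transfer of `(B, N)`-pairs (helper7)

Three constructions on a `(B, N)`-pair `P` of a group `G`:

* `changeS`: replace the distinguished representatives by other representatives of the same cosets
  of `B ⊓ N`;
* `comapInj`: pull back along an injective homomorphism `ι : H →* G` with range containing
  the representatives and with `G = ι(H) (B ⊓ N)`;
* `mapSurj`: push forward along a surjective homomorphism whose kernel lies in `B`.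
-/

set_option autoImplicit false

namespace Cfsg.Agent.Lib.H7AutPSL

open Cfsg Cfsg.Agent.Lib.Helper5 DoubleCoset
open scoped Pointwise

variable {G : Type*} [Group G]

section aux

variable (P : BNPair G)

theorem conj_mem_T {n t : G} (hn : n ∈ P.N) (ht : t ∈ P.B ⊓ P.N) :
    n * t * n⁻¹ ∈ P.B ⊓ P.N :=
  ⟨P.conj_mem n hn t ht, P.N.mul_mem (P.N.mul_mem hn ht.2) (P.N.inv_mem hn)⟩

theorem conj_mem_T' {n t : G} (hn : n ∈ P.N) (ht : t ∈ P.B ⊓ P.N) :
    n⁻¹ * t * n ∈ P.B ⊓ P.N := by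
  have := conj_mem_T P (P.N.inv_mem hn) ht
  rwa [inv_inv] at this

theorem S_mem_N {s : G} (hs : s ∈ P.S) : s ∈ P.N := P.subset hs

/-- every element of `N` is a product of an element of the closure of `S` and an element of `B ⊓ N` -/
theorem exists_closure_mul {n : G} (hn : n ∈ P.N) :
    ∃ c ∈ Subgroup.closure P.S, ∃ t ∈ P.B ⊓ P.N, n = c * t := by
  have hcN : Subgroup.closure P.S ≤ P.N := (Subgroup.closure_le _).2 P.subset
  have hn' : n ∈ Subgroup.closure P.S ⊔ (P.B ⊓ P.N) := by rw [P.closure_sup]; exact hn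
  rw [Subgroup.sup_eq_closure_mul] at hn'
  have key : ∀ x ∈ Subgroup.closure
      (((Subgroup.closure P.S : Subgroup G) : Set G) * ((P.B ⊓ P.N : Subgroup G) : Set G)),
      ∃ c ∈ Subgroup.closure P.S, ∃ t ∈ P.B ⊓ P.N, x = c * t := by
    intro x hx
    induction hx using Subgroup.closure_induction with
    | mem x hx =>
      obtain ⟨c, hc, t, ht, rfl⟩ := hx
      exact ⟨c, hc, t, ht, rfl⟩
    | one => exact ⟨1, one_mem _, 1, one_mem _, by rw [mul_one]⟩
    | mul x y _ _ hx hy =>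
      obtain ⟨c, hc, t, ht, rfl⟩ := hx
      obtain ⟨c', hc', t', ht', rfl⟩ := hy
      refine ⟨c * c', mul_mem hc hc', (c'⁻¹ * t * c') * t',
        mul_mem (conj_mem_T' P (hcN hc') ht) ht', ?_⟩
      group
    | inv x _ hx =>
      obtain ⟨c, hc, t, ht, rfl⟩ := hx
      refine ⟨c⁻¹, inv_mem hc, c * t⁻¹ * c⁻¹, conj_mem_T P (hcN hc) (inv_mem ht), ?_⟩
      group
  exact key n hn'

end aux

/-! ### Change of representatives -/

/-- replace the distinguished representatives by other representatives modulo `B ⊓ N` -/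
def changeS (P : BNPair G) (S' : Set G)
    (h1 : ∀ s' ∈ S', ∃ s ∈ P.S, ∃ t ∈ P.B ⊓ P.N, s' = s * t)
    (h2 : ∀ s ∈ P.S, ∃ s' ∈ S', ∃ t ∈ P.B ⊓ P.N, s' = s * t)
    (h3 : ∀ s₁ ∈ S', ∀ s₂ ∈ S', s₁⁻¹ * s₂ ∈ P.B → s₁ = s₂) : BNPair G where
  B := P.B
  N := P.N
  S := S'
  sup_eq_top := P.sup_eq_top
  conj_mem := P.conj_mem
  subset := by
    intro s' hs'
    obtain ⟨s, hs, t, ht, rfl⟩ := h1 s' hs'
    exact P.N.mul_mem (P.subset hs) ht.2
  sq_mem := by
    intro s' hs'
    obtain ⟨s, hs, t, ht, rfl⟩ := h1 s' hs'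
    have e : s * t * (s * t) = (s * s) * ((s⁻¹ * t * s) * t) := by group
    rw [e]
    exact P.B.mul_mem (P.sq_mem s hs)
      (P.B.mul_mem (conj_mem_T' P (P.subset hs) ht).1 ht.1)
  inj := h3
  closure_sup := by
    apply le_antisymm
    · apply sup_le
      · rw [Subgroup.closure_le]
        intro s' hs'
        obtain ⟨s, hs, t, ht, rfl⟩ := h1 s' hs'
        exact P.N.mul_mem (P.subset hs) ht.2
      · exact inf_le_right
    · intro n hn
      obtain ⟨c, hc, t, ht, rfl⟩ := exists_closure_mul P hn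
      have hle : Subgroup.closure P.S ≤ Subgroup.closure S' ⊔ (P.B ⊓ P.N) := by
        rw [Subgroup.closure_le]
        intro s hs
        obtain ⟨s', hs', t, ht, e⟩ := h2 s hs
        have e' : s = s' * t⁻¹ := by rw [e]; group
        rw [e']
        exact Subgroup.mul_mem _ (Subgroup.mem_sup_left (Subgroup.subset_closure hs'))
          (Subgroup.mem_sup_right (inv_mem ht))
      exact Subgroup.mul_mem _ (hle hc) (Subgroup.mem_sup_right ht)
  mul_mem_union := by
    intro s' hs' n hn b hb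
    obtain ⟨s, hs, t, ht, rfl⟩ := h1 s' hs'
    have h := P.mul_mem_union s hs n hn (t * b) (P.B.mul_mem ht.1 hb)
    have e1 : s * t * b * n = s * (t * b) * n := by group
    have e2 : doubleCoset (s * t * n) (P.B : Set G) P.B = doubleCoset (s * n) (P.B : Set G) P.B := by
      apply doubleCoset_eq_of_mem
      rw [mem_doubleCoset]
      refine ⟨1, one_mem _, n⁻¹ * t * n, (conj_mem_T' P hn ht).1, ?_⟩
      group
    rw [e1, e2]
    exact h
  conj_ne := by
    intro s' hs' heq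
    obtain ⟨s, hs, t, ht, rfl⟩ := h1 s' hs'
    apply P.conj_ne s hs
    apply Set.Subset.antisymm
    · rintro x ⟨b, hb, rfl⟩
      have h1' : s * t * (t⁻¹ * b) * (s * t) ∈ (P.B : Set G) := by
        rw [← heq]
        exact ⟨t⁻¹ * b, P.B.mul_mem (P.B.inv_mem ht.1) hb, rfl⟩
      have e : s * b * s = (s * t * (t⁻¹ * b) * (s * t)) * t⁻¹ := by group
      show s * b * s ∈ P.B
      rw [e]
      exact P.B.mul_mem h1' (P.B.inv_mem ht.1)
    · intro b hb
      have hbt : b * t ∈ (P.B : Set G) := P.B.mul_mem hb ht.1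
      rw [← heq] at hbt
      obtain ⟨b₂, hb₂, e⟩ := hbt
      refine ⟨t * b₂, P.B.mul_mem ht.1 hb₂, ?_⟩
      have e' : s * t * b₂ * (s * t) = b * t := e
      have : s * (t * b₂) * s = (s * t * b₂ * (s * t)) * t⁻¹ := by group
      show s * (t * b₂) * s = b
      rw [this, e']
      group

/-! ### Pull back along an injective homomorphism -/

section comap

variable {H : Type*} [Group H]

theorem mem_closure_preimage (ι : H →* G) (S : Set G)
    (hS : S ⊆ (ι.range : Set G)) {c : G} (hc : c ∈ Subgroup.closure S) :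
    ∃ h : H, ι h = c ∧ h ∈ Subgroup.closure (ι ⁻¹' S) := by
  induction hc using Subgroup.closure_induction with
  | mem x hx =>
    obtain ⟨h, rfl⟩ := hS hx
    exact ⟨h, rfl, Subgroup.subset_closure hx⟩
  | one => exact ⟨1, map_one _, one_mem _⟩
  | mul x y _ _ hx hy =>
    obtain ⟨h, rfl, hh⟩ := hx
    obtain ⟨h', rfl, hh'⟩ := hy
    exact ⟨h * h', map_mul _ _ _, mul_mem hh hh'⟩
  | inv x _ hx =>
    obtain ⟨h, rfl, hh⟩ := hx
    exact ⟨h⁻¹, map_inv _ _, inv_mem hh⟩

/-- pull back a `(B, N)`-pair along an injective homomorphism -/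
def comapInj (P : BNPair G) (ι : H →* G) (hι : Function.Injective ι)
    (hS : P.S ⊆ (ι.range : Set G))
    (hT : ∀ g : G, ∃ t ∈ P.B ⊓ P.N, g * t ∈ ι.range) : BNPair H where
  B := P.B.comap ι
  N := P.N.comap ι
  S := ι ⁻¹' P.S
  sup_eq_top := by
    rw [eq_top_iff]
    intro h _
    obtain ⟨n, hn⟩ := BN.exists_N_mem_D P (ι h)
    rw [BN.mem_D] at hn
    obtain ⟨b, hb, b', hb', e⟩ := hn
    obtain ⟨t, ht, ⟨h₁, e₁⟩⟩ := hT b
    obtain ⟨t', ht', ⟨h₂, e₂⟩⟩ := hT b'⁻¹
    -- `b = ι h₁ * t⁻¹`, `b' = t' * (ι h₂)⁻¹`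
    have hb1 : b = ι h₁ * t⁻¹ := by rw [e₁]; group
    have hb2 : b' = t' * (ι h₂)⁻¹ := by rw [e₂]; group
    have hmid : t⁻¹ * (n : G) * t' = ι (h₁⁻¹ * h * h₂) := by
      rw [map_mul, map_mul, map_inv, e, hb1, hb2]
      group
    have hmidN : t⁻¹ * (n : G) * t' ∈ P.N :=
      P.N.mul_mem (P.N.mul_mem (P.N.inv_mem ht.2) n.2) ht'.2
    have h1B : h₁ ∈ P.B.comap ι := by
      rw [Subgroup.mem_comap, e₁]
      exact P.B.mul_mem hb ht.1
    have h2B : h₂ ∈ P.B.comap ι := by
      rw [Subgroup.mem_comap, e₂]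
      exact P.B.mul_mem (P.B.inv_mem hb') ht'.1
    have hmN : h₁⁻¹ * h * h₂ ∈ P.N.comap ι := by
      rw [Subgroup.mem_comap, ← hmid]
      exact hmidN
    have : h = h₁ * (h₁⁻¹ * h * h₂) * h₂⁻¹ := by group
    rw [this]
    exact Subgroup.mul_mem _ (Subgroup.mul_mem _ (Subgroup.mem_sup_left h1B)
      (Subgroup.mem_sup_right hmN)) (Subgroup.mem_sup_left (inv_mem h2B))
  conj_mem := by
    intro n hn t ht
    rw [Subgroup.mem_comap, map_mul, map_mul, map_inv]
    exact P.conj_mem (ι n) hn (ι t) ⟨ht.1, ht.2⟩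
  subset := by
    intro s hs
    exact P.subset hs
  sq_mem := by
    intro s hs
    rw [Subgroup.mem_comap, map_mul]
    exact P.sq_mem (ι s) hs
  inj := by
    intro s hs s' hs' h
    apply hι
    apply P.inj (ι s) hs (ι s') hs'
    rw [Subgroup.mem_comap, map_mul, map_inv] at h
    exact h
  closure_sup := by
    apply le_antisymm
    · apply sup_le
      · rw [Subgroup.closure_le]
        intro s hs
        exact P.subset hs
      · exact inf_le_right
    · intro n hn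
      obtain ⟨c, hc, t, ht, e⟩ := exists_closure_mul P (show ι n ∈ P.N from hn)
      obtain ⟨h, rfl, hh⟩ := mem_closure_preimage ι P.S hS hc
      have ht' : t = ι (h⁻¹ * n) := by
        rw [map_mul, map_inv, e]; group
      have : n = h * (h⁻¹ * n) := by group
      rw [this]
      refine Subgroup.mul_mem _ (Subgroup.mem_sup_left hh) (Subgroup.mem_sup_right ?_)
      constructor
      · show ι (h⁻¹ * n) ∈ P.B
        rw [← ht']; exact ht.1
      · show ι (h⁻¹ * n) ∈ P.N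
        rw [← ht']; exact ht.2
  mul_mem_union := by
    intro s hs n hn b hb
    have hsN : ι s ∈ P.N := P.subset hs
    have key : ∀ m : H, ι m ∈ P.N → ι (s * b * n) ∈ doubleCoset (ι m) (P.B : Set G) P.B →
        s * b * n ∈ doubleCoset m ((P.B.comap ι : Subgroup H) : Set H) (P.B.comap ι) := by
      intro m hm hmem
      rw [mem_doubleCoset] at hmem ⊢
      obtain ⟨b₁, hb₁, b₂, hb₂, e⟩ := hmem
      obtain ⟨t, ht, ⟨h₁, e₁⟩⟩ := hT b₁
      -- `b₁ = ι h₁ * t⁻¹`
      have hb1 : b₁ = ι h₁ * t⁻¹ := by rw [e₁]; group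
      have h1B : h₁ ∈ P.B.comap ι := by
        rw [Subgroup.mem_comap, e₁]
        exact P.B.mul_mem hb₁ ht.1
      refine ⟨h₁, h1B, m⁻¹ * h₁⁻¹ * (s * b * n), ?_, by group⟩
      show ι (m⁻¹ * h₁⁻¹ * (s * b * n)) ∈ P.B
      have e3 : ι (m⁻¹ * h₁⁻¹ * (s * b * n)) = ((ι m)⁻¹ * t⁻¹ * ι m) * b₂ := by
        rw [map_mul, map_mul, map_inv, map_inv, e, hb1]
        group
      rw [e3]
      exact P.B.mul_mem (conj_mem_T' P hm (inv_mem ht)).1 hb₂
    have h := P.mul_mem_union (ι s) hs (ι n) hn (ι b) hb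
    rw [← map_mul, ← map_mul, ← map_mul] at h
    rcases h with h | h
    · left
      exact key (s * n) (by rw [map_mul]; exact P.N.mul_mem hsN hn) h
    · right
      exact key n hn h
  conj_ne := by
    intro s hs heq
    apply P.conj_ne (ι s) hs
    have hsN : ι s ∈ P.N := P.subset hs
    apply Set.Subset.antisymm
    · rintro x ⟨b, hb, rfl⟩
      obtain ⟨t, ht, ⟨h₁, e₁⟩⟩ := hT b
      have h1B : h₁ ∈ ((P.B.comap ι : Subgroup H) : Set H) := by
        show ι h₁ ∈ P.B
        rw [e₁]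
        exact P.B.mul_mem hb ht.1
      have h2 : s * h₁ * s ∈ ((P.B.comap ι : Subgroup H) : Set H) := by
        rw [← heq]
        exact ⟨h₁, h1B, rfl⟩
      have h2' : ι s * (b * t) * ι s ∈ P.B := by
        have : ι (s * h₁ * s) ∈ P.B := h2
        rwa [map_mul, map_mul, e₁] at this
      have e : ι s * b * ι s = (ι s * (b * t) * ι s) * ((ι s)⁻¹ * t⁻¹ * ι s) := by group
      show ι s * b * ι s ∈ P.B
      rw [e]
      exact P.B.mul_mem h2' (conj_mem_T' P hsN (inv_mem ht)).1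
    · intro b hb
      obtain ⟨t, ht, ⟨h₁, e₁⟩⟩ := hT b
      have h1B : h₁ ∈ ((P.B.comap ι : Subgroup H) : Set H) := by
        show ι h₁ ∈ P.B
        rw [e₁]
        exact P.B.mul_mem hb ht.1
      rw [← heq] at h1B
      obtain ⟨h₂, hh₂, e₂⟩ := h1B
      have e₂' : ι s * ι h₂ * ι s = b * t := by
        have := congrArg ι e₂
        rw [map_mul, map_mul] at this
        rw [this, e₁]
      refine ⟨ι h₂ * (ι s * t⁻¹ * (ι s)⁻¹), P.B.mul_mem hh₂ (conj_mem_T P hsN (inv_mem ht)).1, ?_⟩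
      show ι s * (ι h₂ * (ι s * t⁻¹ * (ι s)⁻¹)) * ι s = b
      have : ι s * (ι h₂ * (ι s * t⁻¹ * (ι s)⁻¹)) * ι s = (ι s * ι h₂ * ι s) * t⁻¹ := by group
      rw [this, e₂']
      group

end comap

/-! ### Push forward along a surjective homomorphism -/

section map

variable {G' : Type*} [Group G']

theorem mem_of_map_mem (P : BNPair G) (f : G →* G') (hker : f.ker ≤ P.B) {x : G}
    (hx : f x ∈ P.B.map f) : x ∈ P.B := by
  obtain ⟨b, hb, e⟩ := hx
  have : b⁻¹ * x ∈ f.ker := by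
    rw [MonoidHom.mem_ker, map_mul, map_inv, e, inv_mul_cancel]
  have h2 := hker this
  have : x = b * (b⁻¹ * x) := by group
  rw [this]
  exact P.B.mul_mem hb h2

/-- push a `(B, N)`-pair forward along a surjective homomorphism whose kernel lies in `B` -/
def mapSurj (P : BNPair G) (f : G →* G') (hf : Function.Surjective f) (hker : f.ker ≤ P.B) :
    BNPair G' where
  B := P.B.map f
  N := P.N.map f
  S := f '' P.S
  sup_eq_top := by
    rw [← Subgroup.map_sup, P.sup_eq_top]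
    exact Subgroup.map_top_of_surjective f hf
  conj_mem := by
    rintro _ ⟨n, hn, rfl⟩ t' ⟨htB, ⟨n₁, hn₁, rfl⟩⟩
    have hn₁B : n₁ ∈ P.B := mem_of_map_mem P f hker htB
    refine ⟨n * n₁ * n⁻¹, P.conj_mem n hn n₁ ⟨hn₁B, hn₁⟩, ?_⟩
    rw [map_mul, map_mul, map_inv]
  subset := by
    rintro _ ⟨s, hs, rfl⟩
    exact ⟨s, P.subset hs, rfl⟩
  sq_mem := by
    rintro _ ⟨s, hs, rfl⟩
    exact ⟨s * s, P.sq_mem s hs, map_mul _ _ _⟩
  inj := by
    rintro _ ⟨s, hs, rfl⟩ _ ⟨s', hs', rfl⟩ h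
    rw [← map_inv, ← map_mul] at h
    rw [P.inj s hs s' hs' (mem_of_map_mem P f hker h)]
  closure_sup := by
    have h1 : Subgroup.closure (f '' P.S) = (Subgroup.closure P.S).map f :=
      (MonoidHom.map_closure f P.S).symm
    have h2 : P.B.map f ⊓ P.N.map f = (P.B ⊓ P.N).map f := by
      apply le_antisymm
      · rintro x ⟨hxB, ⟨n₁, hn₁, rfl⟩⟩
        exact ⟨n₁, ⟨mem_of_map_mem P f hker hxB, hn₁⟩, rfl⟩
      · exact Subgroup.map_inf_le _ _ _
    rw [h1, h2, ← Subgroup.map_sup, P.closure_sup]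
  mul_mem_union := by
    rintro _ ⟨s, hs, rfl⟩ _ ⟨n, hn, rfl⟩ _ ⟨b, hb, rfl⟩
    have key : ∀ m : G, s * b * n ∈ doubleCoset m (P.B : Set G) P.B →
        f s * f b * f n ∈ doubleCoset (f m) ((P.B.map f : Subgroup G') : Set G') (P.B.map f) := by
      intro m hm
      rw [mem_doubleCoset] at hm ⊢
      obtain ⟨b₁, hb₁, b₂, hb₂, e⟩ := hm
      refine ⟨f b₁, ⟨b₁, hb₁, rfl⟩, f b₂, ⟨b₂, hb₂, rfl⟩, ?_⟩
      rw [← map_mul, ← map_mul, e, map_mul, map_mul]
    rcases P.mul_mem_union s hs n hn b hb with h | h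
    · left
      rw [← map_mul f s n]
      exact key _ h
    · right
      exact key _ h
  conj_ne := by
    rintro _ ⟨s, hs, rfl⟩ heq
    apply P.conj_ne s hs
    apply Set.Subset.antisymm
    · rintro x ⟨b, hb, rfl⟩
      apply mem_of_map_mem P f hker
      have : f s * f b * f s ∈ ((P.B.map f : Subgroup G') : Set G') := by
        rw [← heq]
        exact ⟨f b, ⟨b, hb, rfl⟩, rfl⟩
      rw [map_mul, map_mul]
      exact this
    · intro b hb
      have hfb : f b ∈ ((P.B.map f : Subgroup G') : Set G') := ⟨b, hb, rfl⟩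
      rw [← heq] at hfb
      obtain ⟨_, ⟨b₂, hb₂, rfl⟩, e⟩ := hfb
      have e' : f (s * b₂ * s) = f b := by rw [map_mul, map_mul]; exact e
      have hk : (s * b₂ * s)⁻¹ * b ∈ f.ker := by
        rw [MonoidHom.mem_ker, map_mul, map_inv, e', inv_mul_cancel]
      have hk' : s * ((s * b₂ * s)⁻¹ * b) * s⁻¹ ∈ f.ker := by
        rw [MonoidHom.mem_ker] at hk ⊢
        rw [map_mul, map_mul, hk, mul_one, map_inv, mul_inv_cancel]
      refine ⟨b₂ * (s * ((s * b₂ * s)⁻¹ * b) * s⁻¹), P.B.mul_mem hb₂ (hker hk'), ?_⟩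
      show s * (b₂ * (s * ((s * b₂ * s)⁻¹ * b) * s⁻¹)) * s = b
      group

end map

end Cfsg.Agent.Lib.H7AutPSL
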