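import Cfsg.Agent.Lib.Helper7.AutPSL.Hilbert90
import Mathlib

/-!
# The fixed field of an automorphism of a finite field (helper7)

If `σ` has order `r` on the field `F` with `p ^ f` elements then `r ∣ f` and any field `F₀` with
`p ^ (f / r)` elements embeds in `F` with image the fixed field of `σ` (Artin's theorem).
-/

set_option autoImplicit false

namespace Cfsg.Agent.Lib.H7AutPSL

open Module

variable {F : Type*} [Field F]

theorem mem_fixed_iff (σ : RingAut F) (t : F) :
    t ∈ FixedPoints.subfield (Subgroup.zpowers σ) F ↔ σ t = t := by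
  constructor
  · intro h
    exact h ⟨σ, Subgroup.mem_zpowers σ⟩
  · intro h g
    have hle : Subgroup.zpowers σ ≤ MulAction.stabilizer (RingAut F) t := by
      rw [Subgroup.zpowers_le]
      exact h
    exact hle g.2

/-- **the fixed field of an automorphism of order `r`** -/
theorem exists_fixed_embedding [Fintype F] (p f : ℕ) [hp : Fact p.Prime]
    (hF : Fintype.card F = p ^ f) (σ : RingAut F) (r : ℕ) (hr : 0 < r) (hσ : orderOf σ = r)
    (F₀ : Type*) [Field F₀] [Fintype F₀] (hF₀ : Fintype.card F₀ = p ^ (f / r)) :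
    r ∣ f ∧ ∃ ι : F₀ →+* F, ∀ t : F, σ t = t ↔ ∃ s, ι s = t := by
  classical
  have hfo : IsOfFinOrder σ := orderOf_pos_iff.1 (by omega)
  have hfin : Finite (Subgroup.zpowers σ) := Set.finite_coe_iff.2 hfo.finite_zpowers
  let _ : Fintype (Subgroup.zpowers σ) := Fintype.ofFinite _
  let _ : Fintype (FixedPoints.subfield (Subgroup.zpowers σ) F) := Fintype.ofFinite _
  have h1 : finrank (FixedPoints.subfield (Subgroup.zpowers σ) F) F = r := by
    rw [FixedPoints.finrank_eq_card, ← Nat.card_eq_fintype_card, Nat.card_zpowers, hσ]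
  have h2 := Module.card_eq_pow_finrank (K := FixedPoints.subfield (Subgroup.zpowers σ) F) (V := F)
  rw [h1, hF] at h2
  have h3 : Fintype.card (FixedPoints.subfield (Subgroup.zpowers σ) F) ∣ p ^ f := by
    rw [h2]
    exact dvd_pow_self _ (by omega)
  obtain ⟨k, -, hk⟩ := (Nat.dvd_prime_pow hp.out).1 h3
  rw [hk, ← pow_mul] at h2
  have h4 : f = k * r := Nat.pow_right_injective hp.out.two_le h2
  have h5 : f / r = k := by rw [h4, Nat.mul_div_cancel _ hr]
  refine ⟨⟨k, by rw [h4, mul_comm]⟩, ?_⟩
  rw [h5, ← hk] at hF₀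
  let e := FiniteField.ringEquivOfCardEq hF₀
  refine ⟨(FixedPoints.subfield (Subgroup.zpowers σ) F).subtype.comp e.toRingHom, ?_⟩
  intro t
  rw [← mem_fixed_iff]
  constructor
  · intro ht
    refine ⟨e.symm ⟨t, ht⟩, ?_⟩
    simp
  · rintro ⟨s, rfl⟩
    exact (e s).2

end Cfsg.Agent.Lib.H7AutPSL
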