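import Cfsg.Agent.Lib.Helper7.AutPSL.SplitClass
import Cfsg.Agent.Lib.Lead.AutPSLCountD
import Mathlib

/-!
# Class splitting in `Inndiag(PSL_n(F))` under `Inn` (helper7)

Conjugation invariance of the split class count, and its computation for `PSL_n(F)`: the number of
`Inn`-classes in the `Inndiag`-class of `X` is the index in `Fˣ` of the determinants of the matrices
whose inner-diagonal automorphism centralises `X`.
-/

set_option autoImplicit false

namespace Cfsg.Agent.Lib.H7AutPSL

open Cfsg

section generic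

variable {A : Type*} [Group A]

theorem map_conj_of_normal (H : Subgroup A) [hH : H.Normal] (α : A) :
    H.map (MulAut.conj α).toMonoidHom = H := by
  ext y
  constructor
  · rintro ⟨z, hz, rfl⟩
    exact hH.conj_mem z hz α
  · intro hy
    refine ⟨α⁻¹ * y * α, ?_, ?_⟩
    · have := hH.conj_mem y hy α⁻¹
      rwa [inv_inv] at this
    · show α * (α⁻¹ * y * α) * α⁻¹ = y
      group

theorem centralizer_conj (α x : A) :
    Subgroup.centralizer {α * x * α⁻¹} =
      (Subgroup.centralizer {x}).map (MulAut.conj α).toMonoidHom := by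
  ext y
  rw [mem_centralizer_singleton]
  constructor
  · intro hy
    refine ⟨α⁻¹ * y * α, ?_, ?_⟩
    · rw [SetLike.mem_coe, mem_centralizer_singleton]
      have : x = α⁻¹ * (α * x * α⁻¹) * α := by group
      calc α⁻¹ * y * α * x = α⁻¹ * (y * (α * x * α⁻¹)) * α := by group
        _ = α⁻¹ * ((α * x * α⁻¹) * y) * α := by rw [hy]
        _ = x * (α⁻¹ * y * α) := by group
    · show α * (α⁻¹ * y * α) * α⁻¹ = y
      group
  · rintro ⟨z, hz, rfl⟩
    rw [SetLike.mem_coe, mem_centralizer_singleton] at hz
    show α * z * α⁻¹ * (α * x * α⁻¹) = α * x * α⁻¹ * (α * z * α⁻¹)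
    calc α * z * α⁻¹ * (α * x * α⁻¹) = α * (z * x) * α⁻¹ := by group
      _ = α * (x * z) * α⁻¹ := by rw [hz]
      _ = _ := by group

theorem splitSub_conj (D K : Subgroup A) [D.Normal] [K.Normal] (α x : A) :
    splitSub D K (α * x * α⁻¹) = (splitSub D K x).map (MulAut.conj α).toMonoidHom := by
  unfold splitSub
  rw [Subgroup.map_sup, Subgroup.map_inf _ _ _ (MulAut.conj α).injective, map_conj_of_normal K,
    map_conj_of_normal D, centralizer_conj]

/-- the split class count is invariant under conjugation by any element -/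
theorem splitClassCount_conj (D K : Subgroup A) (hKD : K ≤ D) [D.Normal] [K.Normal] (α x : A) :
    Cfsg.splitClassCount D K (α * x * α⁻¹) = Cfsg.splitClassCount D K x := by
  rw [splitClassCount_eq D K hKD, splitClassCount_eq D K hKD, splitSub_conj]
  calc ((splitSub D K x).map (MulAut.conj α).toMonoidHom).relIndex D
      = ((splitSub D K x).map (MulAut.conj α).toMonoidHom).relIndex
          (D.map (MulAut.conj α).toMonoidHom) := by rw [map_conj_of_normal D α]
    _ = (splitSub D K x).relIndex D :=
        Subgroup.relIndex_map_map_of_injective (f := (MulAut.conj α).toMonoidHom) _ _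
          (MulAut.conj α).injective

/-- the centralisers in `D` of conjugate elements are isomorphic -/
noncomputable def centralizerConjEquiv (D : Subgroup A) [D.Normal] (α x : A) :
    ↥(D ⊓ Subgroup.centralizer {x}) ≃* ↥(D ⊓ Subgroup.centralizer {α * x * α⁻¹}) :=
  ((D ⊓ Subgroup.centralizer {x}).equivMapOfInjective (MulAut.conj α).toMonoidHom
    (MulAut.conj α).injective).trans
    (MulEquiv.subgroupCongr (by
      rw [Subgroup.map_inf _ _ _ (MulAut.conj α).injective, map_conj_of_normal D,
        centralizer_conj]))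

end generic

/-! ### `PSL_n(F)` -/

open Matrix Cfsg.Agent.AutPSLCount

variable {n : ℕ} {F : Type*} [Field F]

/-- the matrices whose inner-diagonal automorphism centralises `X` -/
noncomputable def centGL (X : MulAut (PSLn n F)) : Subgroup (GL (Fin n) F) :=
  (Subgroup.centralizer {X}).comap Dh

theorem mem_centGL (X : MulAut (PSLn n F)) (g : GL (Fin n) F) :
    g ∈ centGL X ↔ Dh g * X = X * Dh g := by
  unfold centGL
  rw [Subgroup.mem_comap, mem_centralizer_singleton]

theorem det_surjective (hn : 1 ≤ n) :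
    Function.Surjective (Matrix.GeneralLinearGroup.det : GL (Fin n) F →* Fˣ) := by
  intro t
  exact ⟨dgHom n F ⟨0, by omega⟩ t, det_dgHom _ t⟩

/-- **The class splitting for `PSL_n(F)`.** -/
theorem splitClassCount_psl (hn : 2 ≤ n) (X : MulAut (PSLn n F)) :
    Cfsg.splitClassCount (Dsub n F) (Cfsg.Inn (PSLn n F)) X =
      ((centGL X).map (Matrix.GeneralLinearGroup.det : GL (Fin n) F →* Fˣ)).index := by
  rw [splitClassCount_eq _ _ inn_le_Dsub]
  have h1 : ((splitSub (Dsub n F) (Cfsg.Inn (PSLn n F)) X).comap Dh).index =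
      (splitSub (Dsub n F) (Cfsg.Inn (PSLn n F)) X).relIndex (Dsub n F) :=
    Subgroup.index_comap _ Dh
  rw [← h1]
  -- the kernel of the determinant
  have hker : (Matrix.GeneralLinearGroup.det : GL (Fin n) F →* Fˣ).ker ≤
      (splitSub (Dsub n F) (Cfsg.Inn (PSLn n F)) X).comap Dh := by
    intro g hg
    obtain ⟨s, rfl⟩ := exists_toGL g hg
    rw [Subgroup.mem_comap, ← conj_pr]
    exact Subgroup.mem_sup_left ⟨pr s, rfl⟩
  rw [← Subgroup.index_map_eq _ (det_surjective (by omega)) hker]
  congr 1
  apply le_antisymm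
  · rintro _ ⟨g, hg, rfl⟩
    rw [SetLike.mem_coe, Subgroup.mem_comap, mem_splitSub_iff] at hg
    obtain ⟨k, ⟨y, rfl⟩, c, hc, e⟩ := hg
    obtain ⟨s, rfl⟩ := pr_surjective y
    have e2 : c = Dh ((SpecialLinearGroup.toGL s)⁻¹ * g) := by
      rw [map_mul, map_inv, e, ← conj_pr]
      show c = (MulAut.conj (pr s))⁻¹ * (MulAut.conj (pr s) * c)
      rw [inv_mul_cancel_left]
    refine ⟨(SpecialLinearGroup.toGL s)⁻¹ * g, ?_, ?_⟩
    · rw [SetLike.mem_coe, centGL, Subgroup.mem_comap, ← e2]
      exact (Subgroup.mem_inf.1 hc).2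
    · rw [map_mul, map_inv, det_toGL, inv_one, one_mul]
  · apply Subgroup.map_mono
    intro g hg
    rw [Subgroup.mem_comap]
    exact Subgroup.mem_sup_right (Subgroup.mem_inf.2 ⟨⟨g, rfl⟩, hg⟩)

end Cfsg.Agent.Lib.H7AutPSL
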