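import Cfsg.Agent.Lib.Helper7.AutPSL.Hilbert90
import Mathlib

/-!
# Hermitian forms over a finite field (helper7)

For a field automorphism `σ` of order two of a finite field: every nondegenerate `σ`-Hermitian form
has an orthonormal basis; in matrix terms, an invertible matrix `M` with `M = σ(M)ᵀ` is
`P⁻¹ σ(P⁻¹)ᵀ`, i.e. `P M σ(P)ᵀ = 1` for some invertible `P`.
-/

set_option autoImplicit false

namespace Cfsg.Agent.Lib.H7AutPSL

open Matrix

universe u

variable {F : Type u} [Field F]

/-- a `σ`-Hermitian form: linear in the first variable, `H v u = σ (H u v)` -/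
structure HermForm (σ : RingAut F) (V : Type*) [AddCommGroup V] [Module F V] where
  /-- the form -/
  H : V → V → F
  add_left : ∀ u u' v, H (u + u') v = H u v + H u' v
  smul_left : ∀ (t : F) u v, H (t • u) v = t * H u v
  conj : ∀ u v, H v u = σ (H u v)

namespace HermForm

variable {σ : RingAut F} {V : Type*} [AddCommGroup V] [Module F V] (h : HermForm σ V)

theorem add_right (u v v' : V) : h.H u (v + v') = h.H u v + h.H u v' := by
  rw [h.conj (v + v') u, h.add_left, map_add, ← h.conj, ← h.conj]

theorem smul_right (t : F) (u v : V) : h.H u (t • v) = σ t * h.H u v := by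
  rw [h.conj (t • v) u, h.smul_left, map_mul, ← h.conj]

theorem zero_left (v : V) : h.H 0 v = 0 := by
  have := h.smul_left 0 0 v
  rw [zero_smul, zero_mul] at this
  exact this

theorem zero_right (u : V) : h.H u 0 = 0 := by
  rw [h.conj 0 u, h.zero_left, map_zero]

theorem neg_left (u v : V) : h.H (-u) v = - h.H u v := by
  have := h.smul_left (-1) u v
  rw [neg_one_smul, neg_one_mul] at this
  exact this

theorem sub_left (u u' v : V) : h.H (u - u') v = h.H u v - h.H u' v := by
  rw [sub_eq_add_neg, h.add_left, h.neg_left, ← sub_eq_add_neg]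

/-- nondegeneracy -/
def Nondeg : Prop := ∀ u, (∀ v, h.H u v = 0) → u = 0

/-- the linear functional `u ↦ H u v` -/
def toLin (v : V) : V →ₗ[F] F where
  toFun u := h.H u v
  map_add' u u' := h.add_left u u' v
  map_smul' t u := h.smul_left t u v

/-- the restriction to a subspace -/
def restrict (W : Submodule F V) : HermForm σ W where
  H w w' := h.H (w : V) (w' : V)
  add_left _ _ _ := h.add_left _ _ _
  smul_left _ _ _ := h.smul_left _ _ _
  conj _ _ := h.conj _ _

/-- a nonzero Hermitian form has a non-isotropic vector -/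
theorem exists_nonisotropic (hσ : σ ≠ 1) (hne : ∃ u v, h.H u v ≠ 0) : ∃ v, h.H v v ≠ 0 := by
  by_contra hcon
  simp only [not_exists, not_not] at hcon
  obtain ⟨u, w, huw⟩ := hne
  obtain ⟨t, ht⟩ : ∃ t : F, σ t ≠ t := by
    by_contra hall
    simp only [not_exists, not_not] at hall
    apply hσ
    ext t
    exact hall t
  -- `H u w + σ (H u w) = 0` for all `u`, `w`
  have hsym : ∀ u w : V, h.H u w + σ (h.H u w) = 0 := by
    intro u w
    have e := hcon (u + w)
    rw [h.add_left, h.add_right, h.add_right, hcon u, hcon w, zero_add, add_zero,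
      h.conj u w] at e
    exact e
  have e1 := hsym u w
  have e2 := hsym (t • u) w
  rw [h.smul_left, map_mul] at e2
  have e3 : σ (h.H u w) = - h.H u w := by linear_combination e1
  rw [e3] at e2
  have e4 : (t - σ t) * h.H u w = 0 := by linear_combination e2
  rcases mul_eq_zero.1 e4 with e5 | e5
  · exact ht (sub_eq_zero.1 e5).symm
  · exact huw e5

end HermForm

section finite

variable [Finite F]

/-- **Orthonormal bases** for nondegenerate Hermitian forms over a finite field -/
theorem exists_orthonormal (σ : RingAut F) (hσ2 : σ ^ 2 = 1) (hσ1 : σ ≠ 1) :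
    ∀ (d : ℕ) (V : Type u) [AddCommGroup V] [Module F V] [FiniteDimensional F V],
      Module.finrank F V = d → ∀ h : HermForm σ V, h.Nondeg →
        ∃ e : Fin d → V, ∀ i j, h.H (e i) (e j) = if i = j then 1 else 0 := by
  intro d
  induction d with
  | zero =>
    intro V _ _ _ _ h _
    exact ⟨Fin.elim0, fun i => i.elim0⟩
  | succ d ih =>
    intro V _ _ _ hd h hnd
    -- a nonzero vector
    have hpos : 0 < Module.finrank F V := by omega
    obtain ⟨u₀, hu₀⟩ := Module.finrank_pos_iff_exists_ne_zero.1 hpos
    have hne : ∃ u v, h.H u v ≠ 0 := by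
      by_contra hcon
      simp only [not_exists, not_not] at hcon
      exact hu₀ (hnd u₀ (hcon u₀))
    obtain ⟨v, hv⟩ := h.exists_nonisotropic hσ1 hne
    -- normalise `v`
    have hinj : ∀ i j, i < 2 → j < 2 → σ ^ i = σ ^ j → i = j := by
      intro i j hi hj hij
      interval_cases i <;> interval_cases j
      · rfl
      · rw [pow_zero, pow_one] at hij; exact absurd hij.symm hσ1
      · rw [pow_zero, pow_one] at hij; exact absurd hij hσ1
      · rfl
    have hfix : σ (h.H v v) = h.H v v := (h.conj v v).symm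
    obtain ⟨μ, hμ0, hμ⟩ := norm_surj σ 2 (by norm_num) hσ2 hinj (h.H v v) hv hfix
    have hμ' : μ * σ μ = h.H v v := by
      rw [← hμ]
      unfold fnorm
      rw [Finset.prod_range_succ, Finset.prod_range_one, pow_zero, pow_one]
      rfl
    obtain ⟨v', hv'⟩ : ∃ v' : V, h.H v' v' = 1 := by
      refine ⟨μ⁻¹ • v, ?_⟩
      rw [h.smul_left, h.smul_right, ← hμ', map_inv₀]
      have : σ μ ≠ 0 := (map_ne_zero _).2 hμ0
      field_simp
    -- the orthogonal complement
    obtain ⟨W, hW⟩ : ∃ W : Submodule F V, W = LinearMap.ker (h.toLin v') := ⟨_, rfl⟩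
    have hmemW : ∀ u : V, u ∈ W ↔ h.H u v' = 0 := by
      intro u
      rw [hW]
      exact Iff.rfl
    have hsurj : Function.Surjective (h.toLin v') := by
      intro c
      refine ⟨c • v', ?_⟩
      show h.H (c • v') v' = c
      rw [h.smul_left, hv', mul_one]
    have hrk : Module.finrank F W = d := by
      have e := LinearMap.finrank_range_add_finrank_ker (h.toLin v')
      rw [LinearMap.range_eq_top.2 hsurj, finrank_top, Module.finrank_self, hd, ← hW] at e
      omega
    have hndW : (h.restrict W).Nondeg := by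
      intro w hw
      apply Subtype.ext
      apply hnd
      intro u
      have hu : u - h.H u v' • v' ∈ W := by
        rw [hmemW, h.sub_left, h.smul_left, hv', mul_one, sub_self]
      have e1 := hw ⟨_, hu⟩
      have e2 : h.H (w : V) (u - h.H u v' • v') = 0 := e1
      have e3 : h.H (w : V) u = h.H (w : V) (u - h.H u v' • v') + h.H (w : V) (h.H u v' • v') := by
        rw [← h.add_right, sub_add_cancel]
      rw [e3, e2, zero_add, h.smul_right, (hmemW _).1 w.2, mul_zero]
    obtain ⟨e', he'⟩ := ih W hrk (h.restrict W) hndW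
    refine ⟨Fin.cons v' (fun i => (e' i : V)), ?_⟩
    intro i j
    refine Fin.cases ?_ (fun i => ?_) i <;> refine Fin.cases ?_ (fun j => ?_) j
    · rw [Fin.cons_zero, if_pos rfl]
      exact hv'
    · rw [Fin.cons_zero, Fin.cons_succ, if_neg (Fin.succ_ne_zero j).symm, h.conj (e' j : V) v',
        (hmemW _).1 (e' j).2, map_zero]
    · rw [Fin.cons_zero, Fin.cons_succ, if_neg (Fin.succ_ne_zero i)]
      exact (hmemW _).1 (e' i).2
    · rw [Fin.cons_succ, Fin.cons_succ]
      have := he' i j
      rw [show (h.restrict W).H (e' i) (e' j) = h.H (e' i : V) (e' j : V) from rfl] at this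
      rw [this]
      by_cases hij : i = j
      · rw [if_pos hij, if_pos (by rw [hij])]
      · rw [if_neg hij, if_neg (fun e => hij (Fin.succ_injective _ e))]

/-! ### Hermitian matrices -/

variable {n : ℕ}

omit [Finite F] in
theorem aut_sq_apply (σ : RingAut F) (hσ2 : σ ^ 2 = 1) (x : F) : σ (σ x) = x := by
  have := DFunLike.congr_fun hσ2 x
  rw [pow_two] at this
  exact this

/-- the Hermitian form of a Hermitian matrix -/
def matHerm (σ : RingAut F) (hσ2 : σ ^ 2 = 1) (M : Matrix (Fin n) (Fin n) F)
    (hM : M = (M.map σ)ᵀ) : HermForm σ (Fin n → F) where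
  H u v := u ⬝ᵥ (M *ᵥ (fun i => σ (v i)))
  add_left u u' v := add_dotProduct u u' _
  smul_left t u v := by rw [smul_dotProduct, smul_eq_mul]
  conj u v := by
    have hM' : ∀ i j, σ (M i j) = M j i := by
      intro i j
      conv_rhs => rw [hM]
      rfl
    simp only [dotProduct, Matrix.mulVec, map_sum, map_mul, Finset.mul_sum, aut_sq_apply σ hσ2,
      hM']
    rw [Finset.sum_comm]
    apply Finset.sum_congr rfl
    intro i _
    apply Finset.sum_congr rfl
    intro j _
    ring

theorem matHerm_H (σ : RingAut F) (hσ2 : σ ^ 2 = 1) (M : Matrix (Fin n) (Fin n) F)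
    (hM : M = (M.map σ)ᵀ) (u v : Fin n → F) :
    (matHerm σ hσ2 M hM).H u v = u ⬝ᵥ (M *ᵥ (fun i => σ (v i))) := rfl

/-- **Hermitian matrices over a finite field are congruent to the identity.** -/
theorem hermitian_matrix (σ : RingAut F) (hσ2 : σ ^ 2 = 1) (hσ1 : σ ≠ 1)
    (M : Matrix (Fin n) (Fin n) F) (hMu : IsUnit M) (hM : M = (M.map σ)ᵀ) :
    ∃ P : Matrix (Fin n) (Fin n) F, IsUnit P ∧ P * M * (P.map σ)ᵀ = 1 := by
  have hnd : (matHerm σ hσ2 M hM).Nondeg := by
    intro u hu
    have h1 : ∀ w : Fin n → F, (u ᵥ* M) ⬝ᵥ w = 0 := by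
      intro w
      have := hu (fun i => σ (w i))
      rw [matHerm_H] at this
      simp only [aut_sq_apply σ hσ2] at this
      rw [Matrix.dotProduct_mulVec] at this
      exact this
    have h2 : u ᵥ* M = 0 ᵥ* M := by
      rw [Matrix.zero_vecMul]
      exact dotProduct_eq_zero _ h1
    exact Matrix.vecMul_injective_iff_isUnit.2 hMu h2
  obtain ⟨e, he⟩ := exists_orthonormal σ hσ2 hσ1 n (Fin n → F) (Module.finrank_fin_fun F)
    (matHerm σ hσ2 M hM) hnd
  have key : Matrix.of e * M * ((Matrix.of e).map σ)ᵀ = 1 := by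
    ext i j
    rw [Matrix.one_apply, ← he i j, matHerm_H]
    simp only [Matrix.mul_apply, dotProduct, Matrix.mulVec, Matrix.transpose_apply,
      Matrix.map_apply, Matrix.of_apply, Finset.sum_mul, Finset.mul_sum]
    rw [Finset.sum_comm]
    apply Finset.sum_congr rfl
    intro k _
    apply Finset.sum_congr rfl
    intro l _
    ring
  refine ⟨Matrix.of e, ?_, key⟩
  rw [Matrix.mul_assoc] at key
  rw [Matrix.isUnit_iff_isUnit_det]
  exact Matrix.isUnit_det_of_right_inverse key

end finite

end Cfsg.Agent.Lib.H7AutPSL
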