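import Cfsg.Agent.Lib.Helper7.AutPSL.CosetField
import Cfsg.Agent.Lib.Helper7.AutPSL.Hermitian
import Mathlib

/-!
# Involutions in a graph-field coset of `Inndiag(PSL_n(F))` (helper7)

With lead's `Dh`, `Ph`, `Γ`: if `σ` has order two and `(Dh g * (Ph σ * Γ)) ^ 2 = 1`, then
`Dh g * (Ph σ * Γ)` is conjugate to `Ph σ * Γ` under the image of `Dh`.
-/

set_option autoImplicit false

namespace Cfsg.Agent.Lib.H7AutPSL

open Matrix Cfsg Cfsg.Agent.AutPSLCount

universe u

variable {n : ℕ} {F : Type u} [Field F]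

/-- the graph-field automorphism moves past an inner-diagonal one -/
theorem phΓ_Dh (σ : RingAut F) (g : GL (Fin n) F) :
    (Ph σ * Γ) * Dh g = Dh (gmap σ (gti g)) * (Ph σ * Γ) := by
  rw [mul_assoc, Γ_Dh, ← mul_assoc, Ph_Dh, mul_assoc]

theorem phΓ_sq (σ : RingAut F) (hσ2 : σ ^ 2 = 1) :
    (Ph σ * Γ : MulAut (PSLn n F)) ^ 2 = 1 := by
  rw [pow_two]
  calc (Ph σ * Γ : MulAut (PSLn n F)) * (Ph σ * Γ) = Ph σ * (Γ * Ph σ) * Γ := by
        simp only [mul_assoc]
    _ = Ph σ * Ph σ * (Γ * Γ) := by rw [Γ_Ph]; simp only [mul_assoc]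
    _ = 1 := by rw [Γ_Γ, mul_one, ← map_mul, ← pow_two, hσ2, map_one]

theorem graphfield_coset_sq (σ : RingAut F) (hσ2 : σ ^ 2 = 1) (g : GL (Fin n) F) :
    (Dh g * (Ph σ * Γ)) ^ 2 = Dh (g * gmap σ (gti g)) := by
  rw [pow_two]
  calc Dh g * (Ph σ * Γ) * (Dh g * (Ph σ * Γ))
      = Dh g * ((Ph σ * Γ) * Dh g) * (Ph σ * Γ) := by simp only [mul_assoc]
    _ = Dh g * Dh (gmap σ (gti g)) * ((Ph σ * Γ) * (Ph σ * Γ)) := by
        rw [phΓ_Dh]; simp only [mul_assoc]
    _ = _ := by rw [← pow_two, phΓ_sq σ hσ2, mul_one, map_mul]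

section finite

variable [Finite F]

/-- **Involutions in the coset of a graph-field automorphism.** -/
theorem graphfield_coset_conj (hn : 2 ≤ n) (σ : RingAut F) (hσ2 : σ ^ 2 = 1) (hσ1 : σ ≠ 1)
    (g : GL (Fin n) F) (hy : (Dh g * (Ph σ * Γ)) ^ 2 = 1) :
    ∃ h : GL (Fin n) F, Dh g * (Ph σ * Γ) = Dh h * (Ph σ * Γ) * (Dh h)⁻¹ := by
  have hinj : ∀ i j, i < 2 → j < 2 → σ ^ i = σ ^ j → i = j := by
    intro i j hi hj hij
    interval_cases i <;> interval_cases j
    · rfl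
    · rw [pow_zero, pow_one] at hij; exact absurd hij.symm hσ1
    · rw [pow_zero, pow_one] at hij; exact absurd hij hσ1
    · rfl
  have hσσ := aut_sq_apply σ hσ2
  rw [graphfield_coset_sq σ hσ2] at hy
  have hcen : g * gmap σ (gti g) ∈ Subgroup.center (GL (Fin n) F) := by
    rw [← Dh_ker hn]
    exact hy
  rw [Matrix.GeneralLinearGroup.center_eq_range_scalar] at hcen
  obtain ⟨c, hc⟩ := hcen
  -- `M = c • σ(Mᵀ)`
  have hM : g.val = (c : F) • (g.valᵀ).map σ := by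
    have e1 : g = Matrix.GeneralLinearGroup.scalar (Fin n) c * (gmap σ (gti g))⁻¹ := by
      rw [hc, mul_inv_cancel_right]
    have e2 := congrArg Units.val e1
    rw [Units.val_mul, ← map_inv, gmap_val, gti_inv_val, Matrix.GeneralLinearGroup.coe_scalar,
      Matrix.scalar_apply, ← Matrix.smul_eq_diagonal_mul] at e2
    exact e2
  -- `c σ(c) = 1`
  have hN : (c : F) * σ c = 1 := by
    have e1 : (g.valᵀ).map σ = σ (c : F) • g.val := by
      conv_lhs => rw [hM]
      ext i j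
      simp only [Matrix.map_apply, Matrix.transpose_apply, Matrix.smul_apply, smul_eq_mul, map_mul,
        hσσ]
    rw [e1, smul_smul] at hM
    have e2 := congrArg (fun X => X * (g⁻¹ : GL (Fin n) F).val) hM
    simp only [Matrix.smul_mul] at e2
    rw [← Units.val_mul, mul_inv_cancel, Units.val_one] at e2
    have e3 := congrFun (congrFun e2 ⟨0, by omega⟩) ⟨0, by omega⟩
    rw [Matrix.smul_apply, Matrix.one_apply_eq, smul_eq_mul, mul_one] at e3
    exact e3.symm
  have hN' : fnorm σ (c : F) 2 = 1 := by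
    unfold fnorm
    rw [Finset.prod_range_succ, Finset.prod_range_one, pow_zero, pow_one]
    exact hN
  obtain ⟨b, hb0, hb⟩ := hilbert90_field σ 2 (by norm_num) hσ2 hinj _ hN'
  -- `b⁻¹ • M` is Hermitian
  have hHerm : b⁻¹ • g.val = ((b⁻¹ • g.val).map σ)ᵀ := by
    have e1 : ((b⁻¹ • g.val).map σ)ᵀ = (σ b)⁻¹ • (g.valᵀ).map σ := by
      ext i j
      simp only [Matrix.map_apply, Matrix.transpose_apply, Matrix.smul_apply, smul_eq_mul, map_mul,
        map_inv₀]
    rw [e1]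
    conv_lhs => rw [hM]
    rw [smul_smul]
    congr 1
    have : σ b ≠ 0 := (map_ne_zero _).2 hb0
    field_simp
    linear_combination hb
  have hU : IsUnit (b⁻¹ • g.val) := by
    have : b⁻¹ • g.val = (Matrix.GeneralLinearGroup.scalar (Fin n) (Units.mk0 b⁻¹ (inv_ne_zero hb0)) *
        g).val := by
      rw [Units.val_mul, Matrix.GeneralLinearGroup.coe_scalar, Matrix.scalar_apply,
        ← Matrix.smul_eq_diagonal_mul, Units.val_mk0]
    rw [this]
    exact Units.isUnit _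
  obtain ⟨P, hPu, hP⟩ := hermitian_matrix σ hσ2 hσ1 _ hU hHerm
  obtain ⟨p, rfl⟩ := hPu
  refine ⟨p⁻¹, ?_⟩
  -- `g τ(h) = b h`
  have e1 : g * gmap σ (gti p⁻¹) =
      Matrix.GeneralLinearGroup.scalar (Fin n) (Units.mk0 b hb0) * p⁻¹ := by
    apply Units.ext
    rw [Units.val_mul, Units.val_mul, gmap_val, gti_val, inv_inv,
      Matrix.GeneralLinearGroup.coe_scalar, Units.val_mk0, Matrix.scalar_apply,
      ← Matrix.smul_eq_diagonal_mul]
    have e2 : p.val * (g.val * (p.valᵀ).map σ) = b • 1 := by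
      rw [Matrix.mul_smul, Matrix.smul_mul] at hP
      rw [Matrix.transpose_map, ← Matrix.mul_assoc]
      have := congrArg (fun X => b • X) hP
      simp only [smul_smul, mul_inv_cancel₀ hb0, one_smul] at this
      exact this
    have e3 : (p⁻¹ : GL (Fin n) F).val * (p.val * (g.val * (p.valᵀ).map σ)) =
        (p⁻¹ : GL (Fin n) F).val * (b • 1) := by rw [e2]
    rw [← Matrix.mul_assoc, ← Units.val_mul, inv_mul_cancel, Units.val_one,
      Matrix.one_mul, Matrix.mul_smul, Matrix.mul_one] at e3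
    exact e3
  have hsc : Dh (Matrix.GeneralLinearGroup.scalar (Fin n) (Units.mk0 b hb0)) =
      (1 : MulAut (PSLn n F)) := by
    have : Matrix.GeneralLinearGroup.scalar (Fin n) (Units.mk0 b hb0) ∈
        (Dh : GL (Fin n) F →* MulAut (PSLn n F)).ker := by
      rw [Dh_ker hn, Matrix.GeneralLinearGroup.center_eq_range_scalar]
      exact ⟨_, rfl⟩
    exact this
  have e2 : Dh g * Dh (gmap σ (gti p⁻¹)) = (Dh p⁻¹ : MulAut (PSLn n F)) := by
    rw [← map_mul, e1, map_mul, hsc, one_mul]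
  have e3 := phΓ_Dh σ (p⁻¹ : GL (Fin n) F)
  have e4 : Dh g = (Dh p⁻¹ : MulAut (PSLn n F)) * (Dh (gmap σ (gti p⁻¹)))⁻¹ := by
    rw [← e2, mul_inv_cancel_right]
  have e5 : (Ph σ * Γ) * (Dh p⁻¹ : MulAut (PSLn n F))⁻¹ =
      (Dh (gmap σ (gti p⁻¹)))⁻¹ * (Ph σ * Γ) := by
    rw [eq_inv_mul_iff_mul_eq, ← mul_assoc, ← e3, mul_inv_cancel_right]
  rw [e4, mul_assoc, ← e5, ← mul_assoc]

end finite

end Cfsg.Agent.Lib.H7AutPSL
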