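import Cfsg.Agent.Lib.Helper7.AutPSL.Hilbert90
import Cfsg.Agent.S2602
import Mathlib

/-!
# Automorphisms of finite fields and power subgroups of cyclic groups (helper7)
-/

set_option autoImplicit false

namespace Cfsg.Agent.Lib.H7AutPSL

/-! ### power subgroups of a commutative group -/

theorem range_pow_sup_range_pow {G : Type*} [CommGroup G] (a b : ℕ) :
    (powMonoidHom a : G →* G).range ⊔ (powMonoidHom b : G →* G).range =
      (powMonoidHom (Nat.gcd a b) : G →* G).range := by
  apply le_antisymm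
  · rw [sup_le_iff]
    constructor
    · rintro _ ⟨x, rfl⟩
      obtain ⟨k, hk⟩ := Nat.gcd_dvd_left a b
      refine ⟨x ^ k, ?_⟩
      rw [powMonoidHom_apply, powMonoidHom_apply, ← pow_mul, mul_comm, ← hk]
    · rintro _ ⟨x, rfl⟩
      obtain ⟨k, hk⟩ := Nat.gcd_dvd_right a b
      refine ⟨x ^ k, ?_⟩
      rw [powMonoidHom_apply, powMonoidHom_apply, ← pow_mul, mul_comm, ← hk]
  · rintro _ ⟨x, rfl⟩
    rw [powMonoidHom_apply]
    have hb := Nat.gcd_eq_gcd_ab a b
    have e : x ^ (Nat.gcd a b) = (x ^ (Nat.gcdA a b)) ^ a * (x ^ (Nat.gcdB a b)) ^ b := by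
      rw [← zpow_natCast x (Nat.gcd a b), hb, zpow_add, zpow_mul', zpow_mul', zpow_natCast,
        zpow_natCast]
    rw [e]
    exact Subgroup.mul_mem_sup ⟨_, rfl⟩ ⟨_, rfl⟩

/-! ### the involution of a finite field -/

variable {F : Type*} [Field F] [Fintype F]

/-- the involutory automorphism of a finite field of order `p ^ f` is the `p ^ (f / 2)`-th power map -/
theorem involution_eq_frob (p f : ℕ) [hp : Fact p.Prime] [CharP F p] (hF : Fintype.card F = p ^ f)
    (σ : RingAut F) (hσ2 : σ ^ 2 = 1) (hσ1 : σ ≠ 1) :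
    Even f ∧ ∀ t : F, σ t = t ^ (p ^ (f / 2)) := by
  classical
  obtain ⟨hcyc, hcard⟩ := Cfsg.Agent.S2602.ringAut_cyclic p f hF
  have ho : orderOf σ = 2 := orderOf_eq_prime hσ2 hσ1
  have h2f : 2 ∣ f := by
    rw [← hcard, ← ho]
    exact orderOf_dvd_natCard σ
  obtain ⟨k, rfl⟩ := h2f
  refine ⟨⟨k, by ring⟩, ?_⟩
  rw [Nat.mul_div_cancel_left k (by norm_num : 0 < 2)]
  have hk : 0 < k := by
    rcases Nat.eq_zero_or_pos k with rfl | h
    · exfalso
      rw [mul_zero, pow_zero] at hF
      have := Fintype.one_lt_card (α := F)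
      omega
    · exact h
  have : ExpChar F p := ExpChar.prime hp.out
  -- the Frobenius involution
  obtain ⟨τ, hτ⟩ : ∃ τ : RingAut F, ∀ t, τ t = t ^ p ^ k :=
    ⟨iterateFrobeniusEquiv F p k, fun t => iterateFrobeniusEquiv_def F p k t⟩
  have hτ2 : τ ^ 2 = 1 := by
    ext t
    rw [pow_two, RingAut.mul_apply, hτ, hτ, ← pow_mul, ← pow_add, ← two_mul, ← hF,
      FiniteField.pow_card]
    rfl
  have hτ1 : τ ≠ 1 := by
    intro h1
    have hall : ∀ a : Fˣ, a ^ (p ^ k - 1) = 1 := by
      intro a
      apply Units.ext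
      have := hτ (a : F)
      rw [h1, RingAut.one_apply] at this
      have hpk : p ^ k = (p ^ k - 1) + 1 := (Nat.sub_add_cancel (Nat.one_le_pow _ _ hp.out.pos)).symm
      rw [hpk, pow_succ] at this
      rw [Units.val_pow_eq_pow_val, Units.val_one]
      have ha : (a : F) ≠ 0 := a.ne_zero
      exact (mul_right_cancel₀ ha (by rw [one_mul]; exact this.symm))
    have hpk1 : 0 < p ^ k - 1 := by
      have : 2 ≤ p ^ k := by
        calc 2 ≤ p := hp.out.two_le
          _ = p ^ 1 := (pow_one p).symm
          _ ≤ p ^ k := Nat.pow_le_pow_right hp.out.pos hk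
      omega
    have hle := IsCyclic.card_pow_eq_one_le (α := Fˣ) hpk1
    have hfilter : (Finset.univ.filter fun a : Fˣ => a ^ (p ^ k - 1) = 1) = Finset.univ := by
      ext a
      simp [hall a]
    rw [hfilter, Finset.card_univ, Fintype.card_units, hF] at hle
    have hlt : p ^ k < p ^ (2 * k) := Nat.pow_lt_pow_right hp.out.one_lt (by omega)
    omega
  -- uniqueness of the involution in a cyclic group
  have hστ : σ = τ := by
    by_contra hne
    have hfin : Finite (RingAut F) := Nat.finite_of_card_ne_zero (by rw [hcard]; omega)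
    let _ : Fintype (RingAut F) := Fintype.ofFinite _
    have hle := IsCyclic.card_pow_eq_one_le (α := RingAut F) (n := 2) (by norm_num)
    have hsub : ({1, σ, τ} : Finset (RingAut F)) ⊆
        Finset.univ.filter fun a : RingAut F => a ^ 2 = 1 := by
      intro a ha
      rw [Finset.mem_insert, Finset.mem_insert, Finset.mem_singleton] at ha
      rw [Finset.mem_filter]
      refine ⟨Finset.mem_univ _, ?_⟩
      rcases ha with rfl | rfl | rfl
      · exact one_pow 2
      · exact hσ2
      · exact hτ2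
    have h3 : ({1, σ, τ} : Finset (RingAut F)).card = 3 := by
      rw [Finset.card_insert_of_notMem, Finset.card_insert_of_notMem, Finset.card_singleton]
      · rw [Finset.mem_singleton]; exact hne
      · rw [Finset.mem_insert, Finset.mem_singleton, not_or]
        exact ⟨hσ1.symm, hτ1.symm⟩
    have := Finset.card_le_card hsub
    omega
  intro t
  rw [hστ, hτ]

end Cfsg.Agent.Lib.H7AutPSL
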