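import Cfsg.Agent.Lib.Helper7.AutPSL.SplitPSL
import Cfsg.Agent.Lib.Helper7.AutPSL.CosetGraphField
import Cfsg.Agent.Lib.Helper7.AutPSL.FiniteFieldAut
import Cfsg.Prelude.Def_LieClassical
import Mathlib

/-!
# The centraliser of a graph-field involution in `Inndiag(PSL_n(F))` (helper7)

For `X = Ph σ * Γ` with `σ` the involution of `F`: the matrices `g` with `Dh g` centralising `X` are
the conformal unitary ones, `g σ(g)ᵀ = d`; their determinants form `(Fˣ)^n · {u | u σ(u) = 1}`.
-/

set_option autoImplicit false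

namespace Cfsg.Agent.Lib.H7AutPSL

open Matrix Cfsg Cfsg.Agent.AutPSLCount

universe u

variable {n : ℕ} {F : Type u} [Field F]

/-- the twisted map `g ↦ σ(g)⁻ᵀ` -/
noncomputable def twist (σ : RingAut F) (g : GL (Fin n) F) : GL (Fin n) F := gmap σ (gti g)

theorem twist_inv_val (σ : RingAut F) (g : GL (Fin n) F) :
    ((twist σ g)⁻¹).val = (g.val.map σ)ᵀ := by
  unfold twist
  rw [← map_inv, gmap_val, gti_inv_val, Matrix.transpose_map]

/-- conformal unitary matrices -/
def IsConfU (σ : RingAut F) (g : GL (Fin n) F) : Prop :=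
  ∃ d : Fˣ, g.val * (g.val.map σ)ᵀ = (d : F) • (1 : Matrix (Fin n) (Fin n) F)

theorem scalar_val (d : Fˣ) : (Matrix.GeneralLinearGroup.scalar (Fin n) d).val =
    (d : F) • (1 : Matrix (Fin n) (Fin n) F) := by
  rw [Matrix.GeneralLinearGroup.coe_scalar, Matrix.scalar_apply, Matrix.smul_one_eq_diagonal]

theorem isConfU_iff (σ : RingAut F) (g : GL (Fin n) F) :
    IsConfU σ g ↔ ∃ d : Fˣ, g * (twist σ g)⁻¹ = Matrix.GeneralLinearGroup.scalar (Fin n) d := by
  constructor
  · rintro ⟨d, hd⟩
    refine ⟨d, Units.ext ?_⟩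
    rw [Units.val_mul, twist_inv_val, hd, scalar_val]
  · rintro ⟨d, hd⟩
    refine ⟨d, ?_⟩
    have := congrArg Units.val hd
    rw [Units.val_mul, twist_inv_val, scalar_val] at this
    exact this

theorem scalar_comm (d : Fˣ) (g : GL (Fin n) F) :
    Matrix.GeneralLinearGroup.scalar (Fin n) d * g = g * Matrix.GeneralLinearGroup.scalar (Fin n) d := by
  have hz : Matrix.GeneralLinearGroup.scalar (Fin n) d ∈ Subgroup.center (GL (Fin n) F) := by
    rw [Matrix.GeneralLinearGroup.center_eq_range_scalar]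
    exact ⟨d, rfl⟩
  exact (Subgroup.mem_center_iff.1 hz g).symm

/-- the matrices centralising the graph-field involution are the conformal unitary ones -/
theorem mem_centGL_graphfield (hn : 2 ≤ n) (σ : RingAut F) (g : GL (Fin n) F) :
    g ∈ centGL (Ph σ * Γ) ↔ IsConfU σ g := by
  rw [mem_centGL, phΓ_Dh, mul_left_inj, isConfU_iff]
  show Dh g = Dh (twist σ g) ↔ _
  constructor
  · intro h
    have h1 : g * (twist σ g)⁻¹ ∈ (Dh : GL (Fin n) F →* MulAut (PSLn n F)).ker := by
      rw [MonoidHom.mem_ker, map_mul, map_inv, h, mul_inv_cancel]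
    rw [Dh_ker hn, Matrix.GeneralLinearGroup.center_eq_range_scalar] at h1
    obtain ⟨d, hd⟩ := h1
    exact ⟨d, hd.symm⟩
  · rintro ⟨d, hd⟩
    have e : g = Matrix.GeneralLinearGroup.scalar (Fin n) d * twist σ g := by
      rw [← hd, inv_mul_cancel_right]
    conv_lhs => rw [e]
    rw [map_mul, Dh_scalar hn, one_mul]

/-! ### determinants of conformal unitary matrices -/

theorem det_map_transpose (σ : RingAut F) (M : Matrix (Fin n) (Fin n) F) :
    ((M.map σ)ᵀ).det = σ M.det := by
  rw [Matrix.det_transpose, RingEquiv.map_det]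
  rfl

section finite

variable [Finite F]

omit [Finite F] in
theorem two_inj {σ : RingAut F} (hσ1 : σ ≠ 1) :
    ∀ i j, i < 2 → j < 2 → σ ^ i = σ ^ j → i = j := by
  intro i j hi hj hij
  interval_cases i <;> interval_cases j
  · rfl
  · rw [pow_zero, pow_one] at hij; exact absurd hij.symm hσ1
  · rw [pow_zero, pow_one] at hij; exact absurd hij hσ1
  · rfl

omit [Finite F] in
theorem fnorm_two (σ : RingAut F) (μ : F) : fnorm σ μ 2 = μ * σ μ := by
  unfold fnorm
  rw [Finset.prod_range_succ, Finset.prod_range_one, pow_zero, pow_one]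
  rfl

/-- the multiplier of a conformal unitary matrix is a norm -/
theorem confU_multiplier (hn : 1 ≤ n) (σ : RingAut F) (hσ2 : σ ^ 2 = 1) (hσ1 : σ ≠ 1)
    (g : GL (Fin n) F) (d : Fˣ)
    (hd : g.val * (g.val.map σ)ᵀ = (d : F) • (1 : Matrix (Fin n) (Fin n) F)) :
    ∃ μ : F, μ ≠ 0 ∧ μ * σ μ = d := by
  have hσσ := aut_sq_apply σ hσ2
  -- `d` is fixed by `σ`
  have hfix : σ (d : F) = d := by
    have e1 : ((g.val * (g.val.map σ)ᵀ).map σ)ᵀ = g.val * (g.val.map σ)ᵀ := by
      ext i j
      simp only [Matrix.transpose_apply, Matrix.map_apply, Matrix.mul_apply, map_sum, map_mul, hσσ]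
      apply Finset.sum_congr rfl
      intro k _
      exact mul_comm _ _
    rw [hd] at e1
    have e2 := congrFun (congrFun e1 ⟨0, by omega⟩) ⟨0, by omega⟩
    simp only [Matrix.transpose_apply, Matrix.map_apply, Matrix.smul_apply, Matrix.one_apply_eq,
      smul_eq_mul, mul_one] at e2
    exact e2
  obtain ⟨μ, hμ0, hμ⟩ := norm_surj σ 2 (by norm_num) hσ2 (two_inj hσ1) d d.ne_zero hfix
  exact ⟨μ, hμ0, by rw [← fnorm_two, hμ]⟩

/-- **the determinants of the conformal unitary matrices** -/
theorem det_centGL_graphfield (hn : 2 ≤ n) (σ : RingAut F) (hσ2 : σ ^ 2 = 1) (hσ1 : σ ≠ 1) :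
    (centGL (Ph σ * Γ : MulAut (PSLn n F))).map
        (Matrix.GeneralLinearGroup.det : GL (Fin n) F →* Fˣ) =
      (powMonoidHom n : Fˣ →* Fˣ).range ⊔ (unormHom σ 2).ker := by
  apply le_antisymm
  · rintro _ ⟨g, hg, rfl⟩
    rw [SetLike.mem_coe, mem_centGL_graphfield hn] at hg
    obtain ⟨d, hd⟩ := hg
    obtain ⟨μ, hμ0, hμ⟩ := confU_multiplier (by omega) σ hσ2 hσ1 g d hd
    -- `det g = μ ^ n * u` with `u σ(u) = 1`
    have hdet : g.val.det * σ g.val.det = (d : F) ^ n := by
      have := congrArg Matrix.det hd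
      rw [Matrix.det_mul, det_map_transpose, Matrix.det_smul, Matrix.det_one, mul_one,
        Fintype.card_fin] at this
      exact this
    have hsplit : Matrix.GeneralLinearGroup.det g =
        (Units.mk0 μ hμ0) ^ n * ((Units.mk0 μ hμ0)⁻¹ ^ n * Matrix.GeneralLinearGroup.det g) := by
      rw [← mul_assoc, ← mul_pow, mul_inv_cancel, one_pow, one_mul]
    rw [hsplit]
    refine Subgroup.mul_mem_sup ⟨Units.mk0 μ hμ0, rfl⟩ ?_
    rw [MonoidHom.mem_ker, Units.ext_iff, unormHom_val, Units.val_one, fnorm_two, Units.val_mul,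
      Units.val_pow_eq_pow_val, Units.val_inv_eq_inv_val, Units.val_mk0,
      Matrix.GeneralLinearGroup.val_det_apply, map_mul, map_pow, map_inv₀]
    have hσμ : σ μ ≠ 0 := (map_ne_zero _).2 hμ0
    have : (μ⁻¹ ^ n * g.val.det) * ((σ μ)⁻¹ ^ n * σ g.val.det) =
        ((μ * σ μ) ^ n)⁻¹ * (g.val.det * σ g.val.det) := by
      rw [mul_pow, inv_pow, inv_pow]
      field_simp
    rw [this, hdet, hμ, inv_mul_cancel₀ (pow_ne_zero _ d.ne_zero)]
  · rw [sup_le_iff]
    constructor
    · rintro _ ⟨μ, rfl⟩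
      refine ⟨Matrix.GeneralLinearGroup.scalar (Fin n) μ, ?_, det_scalarGL μ⟩
      rw [SetLike.mem_coe, mem_centGL_graphfield hn]
      refine ⟨μ * Units.map (σ : F →* F) μ, ?_⟩
      rw [scalar_val]
      ext i j
      simp only [Matrix.mul_apply, Matrix.transpose_apply, Matrix.map_apply, Matrix.smul_apply,
        Matrix.one_apply, smul_eq_mul, mul_ite, mul_one, mul_zero, Units.val_mul]
      by_cases hij : i = j
      · subst hij
        simp
      · simp [hij, Ne.symm hij]
    · intro u hu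
      rw [MonoidHom.mem_ker, Units.ext_iff, unormHom_val, Units.val_one, fnorm_two] at hu
      refine ⟨dgHom n F ⟨0, by omega⟩ u, ?_, det_dgHom _ u⟩
      rw [SetLike.mem_coe, mem_centGL_graphfield hn]
      refine ⟨1, ?_⟩
      rw [dgHom_val, Units.val_one, one_smul]
      ext i j
      rw [Matrix.mul_apply]
      simp only [Matrix.transpose_apply, Matrix.map_apply, Matrix.diagonal_apply, Matrix.one_apply]
      by_cases hij : i = j
      · subst hij
        rw [Finset.sum_eq_single i]
        · rw [if_pos rfl, if_pos rfl]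
          by_cases hi : i = ⟨0, by omega⟩
          · rw [hi, Pi.mulSingle_eq_same]
            exact hu
          · rw [Pi.mulSingle_eq_of_ne hi, map_one, mul_one]
        · intro k _ hk
          rw [if_neg (Ne.symm hk), zero_mul]
        · intro h; exact absurd (Finset.mem_univ i) h
      · rw [if_neg hij]
        apply Finset.sum_eq_zero
        intro k _
        by_cases hik : i = k
        · subst hik
          rw [if_neg (Ne.symm hij), map_zero, mul_zero]
        · rw [if_neg hik, zero_mul]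

end finite

end Cfsg.Agent.Lib.H7AutPSL
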