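import Cfsg.Prelude.Def_LieTypeDatum
import Mathlib

/-!
# Counting the classes into which a class splits (helper7)

For `K ≤ D` subgroups of a group `A` with `K` normal in `A`: the number of `K`-classes in the
`D`-class of `x` is the index in `D` of `K ⊔ C_D(x)`.
-/

set_option autoImplicit false

namespace Cfsg.Agent.Lib.H7AutPSL

open Cfsg

variable {A : Type*} [Group A]

/-- the subgroup `K ⊔ C_D(x)` -/
def splitSub (D K : Subgroup A) (x : A) : Subgroup A := K ⊔ (D ⊓ Subgroup.centralizer {x})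

theorem mem_splitSub_iff (D K : Subgroup A) [hK : K.Normal] (x a : A) :
    a ∈ splitSub D K x ↔ ∃ k ∈ K, ∃ c ∈ D ⊓ Subgroup.centralizer {x}, a = k * c := by
  unfold splitSub
  rw [Subgroup.mem_sup_of_normal_left]
  constructor
  · rintro ⟨k, hk, c, hc, rfl⟩
    exact ⟨k, hk, c, hc, rfl⟩
  · rintro ⟨k, hk, c, hc, rfl⟩
    exact ⟨k, hk, c, hc, rfl⟩

theorem mem_centralizer_singleton (x c : A) : c ∈ Subgroup.centralizer {x} ↔ c * x = x * c := by
  rw [Subgroup.mem_centralizer_iff]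
  constructor
  · intro h
    exact (h x rfl).symm
  · rintro h _ rfl
    exact h.symm

/-- **The number of `K`-classes in a `D`-class.** -/
theorem splitClassCount_eq (D K : Subgroup A) (hKD : K ≤ D) [hK : K.Normal] (x : A) :
    Cfsg.splitClassCount D K x = (splitSub D K x).relIndex D := by
  unfold Cfsg.splitClassCount Subgroup.relIndex Subgroup.index
  -- a choice of conjugating element
  have hch : ∀ y : {y : A // IsConjUnder D x y}, ∃ h : A, h ∈ D ∧ y.1 = h * x * h⁻¹ := fun y => y.2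
  choose ch hchD hch using hch
  -- two conjugating elements differ by an element of the centralizer
  have hdiff : ∀ h h' : A, h ∈ D → h' ∈ D → h * x * h⁻¹ = h' * x * h'⁻¹ →
      h⁻¹ * h' ∈ D ⊓ Subgroup.centralizer {x} := by
    intro h h' hh hh' e
    refine Subgroup.mem_inf.2 ⟨mul_mem (inv_mem hh) hh', ?_⟩
    rw [mem_centralizer_singleton]
    have : x = h⁻¹ * (h' * x * h'⁻¹) * h := by rw [← e]; group
    calc h⁻¹ * h' * x = (h⁻¹ * (h' * x * h'⁻¹) * h) * (h⁻¹ * h') := by group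
      _ = x * (h⁻¹ * h') := by rw [← this]
  let f : Quot (fun y z : {y : A // IsConjUnder D x y} => IsConjUnder K y.1 z.1) →
      D ⧸ (splitSub D K x).subgroupOf D :=
    Quot.lift (fun y => QuotientGroup.mk ⟨ch y, hchD y⟩) (by
      intro y z hyz
      obtain ⟨k, hk, e⟩ := hyz
      rw [QuotientGroup.eq, Subgroup.mem_subgroupOf]
      show (ch y)⁻¹ * ch z ∈ splitSub D K x
      -- `z = (k * ch y) x (k * ch y)⁻¹`
      have e2 : ch z * x * (ch z)⁻¹ = (k * ch y) * x * (k * ch y)⁻¹ := by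
        rw [← hch z, e, hch y]; group
      have h3 := hdiff (k * ch y) (ch z) (mul_mem (hKD hk) (hchD y)) (hchD z) e2.symm
      rw [mem_splitSub_iff]
      refine ⟨(ch y)⁻¹ * k * ch y, ?_, (k * ch y)⁻¹ * ch z, h3, by group⟩
      have := hK.conj_mem k hk (ch y)⁻¹
      rwa [inv_inv] at this)
  apply Nat.card_congr
  refine Equiv.ofBijective f ⟨?_, ?_⟩
  · rintro ⟨y⟩ ⟨z⟩ hyz
    have hyz' : (QuotientGroup.mk ⟨ch y, hchD y⟩ : D ⧸ (splitSub D K x).subgroupOf D) =
        QuotientGroup.mk ⟨ch z, hchD z⟩ := hyz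
    rw [QuotientGroup.eq, Subgroup.mem_subgroupOf] at hyz'
    have h1 : (ch y)⁻¹ * ch z ∈ splitSub D K x := hyz'
    rw [mem_splitSub_iff] at h1
    obtain ⟨k, hk, c, hc, e⟩ := h1
    apply Quot.sound
    refine ⟨ch y * k * (ch y)⁻¹, hK.conj_mem k hk (ch y), ?_⟩
    have hc' := (mem_centralizer_singleton x c).1 (Subgroup.mem_inf.1 hc).2
    have e3 : ch z = ch y * (k * c) := by rw [← e]; group
    rw [hch z, hch y, e3]
    have : c * x * c⁻¹ = x := by rw [hc']; group
    calc ch y * (k * c) * x * (ch y * (k * c))⁻¹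
        = ch y * k * (c * x * c⁻¹) * k⁻¹ * (ch y)⁻¹ := by group
      _ = _ := by rw [this]; group
  · intro q
    obtain ⟨⟨h, hh⟩, rfl⟩ := QuotientGroup.mk_surjective q
    refine ⟨Quot.mk _ ⟨h * x * h⁻¹, h, hh, rfl⟩, ?_⟩
    show (QuotientGroup.mk ⟨ch ⟨h * x * h⁻¹, h, hh, rfl⟩, hchD _⟩ :
      D ⧸ (splitSub D K x).subgroupOf D) = QuotientGroup.mk ⟨h, hh⟩
    rw [QuotientGroup.eq, Subgroup.mem_subgroupOf]
    have h3 := hdiff (ch ⟨h * x * h⁻¹, h, hh, rfl⟩) h (hchD _) hh (hch ⟨h * x * h⁻¹, h, hh, rfl⟩).symm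
    show (ch ⟨h * x * h⁻¹, h, hh, rfl⟩)⁻¹ * h ∈ splitSub D K x
    exact Subgroup.mem_sup_right h3

end Cfsg.Agent.Lib.H7AutPSL
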