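import Cfsg.Agent.Lib.Helper7.AutPSL.CosetGraphField
import Mathlib

/-!
# Conjugacy in the cosets of field and graph-field automorphisms (helper7)

The abstract wrap-up for S2697: with `D = Inndiag` normal in `Aut`, an element `δ x` of the coset
of an automorphism `x` conjugate to `Ph σ` (or `Ph σ * Γ`) of prime order `r` has order `r` iff it
is `D`-conjugate to `x`.
-/

set_option autoImplicit false

namespace Cfsg.Agent.Lib.H7AutPSL

open Matrix Cfsg Cfsg.Agent.AutPSLCount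

universe u

variable {n : ℕ} {F : Type u} [Field F]

/-- `Inndiag(PSL_n(F))` is the image of `Dh` -/
theorem inndiag_eq_Dsub : Cfsg.inndiagPSL n F = Dsub n F := by
  unfold Cfsg.inndiagPSL Cfsg.autSubgroupOf
  apply le_antisymm
  · rw [Subgroup.closure_le]
    intro β hβ
    obtain ⟨g, hg⟩ := (innerDiag_iff β).1 hβ
    exact ⟨g, hg.symm⟩
  · rintro _ ⟨g, rfl⟩
    exact Subgroup.subset_closure ((innerDiag_iff _).2 ⟨g, rfl⟩)

/-- transporting a conjugacy statement along a conjugation by `α` -/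
theorem conj_transport {A : Type*} [Group A] (D : Subgroup A) [hD : D.Normal] (α x δ X d k : A)
    (hX : α * x * α⁻¹ = X) (hd : α * δ * α⁻¹ = d) (hk : k ∈ D)
    (h : d * X = k * X * k⁻¹) : ∃ h' : A, h' ∈ D ∧ δ * x = h' * x * h'⁻¹ := by
  refine ⟨α⁻¹ * k * α, ?_, ?_⟩
  · have := hD.conj_mem k hk α⁻¹
    rwa [inv_inv] at this
  · have e1 : δ * x = α⁻¹ * (d * X) * α := by
      rw [← hX, ← hd]; group
    rw [e1, h, ← hX]
    group

section finite

variable [Finite F]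

/-- the field case -/
theorem field_class_coset (hn : 2 ≤ n) (hfac : Fac n F)
    (x δ α : MulAut (PSLn n F)) (σ : RingAut F) (hσ1 : σ ≠ 1) (hα : α * x * α⁻¹ = Ph σ)
    {r : ℕ} (hr : r.Prime) (hxr : orderOf x = r) (hδ : δ ∈ Dsub n F)
    (hy : orderOf (δ * x) = r) : ∃ h' : MulAut (PSLn n F), h' ∈ Dsub n F ∧ δ * x = h' * x * h'⁻¹ := by
  have := Dsub_normal hfac
  have := Fact.mk hr
  -- the order of `σ`
  have hPr : (Ph σ : MulAut (PSLn n F)) ^ r = 1 := by
    rw [← hα, ← MulAut.conj_apply, ← map_pow, ← hxr, pow_orderOf_eq_one, map_one]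
  have hσr : σ ^ r = 1 := by
    apply Ph_inj hn
    rw [map_pow, hPr]
    exact one_mem _
  have hσord : orderOf σ = r := orderOf_eq_prime hσr hσ1
  obtain ⟨g, hg⟩ : ∃ g : GL (Fin n) F, Dh g = α * δ * α⁻¹ :=
    (inferInstance : (Dsub n F).Normal).conj_mem δ hδ α
  have hpow : (Dh g * Ph σ) ^ r = 1 := by
    have : Dh g * Ph σ = MulAut.conj α (δ * x) := by
      rw [MulAut.conj_apply, hg, ← hα]; group
    rw [this, ← map_pow, ← hy, pow_orderOf_eq_one, map_one]
  obtain ⟨h, hh⟩ := field_coset_conj hn σ r hr hσord g hpow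
  exact conj_transport (Dsub n F) α x δ (Ph σ) (Dh g) (Dh h) hα hg.symm ⟨h, rfl⟩ hh

/-- the graph-field case -/
theorem graphfield_class_coset (hn : 3 ≤ n) (hfac : Fac n F)
    (x δ α : MulAut (PSLn n F)) (σ : RingAut F) (hσ1 : σ ≠ 1) (hα : α * x * α⁻¹ = Ph σ * Γ)
    {r : ℕ} (hr : r.Prime) (hxr : orderOf x = r) (hδ : δ ∈ Dsub n F)
    (hy : orderOf (δ * x) = r) : ∃ h' : MulAut (PSLn n F), h' ∈ Dsub n F ∧ δ * x = h' * x * h'⁻¹ := by
  have := Dsub_normal hfac
  have hPr : (Ph σ * Γ : MulAut (PSLn n F)) ^ r = 1 := by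
    rw [← hα, ← MulAut.conj_apply, ← map_pow, ← hxr, pow_orderOf_eq_one, map_one]
  have hcomm : Commute (Ph σ : MulAut (PSLn n F)) Γ := (Γ_Ph σ).symm
  rw [hcomm.mul_pow, ← map_pow] at hPr
  -- `r = 2`
  have hr2 : r = 2 := by
    rcases hr.eq_two_or_odd' with h2 | hodd
    · exact h2
    · exfalso
      obtain ⟨k, hk⟩ := hodd
      have hΓ : (Γ : MulAut (PSLn n F)) ^ r = Γ := by
        rw [hk, pow_succ, pow_mul, pow_two, Γ_Γ, one_pow, one_mul]
      rw [hΓ] at hPr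
      apply conj_ne_field_it hn (1 : GL (Fin n) F) (σ ^ r)
      have e1 : liftAut (conjSL (1 : GL (Fin n) F)) = (Dh 1 : MulAut (PSLn n F)) := rfl
      rw [e1, map_one, ← hPr]
      rfl
  subst hr2
  have hσ2 : σ ^ 2 = 1 := by
    apply Ph_inj (by omega : 2 ≤ n)
    have : (Γ : MulAut (PSLn n F)) ^ 2 = 1 := by rw [pow_two, Γ_Γ]
    rw [this, mul_one] at hPr
    rw [hPr]
    exact one_mem _
  obtain ⟨g, hg⟩ : ∃ g : GL (Fin n) F, Dh g = α * δ * α⁻¹ :=
    (inferInstance : (Dsub n F).Normal).conj_mem δ hδ α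
  have hpow : (Dh g * (Ph σ * Γ)) ^ 2 = 1 := by
    have : Dh g * (Ph σ * Γ) = MulAut.conj α (δ * x) := by
      rw [MulAut.conj_apply, hg, ← hα]; group
    rw [this, ← map_pow, ← hy, pow_orderOf_eq_one, map_one]
  obtain ⟨h, hh⟩ := graphfield_coset_conj (by omega) σ hσ2 hσ1 g hpow
  exact conj_transport (Dsub n F) α x δ (Ph σ * Γ) (Dh g) (Dh h) hα hg.symm ⟨h, rfl⟩ hh

end finite

end Cfsg.Agent.Lib.H7AutPSL
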