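import Cfsg.Agent.Lib.Helper7.AutPSL.Diagram
import Cfsg.Prelude.Def_StandardType
import Cfsg.Prelude.Def_LieTypeDatum
import Mathlib

/-!
# The automorphisms of `PSL_{m+1}(F)`, `m ≥ 2` (helper7)

Every automorphism is `conjT g ∘ fieldT σ` or `conjT g ∘ fieldT σ ∘ itT`.
-/

set_option autoImplicit false

namespace Cfsg.Agent.Lib.H7AutPSL

open Matrix Cfsg Cfsg.Agent.Lib.Helper5 Cfsg.Agent.Lib.Helper5.GLBN Cfsg.Agent.Lib.Helper5.AutBN
open Cfsg.Agent.H9.SLnA Cfsg.Agent.H9.SLnB
open scoped MatrixGroups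

variable {m : ℕ} {F : Type*} [Field F]

local notation "SLn" => Matrix.SpecialLinearGroup (Fin (m + 1)) F
local notation "PSLn" => Matrix.ProjectiveSpecialLinearGroup (Fin (m + 1)) F
local notation "GLn" => GL (Fin (m + 1)) F

theorem itT_itT (z : PSLn) : itT (itT z) = z := by
  obtain ⟨g, rfl⟩ := prj_surjective z
  rw [itT_prj, itT_prj]
  congr 1
  exact itFun_itFun g

theorem isInnerDiag_conjT (g : GLn) : IsInnerDiagonalAutPSL (conjT g) := by
  refine ⟨g, fun s s' h => ?_⟩
  have : s' = conjSL g s := Subtype.ext (by rw [h, conjSL_val])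
  rw [this]
  exact conjT_prj g s

theorem isStdField_fieldT (σ : F ≃+* F) : IsStdFieldAutPSL σ (fieldT (m := m) σ) := by
  intro s s' h
  have : s' = fieldSL σ s := Subtype.ext (by rw [h, fieldSL_val])
  rw [this]
  exact fieldT_prj σ s

theorem isInvTr_itT : IsInverseTransposeAutPSL (itT (m := m) (F := F)) := by
  intro s s' h
  have : s' = itSL s := Subtype.ext (by rw [h, itSL_val])
  rw [this]
  exact itT_prj s

section finite

variable [Fintype F]

/-- **The automorphisms of `PSL_{m+1}(F)`, `m ≥ 2`.** -/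
theorem aut_decomp (p : ℕ) [Fact p.Prime] [CharP F p] (hm : 2 ≤ m) (β : PSLn ≃* PSLn) :
    ∃ (g : GLn) (σ : F ≃+* F),
      (∀ y, β y = conjT g (fieldT σ y)) ∨ (∀ y, β y = conjT g (fieldT σ (itT y))) := by
  obtain ⟨x, ρ, -, -, hP, hM⟩ := psl_normal_form p β
  obtain ⟨θ', hθ'⟩ : ∃ θ' : PSLn ≃* PSLn, θ' = β.trans (MulAut.conj x⁻¹) := ⟨_, rfl⟩
  rw [← hθ'] at hP hM
  have hβ : ∀ y, β y = x * θ' y * x⁻¹ := by
    intro y
    rw [hθ', MulEquiv.trans_apply, MulAut.conj_apply, inv_inv]
    group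
  obtain ⟨ξ, rfl⟩ := prj_surjective x
  rcases perm_of_aut θ' ρ hP with hρ | hρ
  · -- no diagram symmetry
    have hp : ∀ i : Fin m, RootStable θ' i.castSucc i.succ (castSucc_ne_succ i) := by
      intro i
      apply rootStable_of_map
      have := hP i
      rw [hρ, Equiv.Perm.one_apply] at this
      exact this
    have hq : ∀ i : Fin m, RootStable θ' i.succ i.castSucc (castSucc_ne_succ i).symm := by
      intro i
      apply rootStable_of_map
      have := hM i
      rw [hρ, Equiv.Perm.one_apply] at this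
      exact this
    obtain ⟨σ, d, hσd⟩ := steinberg hm θ' hp hq
    refine ⟨Matrix.SpecialLinearGroup.toGL ξ * dgl d, σ, Or.inl ?_⟩
    intro y
    rw [hβ, hσd, MulEquiv.trans_apply, conjT_mul, MulEquiv.trans_apply, conjT_toGL,
      MulAut.conj_apply]
  · -- the diagram symmetry
    obtain ⟨θ'', hθ''⟩ : ∃ θ'' : PSLn ≃* PSLn, θ'' = (graphT m F).trans θ' := ⟨_, rfl⟩
    have hmap : ∀ K : Subgroup PSLn,
        K.map θ''.toMonoidHom = (K.map (graphT m F).toMonoidHom).map θ'.toMonoidHom := by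
      intro K
      rw [Subgroup.map_map, hθ'']
      rfl
    have hp : ∀ i : Fin m, RootStable θ'' i.castSucc i.succ (castSucc_ne_succ i) := by
      intro i
      apply rootStable_of_map
      have e := hmap (Xp F i)
      rw [map_graphT_Xp] at e
      have e2 := hP (Fin.rev i)
      rw [hρ, Fin.revPerm_apply, Fin.rev_rev] at e2
      exact e.trans e2
    have hq : ∀ i : Fin m, RootStable θ'' i.succ i.castSucc (castSucc_ne_succ i).symm := by
      intro i
      apply rootStable_of_map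
      have e := hmap (Xm F i)
      rw [map_graphT_Xm] at e
      have e2 := hM (Fin.rev i)
      rw [hρ, Fin.revPerm_apply, Fin.rev_rev] at e2
      exact e.trans e2
    obtain ⟨σ, d, hσd⟩ := steinberg hm θ'' hp hq
    -- `θ' y = θ'' (itT (w⁻¹ y w))`
    obtain ⟨w, hw⟩ : ∃ w : PSLn, w = prj (w0SL m F) := ⟨_, rfl⟩
    have hθy : ∀ y, θ' y = θ'' (itT (w⁻¹ * y * w)) := by
      intro y
      rw [hθ'', MulEquiv.trans_apply]
      congr 1
      unfold graphT
      rw [MulEquiv.trans_apply, itT_itT, MulAut.conj_apply, ← hw]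
      group
    obtain ⟨ζ, hζ⟩ := prj_surjective (prj ξ * (θ'' (itT w))⁻¹)
    refine ⟨Matrix.SpecialLinearGroup.toGL ζ * dgl d, σ, Or.inr ?_⟩
    intro y
    rw [hβ, hθy, conjT_mul, MulEquiv.trans_apply, conjT_toGL, MulAut.conj_apply, hζ,
      map_mul, map_mul, map_mul, map_mul, map_inv, map_inv]
    have e : conjT (dgl d) (fieldT σ (itT y)) = θ'' (itT y) := by
      rw [hσd, MulEquiv.trans_apply]
    rw [e]
    group

end finite

end Cfsg.Agent.Lib.H7AutPSL
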