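import Cfsg.Agent.H9.AutPSL2Hom
import Cfsg.Prelude.Def_StandardType
import Cfsg.Prelude.Def_LieTypeDatum
import Mathlib

/-!
# The automorphisms of `PSL_2(F)` in the shape of the list's predicates (helper7)

helper9's structure theorem `Cfsg.Agent.H9.AutPSL2.exists_decomp`, restated with
`Cfsg.IsInnerDiagonalAutPSL` and `Cfsg.IsStdFieldAutPSL`.
-/

set_option autoImplicit false

namespace Cfsg.Agent.Lib.H7AutPSL

open Matrix Cfsg Cfsg.Agent.H9.AutPSL2
open scoped MatrixGroups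

variable {F : Type*} [Field F]

local notation "SL2" => Matrix.SpecialLinearGroup (Fin 2) F
local notation "PSL2" => Matrix.ProjectiveSpecialLinearGroup (Fin 2) F

/-- the matrix `diag(c, 1)` in `GL_2` -/
def dTwo (c : Fˣ) : GL (Fin 2) F :=
  ⟨!![(c : F), 0; 0, 1], !![((c⁻¹ : Fˣ) : F), 0; 0, 1],
    by ext i j; fin_cases i <;> fin_cases j <;> simp [Matrix.mul_apply, Fin.sum_univ_two],
    by ext i j; fin_cases i <;> fin_cases j <;> simp [Matrix.mul_apply, Fin.sum_univ_two]⟩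

theorem dTwo_val (c : Fˣ) : ((dTwo c : GL (Fin 2) F) : Matrix (Fin 2) (Fin 2) F) =
    !![(c : F), 0; 0, 1] := rfl

theorem dTwo_inv_val (c : Fˣ) : (((dTwo c)⁻¹ : GL (Fin 2) F) : Matrix (Fin 2) (Fin 2) F) =
    !![((c⁻¹ : Fˣ) : F), 0; 0, 1] := rfl

theorem delta_val (c : Fˣ) (s : SL2) :
    (delta c s).1 = ((dTwo c : GL (Fin 2) F) : Matrix (Fin 2) (Fin 2) F) * s.1 *
      (((dTwo c)⁻¹ : GL (Fin 2) F) : Matrix (Fin 2) (Fin 2) F) := by
  rw [dTwo_val, dTwo_inv_val]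
  have hc : (c : F) ≠ 0 := Units.ne_zero c
  ext i j
  simp only [Matrix.mul_apply, Fin.sum_univ_two]
  fin_cases i <;> fin_cases j <;> simp <;> field_simp

theorem isStdField_lift (ρ : F ≃+* F) : IsStdFieldAutPSL ρ (lift (fieldAut ρ)) := by
  intro s s' h
  have : s' = fieldAut ρ s := by
    apply Subtype.ext
    rw [h]
    ext i j
    rw [Matrix.map_apply, fieldAut_apply]
  rw [this]
  exact lift_pr _ s

theorem isInnerDiag_conj_delta (x : PSL2) (c : Fˣ) :
    IsInnerDiagonalAutPSL (MulAut.conj x * lift (delta c)) := by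
  obtain ⟨ξ, rfl⟩ := pr_surjective x
  refine ⟨Matrix.SpecialLinearGroup.toGL ξ * dTwo c, fun s s' h => ?_⟩
  have : s' = ξ * delta c s * ξ⁻¹ := by
    apply Subtype.ext
    rw [h, Matrix.SpecialLinearGroup.coe_mul, Matrix.SpecialLinearGroup.coe_mul, delta_val,
      _root_.mul_inv_rev, Units.val_mul, Units.val_mul, ← map_inv]
    simp only [Matrix.mul_assoc]
    rfl
  rw [this, MulAut.mul_apply, MulAut.conj_apply]
  show pr ξ * lift (delta c) (pr s) * (pr ξ)⁻¹ = pr (ξ * delta c s * ξ⁻¹)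
  rw [lift_pr, map_mul, map_mul, map_inv]

/-- the automorphisms of `PSL_2(F)` -/
theorem aut_decomp_two [Fintype F] (p : ℕ) [Fact p.Prime] [CharP F p] (β : MulAut PSL2) :
    ∃ (δ φ : MulAut PSL2) (σ : F ≃+* F),
      IsInnerDiagonalAutPSL δ ∧ IsStdFieldAutPSL σ φ ∧ β = δ * φ := by
  obtain ⟨x, c, ρ, rfl⟩ := exists_decomp p β
  exact ⟨MulAut.conj x * lift (delta c), lift (fieldAut ρ), ρ, isInnerDiag_conj_delta x c,
    isStdField_lift ρ, (mul_assoc _ _ _).symm⟩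

end Cfsg.Agent.Lib.H7AutPSL
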