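import Mathlib

/-!
# Hilbert's Theorem 90 for `GL_n` and the norm of a finite field (helper7)

For a field automorphism `σ` of order `r`: a matrix `g` with `g σ(g) ⋯ σ^{r-1}(g) = 1` is of the
form `P σ(P)⁻¹` (`hilbert90_matrix`); the field case (`hilbert90_field`); and, for a finite field,
every nonzero element fixed by `σ` is a norm (`norm_surj`).
-/

set_option autoImplicit false

namespace Cfsg.Agent.Lib.H7AutPSL

open Matrix

variable {n : ℕ} {F : Type*} [Field F]

/-- independence of the powers of a field automorphism (Dedekind) -/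
theorem aut_pow_independent (σ : RingAut F) (r : ℕ)
    (hinj : ∀ i j, i < r → j < r → σ ^ i = σ ^ j → i = j) (c : ℕ → F)
    (h : ∀ t : F, ∑ i ∈ Finset.range r, c i * (σ ^ i) t = 0) : ∀ i, i < r → c i = 0 := by
  have hli := linearIndependent_monoidHom F F
  let φ : Fin r → (F →* F) := fun i => ((σ ^ i.val : RingAut F) : F →+* F)
  have hφ : Function.Injective φ := by
    intro i j hij
    apply Fin.ext
    apply hinj _ _ i.isLt j.isLt
    ext t
    exact DFunLike.congr_fun hij t
  have hli' := hli.comp φ hφ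
  rw [Fintype.linearIndependent_iff] at hli'
  intro i hi
  refine hli' (fun i => c i.val) ?_ ⟨i, hi⟩
  funext t
  rw [Finset.sum_apply, Pi.zero_apply, ← h t, Finset.sum_range]
  rfl

/-- the semilinear map `v ↦ g σ(v)` -/
def semiMap (σ : RingAut F) (g : Matrix (Fin n) (Fin n) F) (v : Fin n → F) : Fin n → F :=
  g *ᵥ (fun i => σ (v i))

theorem semiMap_add (σ : RingAut F) (g : Matrix (Fin n) (Fin n) F) (v w : Fin n → F) :
    semiMap σ g (v + w) = semiMap σ g v + semiMap σ g w := by
  unfold semiMap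
  rw [← Matrix.mulVec_add]
  congr 1
  ext i
  simp

theorem semiMap_smul (σ : RingAut F) (g : Matrix (Fin n) (Fin n) F) (t : F) (v : Fin n → F) :
    semiMap σ g (t • v) = σ t • semiMap σ g v := by
  unfold semiMap
  rw [← Matrix.mulVec_smul]
  congr 1
  ext i
  simp

theorem semiMap_zero (σ : RingAut F) (g : Matrix (Fin n) (Fin n) F) :
    semiMap σ g 0 = 0 := by
  unfold semiMap
  have : (fun i => σ ((0 : Fin n → F) i)) = 0 := by ext i; simp
  rw [this, Matrix.mulVec_zero]

theorem semiMap_sum (σ : RingAut F) (g : Matrix (Fin n) (Fin n) F) {κ : Type*} (s : Finset κ)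
    (v : κ → Fin n → F) : semiMap σ g (∑ k ∈ s, v k) = ∑ k ∈ s, semiMap σ g (v k) := by
  classical
  induction s using Finset.induction_on with
  | empty => rw [Finset.sum_empty, Finset.sum_empty, semiMap_zero]
  | insert a s ha ih => rw [Finset.sum_insert ha, Finset.sum_insert ha, semiMap_add, ih]

theorem semiMap_iterate_smul (σ : RingAut F) (g : Matrix (Fin n) (Fin n) F) (k : ℕ) (t : F)
    (v : Fin n → F) : (semiMap σ g)^[k] (t • v) = (σ ^ k) t • (semiMap σ g)^[k] v := by
  induction k with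
  | zero => rfl
  | succ k ih =>
    rw [Function.iterate_succ_apply', Function.iterate_succ_apply', ih, semiMap_smul, pow_succ']
    rfl

/-- the partial norms `g σ(g) ⋯ σ^{k-1}(g)` -/
def pnorm (σ : RingAut F) (g : Matrix (Fin n) (Fin n) F) : ℕ → Matrix (Fin n) (Fin n) F
  | 0 => 1
  | k + 1 => g * (pnorm σ g k).map σ

theorem map_mulVec (σ : RingAut F) (A : Matrix (Fin n) (Fin n) F) (w : Fin n → F) :
    (fun i => σ ((A *ᵥ w) i)) = A.map σ *ᵥ (fun i => σ (w i)) := by
  ext i
  simp only [Matrix.mulVec, dotProduct, map_sum, map_mul, Matrix.map_apply]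

theorem semiMap_iterate (σ : RingAut F) (g : Matrix (Fin n) (Fin n) F) (k : ℕ) (v : Fin n → F) :
    (semiMap σ g)^[k] v = pnorm σ g k *ᵥ (fun i => (σ ^ k) (v i)) := by
  induction k with
  | zero =>
    show v = (1 : Matrix (Fin n) (Fin n) F) *ᵥ _
    rw [Matrix.one_mulVec]
    rfl
  | succ k ih =>
    rw [Function.iterate_succ_apply', ih]
    show g *ᵥ (fun i => σ ((pnorm σ g k *ᵥ fun i => (σ ^ k) (v i)) i)) =
      (g * (pnorm σ g k).map σ) *ᵥ _
    rw [map_mulVec, Matrix.mulVec_mulVec, pow_succ']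
    rfl

/-- **Hilbert's Theorem 90 for `GL_n`**, for the cyclic group generated by a field automorphism of
order `r`: a matrix of norm one is `P σ(P)⁻¹`. -/
theorem hilbert90_matrix (σ : RingAut F) (r : ℕ) (hr : 0 < r) (hσ : σ ^ r = 1)
    (hinj : ∀ i j, i < r → j < r → σ ^ i = σ ^ j → i = j) (g : Matrix (Fin n) (Fin n) F)
    (hN : pnorm σ g r = 1) :
    ∃ P : Matrix (Fin n) (Fin n) F, IsUnit P ∧ g * P.map σ = P := by
  have hψr : ∀ v, (semiMap σ g)^[r] v = v := by
    intro v
    rw [semiMap_iterate, hN, hσ, Matrix.one_mulVec]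
    rfl
  -- the trace map lands in the fixed points
  have hT : ∀ v, semiMap σ g (∑ i ∈ Finset.range r, (semiMap σ g)^[i] v) =
      ∑ i ∈ Finset.range r, (semiMap σ g)^[i] v := by
    intro v
    rw [semiMap_sum]
    have e1 : ∀ i, semiMap σ g ((semiMap σ g)^[i] v) = (semiMap σ g)^[i + 1] v := by
      intro i
      rw [Function.iterate_succ_apply']
    simp only [e1]
    have e2 := Finset.sum_range_succ (fun i => (semiMap σ g)^[i] v) r
    have e3 := Finset.sum_range_succ' (fun i => (semiMap σ g)^[i] v) r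
    rw [e3, hψr] at e2
    simp only [Function.iterate_zero, id_eq] at e2
    exact add_right_cancel e2
  -- the fixed points span
  have hspan : Submodule.span F {w : Fin n → F | semiMap σ g w = w} = ⊤ := by
    by_contra hne
    obtain ⟨f, hf0, hfle⟩ := Submodule.exists_le_ker_of_lt_top _ (lt_top_iff_ne_top.2 hne)
    apply hf0
    apply LinearMap.ext
    intro v
    have key : ∀ t : F, ∑ i ∈ Finset.range r, f ((semiMap σ g)^[i] v) * (σ ^ i) t = 0 := by
      intro t
      have h1 : (∑ i ∈ Finset.range r, (semiMap σ g)^[i] (t • v)) ∈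
          Submodule.span F {w : Fin n → F | semiMap σ g w = w} :=
        Submodule.subset_span (hT (t • v))
      have h2 := hfle h1
      rw [LinearMap.mem_ker, map_sum] at h2
      rw [← h2]
      apply Finset.sum_congr rfl
      intro i _
      rw [semiMap_iterate_smul, map_smul, smul_eq_mul, mul_comm]
    have := aut_pow_independent σ r hinj (fun i => f ((semiMap σ g)^[i] v)) key 0 hr
    exact this
  -- extract a basis
  obtain ⟨b, hbV, hbspan, hbli⟩ :=
    exists_linearIndependent F {w : Fin n → F | semiMap σ g w = w}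
  rw [hspan] at hbspan
  let bs : Module.Basis b F (Fin n → F) := Module.Basis.mk hbli (by rw [Subtype.range_coe]; exact hbspan.ge)
  have hfin : Finite b := Module.Finite.finite_basis bs
  have hcard : Nat.card b = n := by
    rw [← Module.finrank_eq_nat_card_basis bs, Module.finrank_fin_fun]
  let e : b ≃ Fin n := Finite.equivFinOfCardEq hcard
  refine ⟨Matrix.of (fun i k => (e.symm k : Fin n → F) i), ?_, ?_⟩
  · rw [← Matrix.linearIndependent_cols_iff_isUnit]
    exact hbli.comp e.symm e.symm.injective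
  · ext i k
    have hk : semiMap σ g (e.symm k : Fin n → F) = (e.symm k : Fin n → F) := hbV (e.symm k).2
    have := congrFun hk i
    rw [Matrix.of_apply, ← this]
    simp only [semiMap, Matrix.mul_apply, Matrix.mulVec, dotProduct, Matrix.map_apply,
      Matrix.of_apply]

/-- the partial norms `μ σ(μ) ⋯ σ^{k-1}(μ)` of a field element -/
def fnorm (σ : RingAut F) (μ : F) (k : ℕ) : F := ∏ i ∈ Finset.range k, (σ ^ i) μ

theorem fnorm_zero (σ : RingAut F) (μ : F) : fnorm σ μ 0 = 1 := Finset.prod_range_zero _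

theorem fnorm_succ (σ : RingAut F) (μ : F) (k : ℕ) :
    fnorm σ μ (k + 1) = fnorm σ μ k * (σ ^ k) μ := Finset.prod_range_succ _ _

theorem fnorm_succ' (σ : RingAut F) (μ : F) (k : ℕ) :
    fnorm σ μ (k + 1) = μ * σ (fnorm σ μ k) := by
  unfold fnorm
  rw [Finset.prod_range_succ', map_prod, mul_comm]
  congr 1
  apply Finset.prod_congr rfl
  intro i _
  rw [pow_succ']
  rfl

theorem fnorm_mul (σ : RingAut F) (μ ν : F) (k : ℕ) :
    fnorm σ (μ * ν) k = fnorm σ μ k * fnorm σ ν k := by
  unfold fnorm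
  rw [← Finset.prod_mul_distrib]
  apply Finset.prod_congr rfl
  intro i _
  rw [map_mul]

theorem fnorm_one (σ : RingAut F) (k : ℕ) : fnorm σ (1 : F) k = 1 := by
  unfold fnorm
  apply Finset.prod_eq_one
  intro i _
  rw [map_one]

theorem fnorm_inv (σ : RingAut F) (μ : F) (k : ℕ) : fnorm σ μ⁻¹ k = (fnorm σ μ k)⁻¹ := by
  unfold fnorm
  rw [← Finset.prod_inv_distrib]
  apply Finset.prod_congr rfl
  intro i _
  rw [map_inv₀]

theorem fnorm_ne_zero (σ : RingAut F) {μ : F} (hμ : μ ≠ 0) (k : ℕ) : fnorm σ μ k ≠ 0 := by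
  unfold fnorm
  rw [Finset.prod_ne_zero_iff]
  intro i _
  exact (map_ne_zero _).2 hμ

/-- the norm is fixed by `σ` -/
theorem fnorm_fixed (σ : RingAut F) (r : ℕ) (hσ : σ ^ r = 1) (μ : F) :
    σ (fnorm σ μ r) = fnorm σ μ r := by
  by_cases hμ : μ = 0
  · subst hμ
    rcases Nat.eq_zero_or_pos r with rfl | hr
    · rw [fnorm_zero, map_one]
    · have : fnorm σ (0 : F) r = 0 := by
        unfold fnorm
        apply Finset.prod_eq_zero (Finset.mem_range.2 hr)
        rw [map_zero]
      rw [this, map_zero]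
  · have e1 := fnorm_succ σ μ r
    have e2 := fnorm_succ' σ μ r
    rw [hσ] at e1
    rw [e1] at e2
    have : fnorm σ μ r * μ = σ (fnorm σ μ r) * μ := by rw [mul_comm (σ _)]; exact e2
    exact (mul_right_cancel₀ hμ this).symm

/-- the norm of `σ μ` -/
theorem fnorm_apply (σ : RingAut F) (r : ℕ) (hσ : σ ^ r = 1) (μ : F) :
    fnorm σ (σ μ) r = fnorm σ μ r := by
  rw [← fnorm_fixed σ r hσ μ]
  unfold fnorm
  rw [map_prod]
  apply Finset.prod_congr rfl
  intro i _
  rw [← RingAut.mul_apply, ← RingAut.mul_apply, ← pow_succ, ← pow_succ']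

/-- **Hilbert's Theorem 90** for a cyclic group of field automorphisms -/
theorem hilbert90_field (σ : RingAut F) (r : ℕ) (hr : 0 < r) (hσ : σ ^ r = 1)
    (hinj : ∀ i j, i < r → j < r → σ ^ i = σ ^ j → i = j) (μ : F) (hN : fnorm σ μ r = 1) :
    ∃ b : F, b ≠ 0 ∧ μ * σ b = b := by
  have hex : ∃ t : F, ∑ i ∈ Finset.range r, fnorm σ μ i * (σ ^ i) t ≠ 0 := by
    by_contra hcon
    simp only [not_exists, not_not] at hcon
    have := aut_pow_independent σ r hinj (fun i => fnorm σ μ i) hcon 0 hr
    rw [fnorm_zero] at this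
    exact one_ne_zero this
  obtain ⟨t, ht⟩ := hex
  refine ⟨_, ht, ?_⟩
  rw [map_sum, Finset.mul_sum]
  have e1 : ∀ i, μ * σ (fnorm σ μ i * (σ ^ i) t) = fnorm σ μ (i + 1) * (σ ^ (i + 1)) t := by
    intro i
    rw [map_mul, ← mul_assoc, ← fnorm_succ', pow_succ']
    rfl
  simp only [e1]
  have e2 := Finset.sum_range_succ (fun i => fnorm σ μ i * (σ ^ i) t) r
  have e3 := Finset.sum_range_succ' (fun i => fnorm σ μ i * (σ ^ i) t) r
  rw [e3, hN, hσ, fnorm_zero, pow_zero] at e2
  simp only [RingAut.one_apply, one_mul] at e2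
  exact add_right_cancel e2

/-- the norm on units -/
def unormHom (σ : RingAut F) (r : ℕ) : Fˣ →* Fˣ where
  toFun u := Units.mk0 (fnorm σ (u : F) r) (fnorm_ne_zero σ u.ne_zero r)
  map_one' := Units.ext (by rw [Units.val_mk0, Units.val_one, fnorm_one])
  map_mul' u v := Units.ext (by simp only [Units.val_mk0, Units.val_mul, fnorm_mul])

theorem unormHom_val (σ : RingAut F) (r : ℕ) (u : Fˣ) :
    ((unormHom σ r u : Fˣ) : F) = fnorm σ (u : F) r := rfl

/-- the map `b ↦ b / σ(b)` on units -/
def langHom (σ : RingAut F) : Fˣ →* Fˣ where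
  toFun u := Units.mk0 ((u : F) / σ (u : F)) (div_ne_zero u.ne_zero ((map_ne_zero _).2 u.ne_zero))
  map_one' := Units.ext (by rw [Units.val_mk0, Units.val_one, map_one, div_one])
  map_mul' u v := Units.ext (by
    simp only [Units.val_mk0, Units.val_mul, map_mul, mul_div_mul_comm])

theorem langHom_val (σ : RingAut F) (u : Fˣ) :
    ((langHom σ u : Fˣ) : F) = (u : F) / σ (u : F) := rfl

theorem mem_ker_langHom (σ : RingAut F) (u : Fˣ) : u ∈ (langHom σ).ker ↔ σ (u : F) = u := by
  rw [MonoidHom.mem_ker, Units.ext_iff, langHom_val, Units.val_one,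
    div_eq_one_iff_eq ((map_ne_zero _).2 u.ne_zero)]
  exact eq_comm

/-- **Surjectivity of the norm** of a finite field onto the fixed field. -/
theorem norm_surj [Finite F] (σ : RingAut F) (r : ℕ) (hr : 0 < r) (hσ : σ ^ r = 1)
    (hinj : ∀ i j, i < r → j < r → σ ^ i = σ ^ j → i = j) (c : F) (hc0 : c ≠ 0) (hc : σ c = c) :
    ∃ μ : F, μ ≠ 0 ∧ fnorm σ μ r = c := by
  have hker : (unormHom σ r).ker = (langHom σ).range := by
    ext u
    constructor
    · intro hu
      rw [MonoidHom.mem_ker, Units.ext_iff, unormHom_val, Units.val_one] at hu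
      obtain ⟨b, hb0, hb⟩ := hilbert90_field σ r hr hσ hinj _ hu
      refine ⟨Units.mk0 b hb0, ?_⟩
      apply Units.ext
      rw [langHom_val, Units.val_mk0, div_eq_iff ((map_ne_zero _).2 hb0)]
      exact hb.symm
    · rintro ⟨b, rfl⟩
      rw [MonoidHom.mem_ker, Units.ext_iff, unormHom_val, Units.val_one, langHom_val,
        div_eq_mul_inv, fnorm_mul, fnorm_inv, fnorm_apply σ r hσ,
        mul_inv_cancel₀ (fnorm_ne_zero σ b.ne_zero r)]
  have hle : (unormHom σ r).range ≤ (langHom σ).ker := by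
    rintro _ ⟨u, rfl⟩
    rw [mem_ker_langHom, unormHom_val]
    exact fnorm_fixed σ r hσ _
  have h1 := Subgroup.card_mul_index (unormHom σ r).ker
  have h2 := Subgroup.card_mul_index (langHom σ).ker
  rw [Subgroup.index_ker] at h1 h2
  rw [hker] at h1
  have hpos : 0 < Nat.card (langHom σ).range := Nat.card_pos
  have hcard : Nat.card (langHom σ).ker = Nat.card (unormHom σ r).range := by
    have : Nat.card (langHom σ).range * Nat.card (unormHom σ r).range =
        Nat.card (langHom σ).range * Nat.card (langHom σ).ker := by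
      rw [h1, mul_comm, h2]
    exact (Nat.eq_of_mul_eq_mul_left hpos this).symm
  have heq : (unormHom σ r).range = (langHom σ).ker :=
    Subgroup.eq_of_le_of_card_ge hle hcard.le
  have hmem : Units.mk0 c hc0 ∈ (langHom σ).ker := by
    rw [mem_ker_langHom]
    exact hc
  rw [← heq] at hmem
  obtain ⟨u, hu⟩ := hmem
  refine ⟨u, u.ne_zero, ?_⟩
  have := congrArg Units.val hu
  rw [unormHom_val, Units.val_mk0] at this
  exact this

end Cfsg.Agent.Lib.H7AutPSL
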