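import Cfsg.Agent.Lib.Helper7.AutPSL.PSLDataD
import Mathlib

/-!
# Standard automorphisms of `SL_{m+1}(F)` and `PSL_{m+1}(F)` (helper7)

Conjugation by an element of `GL`, the entrywise field automorphisms and the inverse transpose, as
automorphisms of `SL` and (by descent to the central quotient) of `PSL`; their action on root
elements and their commutation relations.
-/

set_option autoImplicit false

namespace Cfsg.Agent.Lib.H7AutPSL

open Matrix Cfsg Cfsg.Agent.Lib.Helper5 Cfsg.Agent.Lib.Helper5.GLBN Cfsg.Agent.Lib.Helper5.AutBN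
open Cfsg.Agent.H9.SLnA Cfsg.Agent.H9.SLnB
open scoped MatrixGroups

variable {m : ℕ} {F : Type*} [Field F]

local notation "SLn" => Matrix.SpecialLinearGroup (Fin (m + 1)) F
local notation "PSLn" => Matrix.ProjectiveSpecialLinearGroup (Fin (m + 1)) F
local notation "GLn" => GL (Fin (m + 1)) F

/-- descend an automorphism of `SL` to `PSL` -/
noncomputable def liftAut (e : SLn ≃* SLn) : PSLn ≃* PSLn :=
  QuotientGroup.congr (Subgroup.center SLn) (Subgroup.center SLn) e
    (Subgroup.characteristic_iff_map_eq.mp inferInstance e)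

theorem liftAut_prj (e : SLn ≃* SLn) (g : SLn) : liftAut e (prj g) = prj (e g) := by
  unfold liftAut prj
  exact QuotientGroup.congr_mk _ _ e _ g

theorem liftAut_trans (e e' : SLn ≃* SLn) : liftAut (e.trans e') = (liftAut e).trans (liftAut e') := by
  ext x
  obtain ⟨g, rfl⟩ := prj_surjective x
  rw [MulEquiv.trans_apply, liftAut_prj, liftAut_prj, liftAut_prj, MulEquiv.trans_apply]

/-- two automorphisms of `PSL` agreeing on all classes are equal -/
theorem aut_ext {α β : PSLn ≃* PSLn} (h : ∀ g : SLn, α (prj g) = β (prj g)) : α = β := by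
  ext x
  obtain ⟨g, rfl⟩ := prj_surjective x
  exact h g

/-! ### Conjugation by an element of `GL` -/

theorem det_conj (g : GLn) (s : SLn) :
    ((g : Matrix (Fin (m + 1)) (Fin (m + 1)) F) * s.1 *
      ((g⁻¹ : GLn) : Matrix (Fin (m + 1)) (Fin (m + 1)) F)).det = 1 := by
  rw [det_mul, det_mul, s.2, mul_one, ← det_mul, ← Units.val_mul, mul_inv_cancel, Units.val_one,
    det_one]

/-- conjugation by an element of `GL`, on `SL` -/
def conjSLfun (g : GLn) (s : SLn) : SLn :=
  ⟨(g : Matrix (Fin (m + 1)) (Fin (m + 1)) F) * s.1 *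
    ((g⁻¹ : GLn) : Matrix (Fin (m + 1)) (Fin (m + 1)) F), det_conj g s⟩

theorem conjSLfun_val (g : GLn) (s : SLn) : (conjSLfun g s).1 =
    (g : Matrix (Fin (m + 1)) (Fin (m + 1)) F) * s.1 *
      ((g⁻¹ : GLn) : Matrix (Fin (m + 1)) (Fin (m + 1)) F) := rfl

theorem inv_mul_val (g : GLn) : ((g⁻¹ : GLn) : Matrix (Fin (m + 1)) (Fin (m + 1)) F) *
    (g : Matrix (Fin (m + 1)) (Fin (m + 1)) F) = 1 := by
  rw [← Units.val_mul, inv_mul_cancel, Units.val_one]

theorem mul_inv_val (g : GLn) : (g : Matrix (Fin (m + 1)) (Fin (m + 1)) F) *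
    ((g⁻¹ : GLn) : Matrix (Fin (m + 1)) (Fin (m + 1)) F) = 1 := by
  rw [← Units.val_mul, mul_inv_cancel, Units.val_one]

theorem conjSLfun_mul (g : GLn) (s t : SLn) :
    conjSLfun g (s * t) = conjSLfun g s * conjSLfun g t := by
  apply Subtype.ext
  rw [Matrix.SpecialLinearGroup.coe_mul, conjSLfun_val, conjSLfun_val, conjSLfun_val,
    Matrix.SpecialLinearGroup.coe_mul]
  calc (g : Matrix (Fin (m + 1)) (Fin (m + 1)) F) * (s.1 * t.1) *
        ((g⁻¹ : GLn) : Matrix (Fin (m + 1)) (Fin (m + 1)) F)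
      = (g : Matrix (Fin (m + 1)) (Fin (m + 1)) F) * s.1 * 1 * t.1 *
        ((g⁻¹ : GLn) : Matrix (Fin (m + 1)) (Fin (m + 1)) F) := by
        rw [Matrix.mul_one]; simp only [Matrix.mul_assoc]
    _ = _ := by rw [← inv_mul_val g]; simp only [Matrix.mul_assoc]

theorem conjSLfun_comp (g h : GLn) (s : SLn) : conjSLfun g (conjSLfun h s) = conjSLfun (g * h) s := by
  apply Subtype.ext
  rw [conjSLfun_val, conjSLfun_val, conjSLfun_val, _root_.mul_inv_rev, Units.val_mul, Units.val_mul]
  simp only [Matrix.mul_assoc]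

theorem conjSLfun_one (s : SLn) : conjSLfun (1 : GLn) s = s := by
  apply Subtype.ext
  rw [conjSLfun_val, inv_one, Units.val_one, Matrix.one_mul, Matrix.mul_one]

/-- conjugation by an element of `GL`, as an automorphism of `SL` -/
def conjSL (g : GLn) : SLn ≃* SLn where
  toFun := conjSLfun g
  invFun := conjSLfun g⁻¹
  left_inv s := by rw [conjSLfun_comp, inv_mul_cancel, conjSLfun_one]
  right_inv s := by rw [conjSLfun_comp, mul_inv_cancel, conjSLfun_one]
  map_mul' := conjSLfun_mul g

theorem conjSL_val (g : GLn) (s : SLn) : (conjSL g s).1 =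
    (g : Matrix (Fin (m + 1)) (Fin (m + 1)) F) * s.1 *
      ((g⁻¹ : GLn) : Matrix (Fin (m + 1)) (Fin (m + 1)) F) := rfl

/-- conjugation by an element of `GL`, as an automorphism of `PSL` -/
noncomputable def conjT (g : GLn) : PSLn ≃* PSLn := liftAut (conjSL g)

theorem conjT_prj (g : GLn) (s : SLn) : conjT g (prj s) = prj (conjSL g s) := liftAut_prj _ _

theorem conjSL_toGL (ξ s : SLn) : conjSL (Matrix.SpecialLinearGroup.toGL ξ) s = ξ * s * ξ⁻¹ := by
  apply Subtype.ext
  rw [conjSL_val, Matrix.SpecialLinearGroup.coe_mul, Matrix.SpecialLinearGroup.coe_mul, ← map_inv]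
  rfl

theorem conjT_toGL (ξ : SLn) : conjT (Matrix.SpecialLinearGroup.toGL ξ) = MulAut.conj (prj ξ) := by
  apply aut_ext
  intro s
  rw [conjT_prj, conjSL_toGL, MulAut.conj_apply, map_mul, map_mul, map_inv]

theorem conjT_mul (g h : GLn) : conjT (g * h) = (conjT h).trans (conjT g) := by
  apply aut_ext
  intro s
  rw [MulEquiv.trans_apply, conjT_prj, conjT_prj, conjT_prj]
  congr 1
  exact (conjSLfun_comp g h s).symm

/-! ### Field automorphisms -/

/-- the entrywise field automorphism of `SL` -/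
def fieldSL (σ : F ≃+* F) : SLn ≃* SLn where
  toFun := Matrix.SpecialLinearGroup.map (σ : F →+* F)
  invFun := Matrix.SpecialLinearGroup.map (σ.symm : F →+* F)
  left_inv g := by
    apply Subtype.ext
    ext i j
    simp [Matrix.SpecialLinearGroup.map_apply_coe]
  right_inv g := by
    apply Subtype.ext
    ext i j
    simp [Matrix.SpecialLinearGroup.map_apply_coe]
  map_mul' := map_mul _

theorem fieldSL_val (σ : F ≃+* F) (g : SLn) : (fieldSL σ g).1 = g.1.map σ := by
  ext i j
  show (Matrix.SpecialLinearGroup.map (σ : F →+* F) g).1 i j = _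
  simp [Matrix.SpecialLinearGroup.map_apply_coe]

/-- the entrywise field automorphism of `PSL` -/
noncomputable def fieldT (σ : F ≃+* F) : PSLn ≃* PSLn := liftAut (fieldSL σ)

theorem fieldT_prj (σ : F ≃+* F) (s : SLn) : fieldT σ (prj s) = prj (fieldSL σ s) := liftAut_prj _ _

theorem fieldSL_rx (σ : F ≃+* F) (a b : Fin (m + 1)) (hab : a ≠ b) (t : F) :
    fieldSL σ (rx a b hab t) = rx a b hab (σ t) := by
  apply Subtype.ext
  rw [fieldSL_val]
  ext i j
  rw [Matrix.map_apply, rx_apply, rx_apply, map_add]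
  congr 1 <;> split_ifs <;> simp

/-! ### Inverse transpose -/

/-- the inverse transpose, as a function on `SL` -/
def itFun (s : SLn) : SLn := ⟨(s⁻¹).1ᵀ, by rw [det_transpose]; exact (s⁻¹).2⟩

theorem itFun_val (s : SLn) : (itFun s).1 = (s⁻¹).1ᵀ := rfl

theorem itFun_mul (s t : SLn) : itFun (s * t) = itFun s * itFun t := by
  apply Subtype.ext
  rw [Matrix.SpecialLinearGroup.coe_mul, itFun_val, itFun_val, itFun_val, _root_.mul_inv_rev,
    Matrix.SpecialLinearGroup.coe_mul, Matrix.transpose_mul]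

theorem itFun_one : itFun (1 : SLn) = 1 := by
  apply Subtype.ext
  rw [itFun_val, inv_one, Matrix.SpecialLinearGroup.coe_one, Matrix.transpose_one]

theorem itFun_inv (s : SLn) : (itFun s)⁻¹ = itFun s⁻¹ := by
  rw [inv_eq_iff_mul_eq_one, ← itFun_mul, mul_inv_cancel, itFun_one]

theorem itFun_itFun (s : SLn) : itFun (itFun s) = s := by
  apply Subtype.ext
  rw [itFun_val, itFun_inv, itFun_val, inv_inv, Matrix.transpose_transpose]

/-- the inverse transpose automorphism of `SL` -/
def itSL : SLn ≃* SLn where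
  toFun := itFun
  invFun := itFun
  left_inv := itFun_itFun
  right_inv := itFun_itFun
  map_mul' := itFun_mul

theorem itSL_val (s : SLn) : (itSL s).1 = (s⁻¹).1ᵀ := rfl

/-- the inverse transpose automorphism of `PSL` -/
noncomputable def itT : PSLn ≃* PSLn := liftAut itSL

theorem itT_prj (s : SLn) : itT (prj s) = prj (itSL s) := liftAut_prj _ _

theorem itSL_rx (a b : Fin (m + 1)) (hab : a ≠ b) (t : F) :
    itSL (rx a b hab t) = rx b a hab.symm (-t) := by
  apply Subtype.ext
  rw [itSL_val, rx_inv, rx_val, rx_val]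
  unfold transvection
  rw [Matrix.transpose_add, Matrix.transpose_one, Matrix.transpose_single]

end Cfsg.Agent.Lib.H7AutPSL
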