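import Cfsg.Agent.Lib.Lead.AutPSLCountC
import Cfsg.Agent.Lib.Helper7.AutPSL.Hilbert90
import Mathlib

/-!
# Elements of prime order in a field coset of `Inndiag(PSL_n(F))` (helper7)

With lead's `Dh`, `Ph` (`Cfsg.Agent.AutPSLCount`): if `σ` has prime order `r` and
`(Dh g * Ph σ) ^ r = 1`, then `Dh g * Ph σ` is conjugate to `Ph σ` under the image of `Dh`.
-/

set_option autoImplicit false

namespace Cfsg.Agent.Lib.H7AutPSL

open Matrix Cfsg Cfsg.Agent.AutPSLCount

variable {n : ℕ} {F : Type*} [Field F]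

/-- a field automorphism applied to an invertible matrix -/
noncomputable abbrev gmap (σ : RingAut F) : GL (Fin n) F →* GL (Fin n) F :=
  Matrix.GeneralLinearGroup.map (σ : F →+* F)

theorem gmap_val (σ : RingAut F) (g : GL (Fin n) F) : (gmap σ g).val = g.val.map σ := rfl

theorem gmap_one_aut (g : GL (Fin n) F) : gmap (1 : RingAut F) g = g := by
  apply Units.ext
  rw [gmap_val]
  ext i j
  rfl

theorem gmap_mul_aut (σ τ : RingAut F) (g : GL (Fin n) F) :
    gmap (σ * τ) g = gmap σ (gmap τ g) := by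
  apply Units.ext
  rw [gmap_val, gmap_val, gmap_val]
  ext i j
  rfl

/-- the partial norms in `GL` -/
noncomputable def gnorm (σ : RingAut F) (g : GL (Fin n) F) : ℕ → GL (Fin n) F
  | 0 => 1
  | k + 1 => g * gmap σ (gnorm σ g k)

theorem gnorm_val (σ : RingAut F) (g : GL (Fin n) F) (k : ℕ) :
    (gnorm σ g k).val = pnorm σ g.val k := by
  induction k with
  | zero => rfl
  | succ k ih =>
    show (g * gmap σ (gnorm σ g k)).val = g.val * (pnorm σ g.val k).map σ
    rw [Units.val_mul, gmap_val, ih]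

/-- the second recursion for the partial norms -/
theorem gnorm_succ' (σ : RingAut F) (g : GL (Fin n) F) (k : ℕ) :
    gnorm σ g (k + 1) = gnorm σ g k * gmap (σ ^ k) g := by
  induction k with
  | zero =>
    show g * gmap σ 1 = 1 * gmap (σ ^ 0) g
    rw [map_one, mul_one, one_mul, pow_zero, gmap_one_aut]
  | succ k ih =>
    show g * gmap σ (gnorm σ g (k + 1)) = g * gmap σ (gnorm σ g k) * gmap (σ ^ (k + 1)) g
    rw [ih, map_mul, pow_succ', gmap_mul_aut, mul_assoc]

/-- powers of an element of a field coset -/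
theorem coset_pow (σ : RingAut F) (g : GL (Fin n) F) (k : ℕ) :
    (Dh g * Ph σ) ^ k = Dh (gnorm σ g k) * Ph (σ ^ k) := by
  induction k with
  | zero =>
    show _ = Dh (1 : GL (Fin n) F) * Ph (σ ^ 0)
    rw [pow_zero, pow_zero, map_one, map_one, mul_one]
  | succ k ih =>
    show _ = Dh (g * gmap σ (gnorm σ g k)) * Ph (σ ^ (k + 1))
    rw [pow_succ', ih, map_mul, pow_succ', map_mul]
    calc Dh g * Ph σ * (Dh (gnorm σ g k) * Ph (σ ^ k))
        = Dh g * (Ph σ * Dh (gnorm σ g k)) * Ph (σ ^ k) := by simp only [mul_assoc]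
      _ = _ := by rw [Ph_Dh]; simp only [mul_assoc]

theorem pnorm_smul (σ : RingAut F) (c : F) (M : Matrix (Fin n) (Fin n) F) (k : ℕ) :
    pnorm σ (c • M) k = fnorm σ c k • pnorm σ M k := by
  induction k with
  | zero =>
    show (1 : Matrix (Fin n) (Fin n) F) = fnorm σ c 0 • 1
    rw [fnorm_zero, one_smul]
  | succ k ih =>
    show (c • M) * (pnorm σ (c • M) k).map σ = fnorm σ c (k + 1) • (M * (pnorm σ M k).map σ)
    rw [ih, fnorm_succ']
    have : (fnorm σ c k • pnorm σ M k).map σ = σ (fnorm σ c k) • (pnorm σ M k).map σ := by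
      ext i j
      simp
    rw [this, Matrix.smul_mul, Matrix.mul_smul, smul_smul]

section finite

variable [Finite F]

/-- **Elements of order `r` in the coset of a field automorphism of prime order `r`.** -/
theorem field_coset_conj (hn : 2 ≤ n) (σ : RingAut F) (r : ℕ) (hr : r.Prime) (hσ : orderOf σ = r)
    (g : GL (Fin n) F) (hy : (Dh g * Ph σ) ^ r = 1) :
    ∃ h : GL (Fin n) F, Dh g * Ph σ = Dh h * Ph σ * (Dh h)⁻¹ := by
  have hσr : σ ^ r = 1 := by rw [← hσ]; exact pow_orderOf_eq_one σ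
  have hinj : ∀ i j, i < r → j < r → σ ^ i = σ ^ j → i = j := by
    intro i j hi hj hij
    rw [← hσ] at hi hj
    exact pow_injOn_Iio_orderOf (Set.mem_Iio.2 hi) (Set.mem_Iio.2 hj) hij
  -- the norm of `g` is a scalar
  rw [coset_pow, hσr, map_one, mul_one] at hy
  have hcen : gnorm σ g r ∈ Subgroup.center (GL (Fin n) F) := by
    rw [← Dh_ker hn]
    exact hy
  rw [Matrix.GeneralLinearGroup.center_eq_range_scalar] at hcen
  obtain ⟨c, hc⟩ := hcen
  -- the scalar is fixed by `σ`
  have hfix : σ (c : F) = c := by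
    have e1 : gnorm σ g (r + 1) = g * gmap σ (gnorm σ g r) := rfl
    have e2 := gnorm_succ' σ g r
    rw [hσr, gmap_one_aut, e1, ← hc] at e2
    have e3 : (Matrix.GeneralLinearGroup.scalar (Fin n) c) * g =
        g * Matrix.GeneralLinearGroup.scalar (Fin n) c := by
      have hz : Matrix.GeneralLinearGroup.scalar (Fin n) c ∈ Subgroup.center (GL (Fin n) F) := by
        rw [Matrix.GeneralLinearGroup.center_eq_range_scalar]
        exact ⟨c, rfl⟩
      exact (Subgroup.mem_center_iff.1 hz g).symm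
    rw [e3] at e2
    have e4 := mul_left_cancel e2
    have e5 := congrArg (fun x : GL (Fin n) F => x.val ⟨0, by omega⟩ ⟨0, by omega⟩) e4
    simp only [gmap_val, Matrix.map_apply] at e5
    simpa using e5
  obtain ⟨μ, hμ0, hμ⟩ := norm_surj σ r hr.pos hσr hinj c c.ne_zero hfix
  -- normalise `g`
  have hN : pnorm σ (μ⁻¹ • g.val) r = 1 := by
    rw [pnorm_smul, ← gnorm_val, ← hc, fnorm_inv, hμ]
    ext i j
    rw [Matrix.smul_apply, Matrix.GeneralLinearGroup.coe_scalar, Matrix.scalar_apply,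
      Matrix.diagonal_apply, Matrix.one_apply]
    split_ifs
    · exact inv_mul_cancel₀ c.ne_zero
    · rw [smul_zero]
  obtain ⟨P, hPu, hP⟩ := hilbert90_matrix σ r hr.pos hσr hinj _ hN
  refine ⟨hPu.unit, ?_⟩
  have hval : (hPu.unit : GL (Fin n) F).val = P := IsUnit.unit_spec hPu
  -- `g σ(h) = μ h`
  have e1 : g * gmap σ hPu.unit =
      Matrix.GeneralLinearGroup.scalar (Fin n) (Units.mk0 μ hμ0) * hPu.unit := by
    apply Units.ext
    rw [Units.val_mul, Units.val_mul, gmap_val, hval, Matrix.GeneralLinearGroup.coe_scalar,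
      Units.val_mk0, Matrix.scalar_apply, ← Matrix.smul_eq_diagonal_mul]
    rw [Matrix.smul_mul] at hP
    conv_rhs => rw [← hP]
    rw [smul_smul, mul_inv_cancel₀ hμ0, one_smul]
  have hsc : Dh (Matrix.GeneralLinearGroup.scalar (Fin n) (Units.mk0 μ hμ0)) =
      (1 : MulAut (PSLn n F)) := by
    have : Matrix.GeneralLinearGroup.scalar (Fin n) (Units.mk0 μ hμ0) ∈
        (Dh : GL (Fin n) F →* MulAut (PSLn n F)).ker := by
      rw [Dh_ker hn, Matrix.GeneralLinearGroup.center_eq_range_scalar]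
      exact ⟨_, rfl⟩
    exact this
  have e2 : Dh g * Dh (gmap σ hPu.unit) = (Dh hPu.unit : MulAut (PSLn n F)) := by
    rw [← map_mul, e1, map_mul, hsc, one_mul]
  have e3 := Ph_Dh σ (hPu.unit : GL (Fin n) F)
  -- assemble
  have e4 : Dh g = (Dh hPu.unit : MulAut (PSLn n F)) * (Dh (gmap σ hPu.unit))⁻¹ := by
    rw [← e2, mul_inv_cancel_right]
  have e5 : Ph σ * (Dh hPu.unit : MulAut (PSLn n F))⁻¹ = (Dh (gmap σ hPu.unit))⁻¹ * Ph σ := by
    rw [eq_inv_mul_iff_mul_eq, ← mul_assoc, ← e3, mul_inv_cancel_right]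
  rw [e4, mul_assoc, ← e5, ← mul_assoc]

end finite

end Cfsg.Agent.Lib.H7AutPSL
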