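import Cfsg.Agent.Lib.Helper7.AutPSL.Steinberg
import Mathlib

/-!
# The diagram symmetry of `PSL_{m+1}(F)` (helper7)

A permutation of the fundamental root subgroups induced by an automorphism preserves the Dynkin
diagram `A_m`, hence is trivial or the reversal; the reversal is realised by the inverse transpose
followed by conjugation by the longest Weyl element.
-/

set_option autoImplicit false

namespace Cfsg.Agent.Lib.H7AutPSL

open Matrix Cfsg Cfsg.Agent.Lib.Helper5 Cfsg.Agent.Lib.Helper5.GLBN Cfsg.Agent.Lib.Helper5.AutBN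
open Cfsg.Agent.H9.SLnA Cfsg.Agent.H9.SLnB
open scoped MatrixGroups

/-! ### Automorphisms of the path -/

/-- adjacency in the Dynkin diagram `A_m` -/
def AdjA {m : ℕ} (i j : Fin m) : Prop := i.val + 1 = j.val ∨ j.val + 1 = i.val

theorem adjA_rev {m : ℕ} (i j : Fin m) : AdjA (Fin.rev i) (Fin.rev j) ↔ AdjA i j := by
  unfold AdjA
  rw [Fin.val_rev, Fin.val_rev]
  have := i.isLt
  have := j.isLt
  omega

/-- a permutation of the path `A_m` preserving adjacency and fixing the first vertex is trivial -/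
theorem perm_path_aux {m : ℕ} (hm : 0 < m) (ρ : Equiv.Perm (Fin m))
    (h : ∀ i j, AdjA i j ↔ AdjA (ρ i) (ρ j)) (h0 : (ρ ⟨0, hm⟩).val = 0) : ρ = 1 := by
  have key : ∀ n : ℕ, ∀ i : Fin m, i.val = n → (ρ i).val = n := by
    intro n
    induction n using Nat.strong_induction_on with
    | _ n ih =>
      intro i hi
      rcases Nat.eq_zero_or_pos n with hn | hn
      · have : i = ⟨0, hm⟩ := Fin.ext (by rw [hi, hn])
        rw [this, h0, hn]
      · obtain ⟨k, rfl⟩ : ∃ k, n = k + 1 := ⟨n - 1, by omega⟩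
        have hk : k < m := by have := i.isLt; omega
        have hj := ih k (by omega) ⟨k, hk⟩ rfl
        have hadj : AdjA (⟨k, hk⟩ : Fin m) i := Or.inl (by rw [hi])
        rw [h] at hadj
        rcases hadj with e | e
        · rw [← e, hj]
        · exfalso
          rw [hj] at e
          have hk1 : 1 ≤ k := by omega
          have hl := ih (k - 1) (by omega) ⟨k - 1, by omega⟩ rfl
          have : ρ i = ρ ⟨k - 1, by omega⟩ := Fin.ext (by rw [hl]; omega)
          have := congrArg Fin.val (ρ.injective this)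
          simp only at this
          omega
  ext i
  rw [Equiv.Perm.one_apply, key i.val i rfl]

/-- the automorphisms of the path `A_m` -/
theorem perm_path {m : ℕ} (ρ : Equiv.Perm (Fin m)) (h : ∀ i j, AdjA i j ↔ AdjA (ρ i) (ρ j)) :
    ρ = 1 ∨ ρ = Fin.revPerm := by
  rcases Nat.eq_zero_or_pos m with hm | hm
  · subst hm
    left
    ext i
    exact i.elim0
  -- the image of the first vertex is an end vertex
  have hend : (ρ ⟨0, hm⟩).val = 0 ∨ (ρ ⟨0, hm⟩).val = m - 1 := by
    by_contra hcon
    rw [not_or] at hcon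
    have hk := (ρ ⟨0, hm⟩).isLt
    set k := (ρ ⟨0, hm⟩).val with hkdef
    have h1 : AdjA (ρ (ρ⁻¹ ⟨k - 1, by omega⟩)) (ρ ⟨0, hm⟩) := by
      rw [show ∀ x, ρ (ρ⁻¹ x) = x from fun x => by simp]
      left
      show k - 1 + 1 = k
      omega
    have h2 : AdjA (ρ (ρ⁻¹ ⟨k + 1, by omega⟩)) (ρ ⟨0, hm⟩) := by
      rw [show ∀ x, ρ (ρ⁻¹ x) = x from fun x => by simp]
      right
      rfl
    rw [← h] at h1 h2
    have e1 : (ρ⁻¹ ⟨k - 1, by omega⟩ : Fin m).val = 1 := by
      rcases h1 with e | e
      · simp only at e; omega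
      · simp only at e; omega
    have e2 : (ρ⁻¹ ⟨k + 1, by omega⟩ : Fin m).val = 1 := by
      rcases h2 with e | e
      · simp only at e; omega
      · simp only at e; omega
    have : (ρ⁻¹ ⟨k - 1, by omega⟩ : Fin m) = ρ⁻¹ ⟨k + 1, by omega⟩ := Fin.ext (e1.trans e2.symm)
    have := congrArg Fin.val ((ρ⁻¹).injective this)
    simp only at this
    omega
  rcases hend with h0 | h0
  · exact Or.inl (perm_path_aux hm ρ h h0)
  · right
    have h' : ∀ i j, AdjA i j ↔ AdjA (((Fin.revPerm : Equiv.Perm (Fin m)) * ρ) i)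
        (((Fin.revPerm : Equiv.Perm (Fin m)) * ρ) j) := by
      intro i j
      rw [Equiv.Perm.mul_apply, Equiv.Perm.mul_apply, Fin.revPerm_apply, Fin.revPerm_apply,
        adjA_rev]
      exact h i j
    have h0' : (((Fin.revPerm : Equiv.Perm (Fin m)) * ρ) ⟨0, hm⟩).val = 0 := by
      rw [Equiv.Perm.mul_apply, Fin.revPerm_apply, Fin.val_rev, h0]
      omega
    have e := perm_path_aux hm _ h' h0'
    have e2 : ρ = (Fin.revPerm : Equiv.Perm (Fin m))⁻¹ := eq_inv_of_mul_eq_one_right e
    rw [e2]
    ext i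
    rw [Equiv.Perm.inv_def, Fin.revPerm_symm]

/-! ### Commuting fundamental root subgroups -/

variable {m : ℕ} {F : Type*} [Field F]

local notation "SLn" => Matrix.SpecialLinearGroup (Fin (m + 1)) F
local notation "PSLn" => Matrix.ProjectiveSpecialLinearGroup (Fin (m + 1)) F
local notation "GLn" => GL (Fin (m + 1)) F

/-- the positive fundamental root subgroups -/
def Xp (F : Type*) [Field F] (i : Fin m) :
    Subgroup (Matrix.ProjectiveSpecialLinearGroup (Fin (m + 1)) F) :=
  XT i.castSucc i.succ (castSucc_ne_succ i)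

/-- the negative fundamental root subgroups -/
def Xm (F : Type*) [Field F] (i : Fin m) :
    Subgroup (Matrix.ProjectiveSpecialLinearGroup (Fin (m + 1)) F) :=
  XT i.succ i.castSucc (castSucc_ne_succ i).symm

theorem rx_congr {a b a' b' : Fin (m + 1)} (hab : a ≠ b) (ha : a = a') (hb : b = b') (t : F) :
    rx a b hab t = rx a' b' (by rw [← ha, ← hb]; exact hab) t := by
  subst ha hb
  rfl

/-- the fundamental root subgroups `X_i`, `X_j` commute elementwise exactly when `i`, `j` are not
joined in the Dynkin diagram -/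
theorem commX_iff (i j : Fin m) :
    (∀ x ∈ Xp F i, ∀ y ∈ Xp F j, x * y = y * x) ↔ ¬ AdjA i j := by
  have chain : ∀ i j : Fin m, i.val + 1 = j.val →
      ¬ (∀ x ∈ Xp F i, ∀ y ∈ Xp F j, x * y = y * x) := by
    intro i j hij hcomm
    have e : i.succ = j.castSucc := Fin.ext (by rw [Fin.val_succ, Fin.val_castSucc]; exact hij)
    have hne2 : i.succ ≠ j.succ := by rw [e]; exact castSucc_ne_succ j
    have hne3 : i.castSucc ≠ j.succ := by
      intro e'
      have := congrArg Fin.val e'
      rw [Fin.val_succ, Fin.val_castSucc] at this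
      omega
    have hy : prj (rx i.succ j.succ hne2 (1 : F)) ∈ Xp F j := by
      rw [rx_congr hne2 e rfl]
      exact prj_rx_mem_XT _ _ _ _
    have h1 := hcomm _ (prj_rx_mem_XT i.castSucc i.succ (castSucc_ne_succ i) (1 : F)) _ hy
    have h2 := prj_rx_commutator i.castSucc i.succ j.succ (castSucc_ne_succ i) hne2 hne3 (1 : F) 1
    rw [h1, mul_inv_cancel_right, mul_inv_cancel, mul_one] at h2
    have h3 := (prj_eq_one_iff _).1 h2.symm
    exact rx_not_mem_center _ _ hne3 one_ne_zero h3
  constructor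
  · intro hcomm hadj
    rcases hadj with h | h
    · exact chain i j h hcomm
    · exact chain j i h (fun x hx y hy => (hcomm y hy x hx).symm)
  · intro hadj x hx y hy
    obtain ⟨t, rfl⟩ := mem_XT.1 hx
    obtain ⟨u, rfl⟩ := mem_XT.1 hy
    rw [← map_mul, ← map_mul, rx_comm_of_ne]
    · intro e
      apply hadj
      left
      have := congrArg Fin.val e
      rw [Fin.val_succ, Fin.val_castSucc] at this
      exact this
    · intro e
      apply hadj
      right
      have := congrArg Fin.val e
      rw [Fin.val_succ, Fin.val_castSucc] at this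
      exact this

/-- an automorphism permuting the fundamental root subgroups preserves the Dynkin diagram -/
theorem perm_of_aut (θ : PSLn ≃* PSLn) (ρ : Equiv.Perm (Fin m))
    (h : ∀ i, (Xp F i).map θ.toMonoidHom = Xp F (ρ i)) : ρ = 1 ∨ ρ = Fin.revPerm := by
  apply perm_path
  intro i j
  rw [← not_iff_not, ← commX_iff (F := F), ← commX_iff (F := F)]
  constructor
  · intro hc x hx y hy
    rw [← h i] at hx
    rw [← h j] at hy
    obtain ⟨x', hx', rfl⟩ := hx
    obtain ⟨y', hy', rfl⟩ := hy
    show θ x' * θ y' = θ y' * θ x'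
    rw [← map_mul, ← map_mul, hc x' hx' y' hy']
  · intro hc x hx y hy
    have hx' : θ x ∈ Xp F (ρ i) := by rw [← h i]; exact ⟨x, hx, rfl⟩
    have hy' : θ y ∈ Xp F (ρ j) := by rw [← h j]; exact ⟨y, hy, rfl⟩
    have := hc _ hx' _ hy'
    rw [← map_mul, ← map_mul] at this
    exact θ.injective this

/-! ### The graph automorphism -/

/-- the inverse transpose interchanges opposite root subgroups -/
theorem map_itT_XT (a b : Fin (m + 1)) (hab : a ≠ b) :
    (XT (F := F) a b hab).map (itT (m := m) (F := F)).toMonoidHom = XT b a hab.symm := by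
  ext x
  constructor
  · rintro ⟨y, hy, rfl⟩
    obtain ⟨t, rfl⟩ := mem_XT.1 hy
    show itT (prj (rx a b hab t)) ∈ _
    rw [itT_prj, itSL_rx]
    exact prj_rx_mem_XT _ _ _ _
  · intro hx
    obtain ⟨t, rfl⟩ := mem_XT.1 hx
    refine ⟨prj (rx a b hab (-t)), prj_rx_mem_XT _ _ _ _, ?_⟩
    show itT (prj (rx a b hab (-t))) = _
    rw [itT_prj, itSL_rx, neg_neg]

/-- the graph automorphism: inverse transpose followed by conjugation by the longest element -/
noncomputable def graphT (m : ℕ) (F : Type*) [Field F] :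
    Matrix.ProjectiveSpecialLinearGroup (Fin (m + 1)) F ≃*
      Matrix.ProjectiveSpecialLinearGroup (Fin (m + 1)) F :=
  (itT (m := m) (F := F)).trans (MulAut.conj (prj (w0SL m F)))

theorem map_graphT (K : Subgroup PSLn) :
    K.map (graphT m F).toMonoidHom = cj (prj (w0SL m F)) (K.map (itT (m := m) (F := F)).toMonoidHom) := by
  unfold cj graphT
  rw [Subgroup.map_map]
  rfl

theorem cj_n0_Xp (j : Fin m) :
    cj (prj (w0SL m F)) (XT j.castSucc j.succ (castSucc_ne_succ j)) =
      XT (Fin.rev j).succ (Fin.rev j).castSucc (castSucc_ne_succ _).symm := by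
  rw [cj_mono_XT isMono_w0SL]
  exact XT_congr _ (rev_castSucc_eq j) (rev_succ_eq j)

theorem map_graphT_Xp (i : Fin m) : (Xp F i).map (graphT m F).toMonoidHom = Xp F (Fin.rev i) := by
  unfold Xp
  rw [map_graphT, map_itT_XT, cj_n0_Xm]

theorem map_graphT_Xm (i : Fin m) : (Xm F i).map (graphT m F).toMonoidHom = Xm F (Fin.rev i) := by
  unfold Xm
  rw [map_graphT, map_itT_XT, cj_n0_Xp]

end Cfsg.Agent.Lib.H7AutPSL
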