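import Cfsg.Agent.Lib.Helper7.AutPSL.GraphFieldCent
import Mathlib

/-!
# The centraliser of a field automorphism in `Inndiag(PSL_n(F))` (helper7)

For `X = Ph σ` with `σ` of order `r`: the matrices `g` with `Dh g` centralising `X` are those with
`σ(g) = d g`; up to a scalar they are fixed by `σ` (Hilbert 90), and their determinants form
`(Fˣ)^n · {u | σ u = u}`.
-/

set_option autoImplicit false

namespace Cfsg.Agent.Lib.H7AutPSL

open Matrix Cfsg Cfsg.Agent.AutPSLCount

universe u

variable {n : ℕ} {F : Type u} [Field F]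

/-- the matrices centralising a field automorphism -/
theorem mem_centGL_field (hn : 2 ≤ n) (σ : RingAut F) (g : GL (Fin n) F) :
    g ∈ centGL (Ph σ : MulAut (PSLn n F)) ↔
      ∃ d : Fˣ, gmap σ g = Matrix.GeneralLinearGroup.scalar (Fin n) d * g := by
  rw [mem_centGL, Ph_Dh, mul_left_inj]
  constructor
  · intro h
    have h1 : gmap σ g * g⁻¹ ∈ (Dh : GL (Fin n) F →* MulAut (PSLn n F)).ker := by
      rw [MonoidHom.mem_ker, map_mul, map_inv, ← h, mul_inv_cancel]
    rw [Dh_ker hn, Matrix.GeneralLinearGroup.center_eq_range_scalar] at h1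
    obtain ⟨d, hd⟩ := h1
    exact ⟨d, by rw [hd, inv_mul_cancel_right]⟩
  · rintro ⟨d, hd⟩
    show Dh g = Dh (gmap σ g)
    rw [hd, map_mul, Dh_scalar hn, one_mul]

theorem gmap_scalar_mul (σ : RingAut F) (b : Fˣ) (g : GL (Fin n) F) :
    (gmap σ (Matrix.GeneralLinearGroup.scalar (Fin n) b * g)).val = σ (b : F) • g.val.map σ := by
  rw [gmap_val, Units.val_mul, scalar_val, Matrix.smul_mul, Matrix.one_mul]
  ext i j
  simp only [Matrix.map_apply, Matrix.smul_apply, smul_eq_mul, map_mul]

theorem scalar_mul_val (b : Fˣ) (g : GL (Fin n) F) :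
    (Matrix.GeneralLinearGroup.scalar (Fin n) b * g).val = (b : F) • g.val := by
  rw [Units.val_mul, scalar_val, Matrix.smul_mul, Matrix.one_mul]

theorem map_pow_of_semifixed (σ : RingAut F) (M : Matrix (Fin n) (Fin n) F) (d : F)
    (h : M.map σ = d • M) (k : ℕ) : M.map (σ ^ k : RingAut F) = fnorm σ d k • M := by
  induction k with
  | zero =>
    rw [fnorm_zero, one_smul, pow_zero]
    ext i j
    rfl
  | succ k ih =>
    have e : M.map (σ ^ (k + 1) : RingAut F) = (M.map (σ ^ k : RingAut F)).map σ := by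
      ext i j
      rw [pow_succ']
      rfl
    rw [e, ih, fnorm_succ']
    ext i j
    have := congrFun (congrFun h i) j
    simp only [Matrix.map_apply, Matrix.smul_apply, smul_eq_mul] at this
    simp only [Matrix.map_apply, Matrix.smul_apply, smul_eq_mul, map_mul, this]
    ring

/-- the multiplier of a matrix centralising a field automorphism has norm one -/
theorem semifixed_norm (hn : 1 ≤ n) (σ : RingAut F) (r : ℕ) (hσ : σ ^ r = 1) (g : GL (Fin n) F)
    (d : Fˣ) (h : gmap σ g = Matrix.GeneralLinearGroup.scalar (Fin n) d * g) :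
    fnorm σ (d : F) r = 1 := by
  have h' : g.val.map σ = (d : F) • g.val := by
    have := congrArg Units.val h
    rw [gmap_val, scalar_mul_val] at this
    exact this
  have e := map_pow_of_semifixed σ g.val d h' r
  rw [hσ] at e
  have e1 : g.val.map (1 : RingAut F) = g.val := by
    ext i j
    rfl
  rw [e1] at e
  have e2 : g.val * (g⁻¹).val = (fnorm σ (d : F) r • g.val) * (g⁻¹).val := by rw [← e]
  rw [Matrix.smul_mul, ← Units.val_mul, mul_inv_cancel, Units.val_one] at e2
  have e3 := congrFun (congrFun e2 ⟨0, hn⟩) ⟨0, hn⟩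
  rw [Matrix.smul_apply, Matrix.one_apply_eq, smul_eq_mul, mul_one] at e3
  exact e3.symm

/-- a matrix centralising a field automorphism is, up to a scalar, fixed by it -/
theorem exists_fixed_rep (hn : 2 ≤ n) (σ : RingAut F) (r : ℕ) (hr : 0 < r) (hσ : σ ^ r = 1)
    (hinj : ∀ i j, i < r → j < r → σ ^ i = σ ^ j → i = j) (g : GL (Fin n) F)
    (hg : g ∈ centGL (Ph σ : MulAut (PSLn n F))) :
    ∃ b : Fˣ, gmap σ (Matrix.GeneralLinearGroup.scalar (Fin n) b * g) =
      Matrix.GeneralLinearGroup.scalar (Fin n) b * g := by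
  obtain ⟨d, hd⟩ := (mem_centGL_field hn σ g).1 hg
  have hN := semifixed_norm (by omega) σ r hσ g d hd
  obtain ⟨b, hb0, hb⟩ := hilbert90_field σ r hr hσ hinj d hN
  refine ⟨Units.mk0 b hb0, Units.ext ?_⟩
  have h' : g.val.map σ = (d : F) • g.val := by
    have := congrArg Units.val hd
    rw [gmap_val, scalar_mul_val] at this
    exact this
  rw [gmap_scalar_mul, scalar_mul_val, Units.val_mk0, h', smul_smul, mul_comm, hb]

theorem det_gmap (σ : RingAut F) (g : GL (Fin n) F) :
    ((Matrix.GeneralLinearGroup.det (gmap σ g) : Fˣ) : F) =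
      σ ((Matrix.GeneralLinearGroup.det g : Fˣ) : F) := by
  rw [Matrix.GeneralLinearGroup.val_det_apply, Matrix.GeneralLinearGroup.val_det_apply, gmap_val,
    RingEquiv.map_det]
  rfl

/-- **the determinants of the matrices centralising a field automorphism** -/
theorem det_centGL_field (hn : 2 ≤ n) (σ : RingAut F) (r : ℕ) (hr : 0 < r) (hσ : σ ^ r = 1)
    (hinj : ∀ i j, i < r → j < r → σ ^ i = σ ^ j → i = j) :
    (centGL (Ph σ : MulAut (PSLn n F))).map
        (Matrix.GeneralLinearGroup.det : GL (Fin n) F →* Fˣ) =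
      (powMonoidHom n : Fˣ →* Fˣ).range ⊔ (langHom σ).ker := by
  apply le_antisymm
  · rintro _ ⟨g, hg, rfl⟩
    obtain ⟨b, hb⟩ := exists_fixed_rep hn σ r hr hσ hinj g hg
    have hsplit : Matrix.GeneralLinearGroup.det g = (b⁻¹) ^ n *
        Matrix.GeneralLinearGroup.det (Matrix.GeneralLinearGroup.scalar (Fin n) b * g) := by
      rw [map_mul, det_scalarGL, ← mul_assoc, ← mul_pow, inv_mul_cancel, one_pow, one_mul]
    rw [hsplit]
    refine Subgroup.mul_mem_sup ⟨b⁻¹, rfl⟩ ?_
    rw [mem_ker_langHom, ← det_gmap, hb]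
  · rw [sup_le_iff]
    constructor
    · rintro _ ⟨μ, rfl⟩
      refine ⟨Matrix.GeneralLinearGroup.scalar (Fin n) μ, ?_, det_scalarGL μ⟩
      rw [SetLike.mem_coe, mem_centGL_field hn]
      refine ⟨Units.map (σ : F →* F) μ * μ⁻¹, Units.ext ?_⟩
      rw [scalar_mul_val, gmap_val, scalar_val, smul_smul, Units.val_mul, Units.val_inv_eq_inv_val,
        inv_mul_cancel_right₀ μ.ne_zero]
      ext i j
      simp only [Matrix.map_apply, Matrix.smul_apply, smul_eq_mul, map_mul, Matrix.one_apply]
      by_cases hij : i = j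
      · simp [hij]
      · simp [hij]
    · intro u hu
      rw [mem_ker_langHom] at hu
      refine ⟨dgHom n F ⟨0, by omega⟩ u, ?_, det_dgHom _ u⟩
      rw [SetLike.mem_coe, mem_centGL_field hn]
      refine ⟨1, Units.ext ?_⟩
      rw [map_one, one_mul, gmap_val, dgHom_val]
      ext i j
      rw [Matrix.map_apply, Matrix.diagonal_apply]
      by_cases hij : i = j
      · rw [if_pos hij]
        by_cases hi : i = ⟨0, by omega⟩
        · rw [hi, Pi.mulSingle_eq_same]
          exact hu
        · rw [Pi.mulSingle_eq_of_ne hi, map_one]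
      · rw [if_neg hij, map_zero]

end Cfsg.Agent.Lib.H7AutPSL
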