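import Cfsg.Agent.Lib.Helper7.AutPSL.FieldCent
import Cfsg.Agent.Lib.Helper7.AutPSL.FixedField
import Mathlib

/-!
# The class splitting number of a field automorphism of `PSL_n(F)` (helper7)
-/

set_option autoImplicit false

namespace Cfsg.Agent.Lib.H7AutPSL

open Matrix Cfsg Cfsg.Agent.AutPSLCount

universe u

/-- in a finite cyclic group, the subgroup of order `d` is the group of `m`-th powers, `|G| = m d` -/
theorem cyclic_subgroup_eq_range_pow {G : Type*} [CommGroup G] [IsCyclic G] [Finite G]
    (H : Subgroup G) (d m : ℕ) (hH : Nat.card H = d) (hG : Nat.card G = m * d) :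
    H = (powMonoidHom m : G →* G).range := by
  have hG0 : 0 < Nat.card G := Nat.card_pos
  have hm : 0 < m := by
    rcases Nat.eq_zero_or_pos m with rfl | h
    · rw [zero_mul] at hG; omega
    · exact h
  have hd : 0 < d := by
    rcases Nat.eq_zero_or_pos d with rfl | h
    · rw [mul_zero] at hG; omega
    · exact h
  have hK : Nat.card (powMonoidHom d : G →* G).ker = d := by
    rw [IsCyclic.card_powMonoidHom_ker, hG]
    exact Nat.gcd_eq_right (dvd_mul_left d m)
  have h1 : H = (powMonoidHom d : G →* G).ker := by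
    apply Subgroup.eq_of_le_of_card_ge
    · intro u hu
      rw [MonoidHom.mem_ker, powMonoidHom_apply, ← hH]
      have := pow_card_eq_one' (x := (⟨u, hu⟩ : H))
      exact congrArg Subtype.val this
    · rw [hK, hH]
  have h2 : (powMonoidHom m : G →* G).range = (powMonoidHom d : G →* G).ker := by
    apply Subgroup.eq_of_le_of_card_ge
    · rintro _ ⟨v, rfl⟩
      rw [MonoidHom.mem_ker, powMonoidHom_apply, powMonoidHom_apply, ← pow_mul, ← hG]
      exact pow_card_eq_one'
    · rw [hK, IsCyclic.card_powMonoidHom_range, hG, Nat.gcd_eq_right (dvd_mul_right m d),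
        Nat.mul_div_cancel_left d hm]
  rw [h1, h2]

variable {n : ℕ} {F : Type u} [Field F]

/-- the number of units fixed by `σ`, via an embedding onto the fixed field -/
theorem card_ker_langHom (σ : RingAut F) {F₀ : Type*} [Field F₀] [Fintype F₀] (ι : F₀ →+* F)
    (hι : ∀ t : F, σ t = t ↔ ∃ s, ι s = t) :
    Nat.card (langHom σ).ker = Fintype.card F₀ - 1 := by
  have hinj : Function.Injective (Units.map (ι : F₀ →* F)) :=
    Units.map_injective ι.injective
  have hrange : (Units.map (ι : F₀ →* F)).range = (langHom σ).ker := by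
    ext u
    rw [mem_ker_langHom, hι]
    constructor
    · rintro ⟨v, rfl⟩
      exact ⟨v, rfl⟩
    · rintro ⟨s, hs⟩
      have hs0 : s ≠ 0 := by
        rintro rfl
        rw [map_zero] at hs
        exact u.ne_zero hs.symm
      exact ⟨Units.mk0 s hs0, Units.ext hs⟩
  rw [← hrange, ← Nat.card_congr (MonoidHom.ofInjective hinj).toEquiv, Nat.card_units,
    Nat.card_eq_fintype_card]

/-- **the class splitting number of a standard field automorphism** -/
theorem splitClassCount_field [Fintype F] (hn : 2 ≤ n) (σ : RingAut F) (r : ℕ) (hr : 0 < r)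
    (hσ : σ ^ r = 1) (hinj : ∀ i j, i < r → j < r → σ ^ i = σ ^ j → i = j) (q₀ : ℕ)
    (hker : Nat.card (langHom σ).ker = q₀ - 1) :
    Cfsg.splitClassCount (Dsub n F) (Cfsg.Inn (PSLn n F)) (Ph σ) =
      Nat.gcd n ((Fintype.card F - 1) / (q₀ - 1)) := by
  have hdvd : q₀ - 1 ∣ Fintype.card F - 1 := by
    rw [← hker, ← Nat.card_eq_fintype_card, ← Nat.card_units]
    exact Subgroup.card_subgroup_dvd_card _
  obtain ⟨m, hm⟩ : ∃ m, m = (Fintype.card F - 1) / (q₀ - 1) := ⟨_, rfl⟩
  have hG : Nat.card Fˣ = m * (q₀ - 1) := by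
    rw [Nat.card_units, Nat.card_eq_fintype_card, hm, Nat.div_mul_cancel hdvd]
  rw [splitClassCount_psl hn, det_centGL_field hn σ r hr hσ hinj,
    cyclic_subgroup_eq_range_pow (langHom σ).ker (q₀ - 1) m hker hG, range_pow_sup_range_pow,
    IsCyclic.index_powMonoidHom_range, hG, ← hm]
  apply Nat.gcd_eq_right
  exact (Nat.gcd_dvd_right n m).trans (dvd_mul_right m _)

end Cfsg.Agent.Lib.H7AutPSL
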