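import Cfsg.Agent.Lib.Helper7.AutPSL.FieldCount
import Cfsg.Agent.Lib.Helper7.AutPSL.CosetConj
import Mathlib

/-!
# `C_{Inndiag}(field automorphism) ≅ PGL_n(F₀)` (helper7)
-/

set_option autoImplicit false

namespace Cfsg.Agent.Lib.H7AutPSL

open Matrix Cfsg Cfsg.Agent.AutPSLCount

universe u v

variable {n : ℕ} {F : Type u} [Field F] {F₀ : Type v} [Field F₀]

theorem glMap_val (ι : F₀ →+* F) (g : GL (Fin n) F₀) :
    (Matrix.GeneralLinearGroup.map ι g).val = g.val.map ι := rfl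

theorem glMap_injective (ι : F₀ →+* F) :
    Function.Injective (Matrix.GeneralLinearGroup.map (n := Fin n) ι) := by
  intro g h hgh
  apply Units.ext
  ext i j
  have h1 : (Matrix.GeneralLinearGroup.map ι g).val = (Matrix.GeneralLinearGroup.map ι h).val :=
    Units.ext_iff.1 hgh
  rw [glMap_val, glMap_val] at h1
  have := congrFun (congrFun h1 i) j
  rw [Matrix.map_apply, Matrix.map_apply] at this
  exact ι.injective this

/-- the homomorphism `GL_n(F₀) → C_{Inndiag}(Ph σ)` -/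
noncomputable def glHom (hn : 2 ≤ n) (σ : RingAut F) (ι : F₀ →+* F) (hι : ∀ s, σ (ι s) = ι s) :
    GL (Fin n) F₀ →* ↥(Dsub n F ⊓ Subgroup.centralizer {(Ph σ : MulAut (PSLn n F))}) :=
  (Dh.comp (Matrix.GeneralLinearGroup.map ι)).codRestrict _ (fun g => by
    refine Subgroup.mem_inf.2 ⟨⟨_, rfl⟩, ?_⟩
    have h1 : Matrix.GeneralLinearGroup.map ι g ∈ centGL (Ph σ : MulAut (PSLn n F)) := by
      rw [mem_centGL_field hn]
      refine ⟨1, ?_⟩
      rw [map_one, one_mul]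
      apply Units.ext
      rw [gmap_val, glMap_val]
      ext i j
      exact hι (g.val i j)
    exact h1)

theorem glHom_val (hn : 2 ≤ n) (σ : RingAut F) (ι : F₀ →+* F) (hι : ∀ s, σ (ι s) = ι s)
    (g : GL (Fin n) F₀) : ((glHom hn σ ι hι g : ↥(Dsub n F ⊓ Subgroup.centralizer
      {(Ph σ : MulAut (PSLn n F))})) : MulAut (PSLn n F)) =
      Dh (Matrix.GeneralLinearGroup.map ι g) := rfl

theorem glHom_surjective (hn : 2 ≤ n) (σ : RingAut F) (r : ℕ) (hr : 0 < r) (hσ : σ ^ r = 1)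
    (hinj : ∀ i j, i < r → j < r → σ ^ i = σ ^ j → i = j) (ι : F₀ →+* F)
    (hι : ∀ t : F, σ t = t ↔ ∃ s, ι s = t) :
    Function.Surjective (glHom hn σ ι (fun s => (hι (ι s)).2 ⟨s, rfl⟩)) := by
  rintro ⟨c, hc⟩
  obtain ⟨⟨g, rfl⟩, hcent⟩ := Subgroup.mem_inf.1 hc
  have hg : g ∈ centGL (Ph σ : MulAut (PSLn n F)) := hcent
  obtain ⟨b, hb⟩ := exists_fixed_rep hn σ r hr hσ hinj g hg
  obtain ⟨g', hg'⟩ : ∃ g', g' = Matrix.GeneralLinearGroup.scalar (Fin n) b * g := ⟨_, rfl⟩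
  rw [← hg'] at hb
  have hentry : ∀ i j, ∃ s, ι s = g'.val i j := by
    intro i j
    rw [← hι]
    have h1 : (gmap σ g').val = g'.val := Units.ext_iff.1 hb
    rw [gmap_val] at h1
    have := congrFun (congrFun h1 i) j
    rw [Matrix.map_apply] at this
    exact this
  choose M₀ hM₀ using hentry
  have hmap : (Matrix.of M₀).map ι = g'.val := by
    ext i j
    rw [Matrix.map_apply, Matrix.of_apply, hM₀]
  have hdet : (Matrix.of M₀).det ≠ 0 := by
    intro h0
    have h1 : ι (Matrix.of M₀).det = g'.val.det := by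
      rw [RingHom.map_det, RingHom.mapMatrix_apply, hmap]
    rw [h0, map_zero] at h1
    have h2 : IsUnit g'.val.det := (Matrix.isUnit_iff_isUnit_det _).1 g'.isUnit
    exact h2.ne_zero h1.symm
  refine ⟨Matrix.GeneralLinearGroup.mkOfDetNeZero (Matrix.of M₀) hdet, ?_⟩
  apply Subtype.ext
  rw [glHom_val]
  have e : Matrix.GeneralLinearGroup.map ι
      (Matrix.GeneralLinearGroup.mkOfDetNeZero (Matrix.of M₀) hdet) = g' := by
    apply Units.ext
    rw [glMap_val]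
    exact hmap
  rw [e, hg', map_mul, Dh_scalar hn, one_mul]

theorem glHom_ker (hn : 2 ≤ n) (σ : RingAut F) (ι : F₀ →+* F) (hι : ∀ s, σ (ι s) = ι s) :
    (glHom hn σ ι hι).ker = Subgroup.center (GL (Fin n) F₀) := by
  ext h
  rw [MonoidHom.mem_ker, Subtype.ext_iff, glHom_val]
  show Matrix.GeneralLinearGroup.map ι h ∈ (Dh : GL (Fin n) F →* MulAut (PSLn n F)).ker ↔ _
  rw [Dh_ker hn]
  constructor
  · intro hc
    rw [Subgroup.mem_center_iff]
    intro k
    apply glMap_injective ι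
    rw [map_mul, map_mul]
    exact Subgroup.mem_center_iff.1 hc _
  · intro hc
    rw [Matrix.GeneralLinearGroup.center_eq_range_scalar] at hc ⊢
    obtain ⟨c₀, rfl⟩ := hc
    exact ⟨Units.map (ι : F₀ →* F) c₀, (Matrix.GeneralLinearGroup.map_scalar ι c₀).symm⟩

/-- **`C_{Inndiag}(Ph σ) ≅ PGL_n(F₀)`** -/
theorem nonempty_cent_field_equiv (hn : 2 ≤ n) (σ : RingAut F) (r : ℕ) (hr : 0 < r)
    (hσ : σ ^ r = 1) (hinj : ∀ i j, i < r → j < r → σ ^ i = σ ^ j → i = j) (ι : F₀ →+* F)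
    (hι : ∀ t : F, σ t = t ↔ ∃ s, ι s = t) :
    Nonempty (↥(Dsub n F ⊓ Subgroup.centralizer {(Ph σ : MulAut (PSLn n F))}) ≃*
      Matrix.ProjGenLinGroup (Fin n) F₀) := by
  have e1 := QuotientGroup.quotientKerEquivOfSurjective _
    (glHom_surjective hn σ r hr hσ hinj ι hι)
  have e2 := QuotientGroup.quotientMulEquivOfEq
    (glHom_ker hn σ ι (fun s => (hι (ι s)).2 ⟨s, rfl⟩))
  exact ⟨e1.symm.trans e2⟩

end Cfsg.Agent.Lib.H7AutPSL
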