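import Cfsg.Agent.Lib.Helper7.AutPSL.GraphFieldCent
import Mathlib

/-!
# The class splitting number of a graph-field involution of `PSL_n(F)` (helper7)
-/

set_option autoImplicit false

namespace Cfsg.Agent.Lib.H7AutPSL

open Matrix Cfsg Cfsg.Agent.AutPSLCount

universe u

variable {n : ℕ} {F : Type u} [Field F]

/-- the kernel of the norm is the image of `b ↦ b / σ b` (Hilbert 90) -/
theorem ker_unormHom (σ : RingAut F) (r : ℕ) (hr : 0 < r) (hσ : σ ^ r = 1)
    (hinj : ∀ i j, i < r → j < r → σ ^ i = σ ^ j → i = j) :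
    (unormHom σ r).ker = (langHom σ).range := by
  ext u
  constructor
  · intro hu
    rw [MonoidHom.mem_ker, Units.ext_iff, unormHom_val, Units.val_one] at hu
    obtain ⟨b, hb0, hb⟩ := hilbert90_field σ r hr hσ hinj _ hu
    refine ⟨Units.mk0 b hb0, ?_⟩
    apply Units.ext
    rw [langHom_val, Units.val_mk0, div_eq_iff ((map_ne_zero _).2 hb0)]
    exact hb.symm
  · rintro ⟨b, rfl⟩
    rw [MonoidHom.mem_ker, Units.ext_iff, unormHom_val, Units.val_one, langHom_val,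
      div_eq_mul_inv, fnorm_mul, fnorm_inv, fnorm_apply σ r hσ,
      mul_inv_cancel₀ (fnorm_ne_zero σ b.ne_zero r)]

/-- for the `q₀`-th power map, `b ↦ b / σ b` has the same image as the `(q₀ - 1)`-th power map -/
theorem range_langHom_frob (σ : RingAut F) (q₀ : ℕ) (hq₀ : 1 ≤ q₀) (hfrob : ∀ t : F, σ t = t ^ q₀) :
    (langHom σ).range = (powMonoidHom (q₀ - 1) : Fˣ →* Fˣ).range := by
  have key : ∀ b : Fˣ, langHom σ b = (b⁻¹) ^ (q₀ - 1) := by
    intro b
    apply Units.ext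
    rw [langHom_val, hfrob, Units.val_pow_eq_pow_val, Units.val_inv_eq_inv_val]
    have hb : (b : F) ≠ 0 := b.ne_zero
    have e : (b : F) ^ q₀ = (b : F) ^ (q₀ - 1) * b := by
      rw [← pow_succ, Nat.sub_add_cancel hq₀]
    rw [e, inv_pow]
    field_simp
  ext u
  constructor
  · rintro ⟨b, rfl⟩
    exact ⟨b⁻¹, (key b).symm⟩
  · rintro ⟨c, rfl⟩
    refine ⟨c⁻¹, ?_⟩
    rw [key, inv_inv]
    rfl

/-- **the class splitting number of the standard graph-field involution** -/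
theorem splitClassCount_graphfield [Fintype F] (hn : 2 ≤ n) (σ : RingAut F) (hσ2 : σ ^ 2 = 1)
    (hσ1 : σ ≠ 1) (q₀ : ℕ) (hq₀ : 2 ≤ q₀) (hF : Fintype.card F = q₀ ^ 2)
    (hfrob : ∀ t : F, σ t = t ^ q₀) :
    Cfsg.splitClassCount (Dsub n F) (Cfsg.Inn (PSLn n F)) (Ph σ * Γ) = Nat.gcd n (q₀ - 1) := by
  rw [splitClassCount_psl hn, det_centGL_graphfield hn σ hσ2 hσ1,
    ker_unormHom σ 2 (by norm_num) hσ2 (two_inj hσ1), range_langHom_frob σ q₀ (by omega) hfrob,
    range_pow_sup_range_pow, IsCyclic.index_powMonoidHom_range, Nat.card_units,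
    Nat.card_eq_fintype_card, hF]
  apply Nat.gcd_eq_right
  have h1 : Nat.gcd n (q₀ - 1) ∣ q₀ - 1 := Nat.gcd_dvd_right _ _
  have h2 : q₀ - 1 ∣ q₀ ^ 2 - 1 := by
    have : q₀ ^ 2 - 1 = (q₀ - 1) * (q₀ + 1) := by
      obtain ⟨k, rfl⟩ : ∃ k, q₀ = k + 1 := ⟨q₀ - 1, by omega⟩
      rw [Nat.add_sub_cancel]
      have : (k + 1) ^ 2 = k * (k + 1 + 1) + 1 := by ring
      rw [this, Nat.add_sub_cancel]
    rw [this]
    exact dvd_mul_right _ _
  exact h1.trans h2

end Cfsg.Agent.Lib.H7AutPSL
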