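import Cfsg.Agent.Lib.Helper7.AutPSL.GraphFieldCount
import Cfsg.Agent.Lib.Helper7.AutPSL.CosetConj
import Mathlib

/-!
# `C_{Inndiag}(graph-field involution) ≅ PGU_n` (helper7)
-/

set_option autoImplicit false

namespace Cfsg.Agent.Lib.H7AutPSL

open Matrix Cfsg Cfsg.Agent.AutPSLCount

universe u

variable {n : ℕ} {F : Type u} [Field F]

/-- the general unitary group in matrix terms -/
theorem mem_GU_iff (σ : RingAut F) (q₀ : ℕ) (hfrob : ∀ t : F, σ t = t ^ q₀) (g : GL (Fin n) F) :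
    g ∈ Cfsg.GU n F q₀ ↔ g.val * (g.val.map σ)ᵀ = 1 := by
  have hform : ∀ u v : Fin n → F, Cfsg.hermForm n F q₀ u v = u ⬝ᵥ (fun i => σ (v i)) := by
    intro u v
    unfold Cfsg.hermForm dotProduct
    apply Finset.sum_congr rfl
    intro i _
    beta_reduce
    rw [hfrob]
  have hmem : g ∈ Cfsg.GU n F q₀ ↔ ∀ u v : Fin n → F,
      Cfsg.hermForm n F q₀ (g.val *ᵥ u) (g.val *ᵥ v) = Cfsg.hermForm n F q₀ u v := Iff.rfl
  rw [hmem]
  have hkey : ∀ u v : Fin n → F, Cfsg.hermForm n F q₀ (g.val *ᵥ u) (g.val *ᵥ v) =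
      u ⬝ᵥ ((g.valᵀ * g.val.map σ) *ᵥ (fun i => σ (v i))) := by
    intro u v
    rw [hform, map_mulVec, ← Matrix.mulVec_mulVec, dotProduct_comm, Matrix.dotProduct_mulVec,
      dotProduct_comm, Matrix.mulVec_transpose]
  constructor
  · intro h
    have h1 : g.valᵀ * g.val.map σ = 1 := by
      ext i j
      have := h (Pi.single i 1) (Pi.single j 1)
      rw [hkey, hform] at this
      have e : (fun k => σ ((Pi.single j (1 : F) : Fin n → F) k)) = Pi.single j 1 := by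
        ext k
        by_cases hk : k = j
        · subst hk; simp
        · simp [hk]
      rw [e, Matrix.mulVec_single_one, single_one_dotProduct, single_one_dotProduct] at this
      rw [Matrix.one_apply, ← Pi.single_apply]
      exact this
    have h2 : (g.val.map σ)ᵀ * g.val = 1 := by
      have := congrArg Matrix.transpose h1
      rw [Matrix.transpose_mul, Matrix.transpose_transpose, Matrix.transpose_one] at this
      exact this
    exact _root_.mul_eq_one_comm.1 h2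
  · intro h u v
    have h2 : (g.val.map σ)ᵀ * g.val = 1 := _root_.mul_eq_one_comm.1 h
    have h1 : g.valᵀ * g.val.map σ = 1 := by
      have := congrArg Matrix.transpose h2
      rw [Matrix.transpose_mul, Matrix.transpose_transpose, Matrix.transpose_one] at this
      exact this
    rw [hkey, h1, Matrix.one_mulVec, hform]

theorem geoScalars_eq_center :
    Cfsg.Geo.scalars (Fin n) F = Subgroup.center (GL (Fin n) F) := by
  rw [Matrix.GeneralLinearGroup.center_eq_range_scalar]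
  rfl

section finite

variable [Finite F]

/-- the homomorphism `GU_n → C_{Inndiag}(Ph σ * Γ)` -/
noncomputable def guHom (hn : 2 ≤ n) (σ : RingAut F) (q₀ : ℕ) (hfrob : ∀ t : F, σ t = t ^ q₀) :
    ↥(Cfsg.GU n F q₀) →* ↥(Dsub n F ⊓ Subgroup.centralizer {(Ph σ * Γ : MulAut (PSLn n F))}) :=
  (Dh.comp (Cfsg.GU n F q₀).subtype).codRestrict _ (fun g => by
    refine Subgroup.mem_inf.2 ⟨⟨g.1, rfl⟩, ?_⟩
    have h1 : g.1 ∈ centGL (Ph σ * Γ : MulAut (PSLn n F)) := by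
      rw [mem_centGL_graphfield hn]
      refine ⟨1, ?_⟩
      rw [(mem_GU_iff σ q₀ hfrob g.1).1 g.2, Units.val_one, one_smul]
    exact h1)

omit [Finite F] in
theorem guHom_val (hn : 2 ≤ n) (σ : RingAut F) (q₀ : ℕ) (hfrob : ∀ t : F, σ t = t ^ q₀)
    (g : ↥(Cfsg.GU n F q₀)) : ((guHom hn σ q₀ hfrob g : ↥(Dsub n F ⊓ Subgroup.centralizer
      {(Ph σ * Γ : MulAut (PSLn n F))})) : MulAut (PSLn n F)) = Dh g.1 := rfl

theorem guHom_surjective (hn : 2 ≤ n) (σ : RingAut F) (hσ2 : σ ^ 2 = 1) (hσ1 : σ ≠ 1) (q₀ : ℕ)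
    (hfrob : ∀ t : F, σ t = t ^ q₀) : Function.Surjective (guHom hn σ q₀ hfrob) := by
  rintro ⟨c, hc⟩
  obtain ⟨⟨g, rfl⟩, hcent⟩ := Subgroup.mem_inf.1 hc
  have hg : g ∈ centGL (Ph σ * Γ : MulAut (PSLn n F)) := hcent
  rw [mem_centGL_graphfield hn] at hg
  obtain ⟨d, hd⟩ := hg
  obtain ⟨μ, hμ0, hμ⟩ := confU_multiplier (by omega) σ hσ2 hσ1 g d hd
  have hmem : Matrix.GeneralLinearGroup.scalar (Fin n) (Units.mk0 μ hμ0)⁻¹ * g ∈ Cfsg.GU n F q₀ := by
    rw [mem_GU_iff σ q₀ hfrob, Units.val_mul, scalar_val, Units.val_inv_eq_inv_val, Units.val_mk0]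
    have e1 : ((μ⁻¹ • (1 : Matrix (Fin n) (Fin n) F) * g.val).map σ)ᵀ =
        (σ μ)⁻¹ • (g.val.map σ)ᵀ := by
      ext i j
      simp only [Matrix.smul_mul, Matrix.one_mul, Matrix.transpose_apply, Matrix.map_apply,
        Matrix.smul_apply, smul_eq_mul, map_mul, map_inv₀]
    rw [e1, Matrix.smul_mul, Matrix.one_mul, Matrix.smul_mul, Matrix.mul_smul, hd, smul_smul,
      smul_smul, ← hμ]
    have hσμ : σ μ ≠ 0 := (map_ne_zero _).2 hμ0
    have : μ⁻¹ * (σ μ)⁻¹ * (μ * σ μ) = 1 := by field_simp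
    rw [this, one_smul]
  refine ⟨⟨_, hmem⟩, ?_⟩
  apply Subtype.ext
  rw [guHom_val]
  show Dh (Matrix.GeneralLinearGroup.scalar (Fin n) (Units.mk0 μ hμ0)⁻¹ * g) = Dh g
  rw [map_mul, Dh_scalar hn, one_mul]

omit [Finite F] in
theorem guHom_ker (hn : 2 ≤ n) (σ : RingAut F) (q₀ : ℕ) (hfrob : ∀ t : F, σ t = t ^ q₀) :
    (guHom hn σ q₀ hfrob).ker = (Cfsg.Geo.scalars (Fin n) F).subgroupOf (Cfsg.GU n F q₀) := by
  ext g
  rw [MonoidHom.mem_ker, Subgroup.mem_subgroupOf, geoScalars_eq_center, ← Dh_ker hn,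
    MonoidHom.mem_ker, Subtype.ext_iff, guHom_val]
  rfl

/-- **`C_{Inndiag}(Ph σ * Γ) ≅ PGU_n`** -/
theorem nonempty_cent_graphfield_equiv (hn : 2 ≤ n) (σ : RingAut F) (hσ2 : σ ^ 2 = 1) (hσ1 : σ ≠ 1)
    (q₀ : ℕ) (hfrob : ∀ t : F, σ t = t ^ q₀) :
    Nonempty (↥(Dsub n F ⊓ Subgroup.centralizer {(Ph σ * Γ : MulAut (PSLn n F))}) ≃*
      Cfsg.PGU n F q₀) := by
  have e1 := QuotientGroup.quotientKerEquivOfSurjective (guHom hn σ q₀ hfrob)
    (guHom_surjective hn σ hσ2 hσ1 q₀ hfrob)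
  have e2 := QuotientGroup.quotientMulEquivOfEq (guHom_ker hn σ q₀ hfrob)
  exact ⟨e1.symm.trans e2⟩

end finite

/-! ### the automorphism group modulo `Inndiag` is abelian -/

theorem comm_mem_Dsub [Fintype F] (p f : ℕ) [Fact p.Prime] [CharP F p]
    (hF : Fintype.card F = p ^ f) (hn : 3 ≤ n) (hfac : Fac n F) (a b : MulAut (PSLn n F)) :
    a * b * a⁻¹ * b⁻¹ ∈ Dsub n F := by
  have := Dsub_normal hfac
  obtain ⟨hcyc, -⟩ := Cfsg.Agent.S2602.ringAut_cyclic (F := F) p f hF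
  have hcomm : ∀ σ τ : RingAut F, σ * τ = τ * σ := isMulCommutative_iff.1 inferInstance
  let e := splitEquiv (Dsub n F) κ3 (κ3_surj hfac) (κ3_inj hn)
  have hq : ∀ q1 q2 : MulAut (PSLn n F) ⧸ Dsub n F, q1 * q2 = q2 * q1 := by
    intro q1 q2
    obtain ⟨⟨σ1, a1⟩, rfl⟩ := e.surjective q1
    obtain ⟨⟨σ2, a2⟩, rfl⟩ := e.surjective q2
    rw [← map_mul, ← map_mul]
    congr 1
    apply Prod.ext
    · exact hcomm σ1 σ2
    · exact mul_comm a1 a2
  rw [← QuotientGroup.eq_one_iff]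
  have h1 := hq (QuotientGroup.mk a) (QuotientGroup.mk b)
  rw [QuotientGroup.mk_mul, QuotientGroup.mk_mul, QuotientGroup.mk_inv, QuotientGroup.mk_inv,
    QuotientGroup.mk_mul, h1, mul_inv_cancel_right, mul_inv_cancel]

end Cfsg.Agent.Lib.H7AutPSL
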