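import Cfsg.Agent.Lib.Helper7.AutPSL.SLBN
import Cfsg.Agent.H9.SLnF
import Mathlib

/-!
# Matrix facts in `SL_{m+1}(F)` for the automorphism normal form (helper7)
-/

set_option autoImplicit false

namespace Cfsg.Agent.Lib.H7AutPSL

open Matrix Cfsg Cfsg.Agent.Lib.Helper5 Cfsg.Agent.Lib.Helper5.GLBN
open Cfsg.Agent.H9.SLnA Cfsg.Agent.H9.SLnB
open scoped MatrixGroups

variable {m : ℕ} {F : Type*} [Field F]

local notation "SLn" => Matrix.SpecialLinearGroup (Fin (m + 1)) F

theorem perm_apply_inv {α : Type*} (σ : Equiv.Perm α) (x : α) : σ (σ⁻¹ x) = x := by simp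

theorem perm_inv_apply {α : Type*} (σ : Equiv.Perm α) (x : α) : σ⁻¹ (σ x) = x := by simp

theorem mem_slBN_B_iff (g : SLn) : g ∈ (slBN m F).B ↔ IsUpper g.1 := by
  rw [slBN_B, Subgroup.mem_comap, mem_upper]
  constructor
  · intro h i j hij; exact h i j hij
  · intro h i j hij; exact h i j hij

theorem mem_slBN_N_iff (g : SLn) : g ∈ (slBN m F).N ↔ ∃ σ, IsMono g.1 σ := by
  rw [slBN_N, Subgroup.mem_comap, mem_monoN]
  rfl

theorem isMono_inv_SL {ν : SLn} {σ : Equiv.Perm (Fin (m + 1))} (h : IsMono ν.1 σ) :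
    IsMono (ν⁻¹).1 σ⁻¹ := by
  have h1 : IsMono ((Matrix.SpecialLinearGroup.toGL ν : GL (Fin (m + 1)) F) :
      Matrix (Fin (m + 1)) (Fin (m + 1)) F) σ := h
  have h2 := h1.inv
  rw [← map_inv] at h2
  exact h2

theorem mono_ne_zero {ν : SLn} {σ : Equiv.Perm (Fin (m + 1))} (h : IsMono ν.1 σ)
    (j : Fin (m + 1)) : ν.1 (σ j) j ≠ 0 := by
  have h1 : IsMono ((Matrix.SpecialLinearGroup.toGL ν : GL (Fin (m + 1)) F) :
      Matrix (Fin (m + 1)) (Fin (m + 1)) F) σ := h
  exact h1.apply_ne_zero j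

theorem mono_inv_mul {ν : SLn} {σ : Equiv.Perm (Fin (m + 1))} (h : IsMono ν.1 σ)
    (a : Fin (m + 1)) : (ν⁻¹).1 a (σ a) * ν.1 (σ a) a = 1 := by
  have h1 : ((ν⁻¹ * ν : SLn)).1 a a = 1 := by
    rw [inv_mul_cancel]; simp
  rw [Matrix.SpecialLinearGroup.coe_mul, h.mul_apply] at h1
  exact h1

/-- the entries of a conjugate by a monomial matrix -/
theorem mono_conj_apply {ν : SLn} {σ : Equiv.Perm (Fin (m + 1))} (h : IsMono ν.1 σ) (g : SLn)
    (i j : Fin (m + 1)) :
    (ν * g * ν⁻¹).1 i j = ν.1 i (σ⁻¹ i) * g.1 (σ⁻¹ i) (σ⁻¹ j) * (ν⁻¹).1 (σ⁻¹ j) j := by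
  rw [Matrix.SpecialLinearGroup.coe_mul, Matrix.SpecialLinearGroup.coe_mul,
    (isMono_inv_SL h).mul_apply, h.apply_mul]

/-! ### Triangular matrices -/

/-- lower triangular matrices -/
def IsLower (M : Matrix (Fin (m + 1)) (Fin (m + 1)) F) : Prop := ∀ i j, i < j → M i j = 0

section finite

variable [Finite F]

/-- the lower unitriangular group -/
def VV : Subgroup SLn := Rb (fun i => m - i.val)

theorem mem_VV {g : SLn} :
    g ∈ (VV : Subgroup SLn) ↔ ∀ i j : Fin (m + 1), i ≤ j → g.1 i j = if i = j then 1 else 0 := by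
  unfold VV
  rw [mem_Rb']
  constructor
  · intro h i j hij
    apply h i j
    have := i.2; have := j.2
    rw [Fin.le_def] at hij
    omega
  · intro h i j hij
    apply h i j
    have := i.2; have := j.2
    rw [Fin.le_def]
    omega

theorem upper_conj_mem_UU {g u : SLn} (hg : g ∈ (slBN m F).B) (hu : u ∈ (UU : Subgroup SLn)) :
    g * u * g⁻¹ ∈ (UU : Subgroup SLn) := by
  have hg1 : IsUpper g.1 := (mem_slBN_B_iff g).1 hg
  have hg2 : IsUpper (g⁻¹).1 := (mem_slBN_B_iff _).1 (inv_mem hg)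
  have hu1 := isUpper_of_mem_UU hu
  apply mem_UU_of_isUpper
  · rw [Matrix.SpecialLinearGroup.coe_mul, Matrix.SpecialLinearGroup.coe_mul]
    exact (hg1.mul hu1).mul hg2
  · intro i
    rw [Matrix.SpecialLinearGroup.coe_mul, Matrix.SpecialLinearGroup.coe_mul,
      (hg1.mul hu1).mul_diag hg2, hg1.mul_diag hu1, diag_of_mem_UU hu, mul_one,
      ← hg1.mul_diag hg2, ← Matrix.SpecialLinearGroup.coe_mul, mul_inv_cancel]
    simp

theorem slBN_B_le_normalizer_UU :
    (slBN m F).B ≤ Subgroup.normalizer ((UU : Subgroup SLn) : Set SLn) := by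
  intro g hg
  rw [Subgroup.mem_normalizer_iff]
  intro u
  constructor
  · exact fun hu => upper_conj_mem_UU hg hu
  · intro h
    have := upper_conj_mem_UU (inv_mem hg) h
    have e : g⁻¹ * (g * u * g⁻¹) * g⁻¹⁻¹ = u := by group
    rwa [e] at this

/-- conjugation by a monomial matrix with order reversing permutation maps `UU` into `VV` -/
theorem mono_conj_UU {ν : SLn} {σ : Equiv.Perm (Fin (m + 1))} (h : IsMono ν.1 σ)
    (hσ : ∀ a b, a < b → σ⁻¹ b < σ⁻¹ a) {g : SLn} (hg : g ∈ (UU : Subgroup SLn)) :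
    ν * g * ν⁻¹ ∈ (VV : Subgroup SLn) := by
  rw [mem_VV]
  intro i j hij
  rw [mono_conj_apply h]
  rcases eq_or_lt_of_le hij with e | hlt
  · subst e
    rw [if_pos rfl, diag_of_mem_UU hg, mul_one]
    have := mono_inv_mul h (σ⁻¹ i)
    rw [perm_apply_inv] at this
    rw [mul_comm]
    exact this
  · rw [if_neg hlt.ne, isUpper_of_mem_UU hg _ _ (hσ i j hlt), mul_zero, zero_mul]

/-- conjugation by a monomial matrix with order reversing permutation maps `VV` into `UU` -/
theorem mono_conj_VV {ν : SLn} {σ : Equiv.Perm (Fin (m + 1))} (h : IsMono ν.1 σ)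
    (hσ : ∀ a b, a < b → σ⁻¹ b < σ⁻¹ a) {g : SLn} (hg : g ∈ (VV : Subgroup SLn)) :
    ν * g * ν⁻¹ ∈ (UU : Subgroup SLn) := by
  rw [mem_UU]
  intro i j hij
  rw [mono_conj_apply h]
  rcases eq_or_lt_of_le hij with e | hlt
  · subst e
    rw [if_pos rfl, mem_VV.1 hg _ _ le_rfl, if_pos rfl, mul_one]
    have := mono_inv_mul h (σ⁻¹ j)
    rw [perm_apply_inv] at this
    rw [mul_comm]
    exact this
  · rw [if_neg hlt.ne', mem_VV.1 hg _ _ (hσ j i hlt).le, if_neg (hσ j i hlt).ne, mul_zero,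
      zero_mul]

theorem rx_mem_VV (i j : Fin (m + 1)) (hij : j < i) (c : F) :
    rx i j hij.ne' c ∈ (VV : Subgroup SLn) := by
  apply rx_mem_Rb
  have := i.2; have := j.2
  rw [Fin.lt_def] at hij
  show m - i.val < m - j.val
  omega

end finite

/-! ### Conjugating root elements -/

theorem adj_castSucc (i : Fin m) : adj i i.castSucc = i.succ := by
  unfold adj; rw [Equiv.swap_apply_left]

theorem adj_succ (i : Fin m) : adj i i.succ = i.castSucc := by
  unfold adj; rw [Equiv.swap_apply_right]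

theorem adj_inv (i : Fin m) : (adj i)⁻¹ = adj i := by
  unfold adj; rw [Equiv.swap_inv]

theorem wSL_val (i : Fin m) : (wSL (F := F) i).1 =
    ((wGL i : GL (Fin (m + 1)) F) : Matrix (Fin (m + 1)) (Fin (m + 1)) F) := rfl

theorem isMono_wSL (i : Fin m) : IsMono (wSL (F := F) i).1 (adj i) := isMono_wGL i

theorem rx_mul_wSL (i : Fin m) (t : F) :
    rx i.castSucc i.succ (castSucc_ne_succ i) t * wSL i =
      wSL i * rx i.succ i.castSucc (castSucc_ne_succ i).symm (-t) := by
  apply Subtype.ext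
  rw [Matrix.SpecialLinearGroup.coe_mul, Matrix.SpecialLinearGroup.coe_mul, rx_val, rx_val]
  have h0 : (wSL (F := F) i).1 i.castSucc ((adj i)⁻¹ i.castSucc) ≠ 0 := by
    rw [adj_inv, adj_castSucc, wSL_val, wGL_apply, adj_castSucc, if_pos rfl,
      if_neg (castSucc_ne_succ i).symm]
    exact one_ne_zero
  rw [transvection_mul_mono (isMono_wSL i) i.castSucc i.succ t h0, adj_inv, adj_castSucc, adj_succ]
  congr 2
  rw [wSL_val, wGL_apply, wGL_apply, adj_castSucc, adj_succ, if_pos rfl, if_pos rfl, if_pos rfl,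
    if_neg (castSucc_ne_succ i).symm]
  ring

theorem rx_mul_wSL' (i : Fin m) (t : F) :
    rx i.succ i.castSucc (castSucc_ne_succ i).symm t * wSL i =
      wSL i * rx i.castSucc i.succ (castSucc_ne_succ i) (-t) := by
  apply Subtype.ext
  rw [Matrix.SpecialLinearGroup.coe_mul, Matrix.SpecialLinearGroup.coe_mul, rx_val, rx_val]
  have h0 : (wSL (F := F) i).1 i.succ ((adj i)⁻¹ i.succ) ≠ 0 := by
    rw [adj_inv, adj_succ, wSL_val, wGL_apply, adj_succ, if_pos rfl, if_pos rfl]
    exact neg_ne_zero.2 one_ne_zero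
  rw [transvection_mul_mono (isMono_wSL i) i.succ i.castSucc t h0, adj_inv, adj_castSucc, adj_succ]
  congr 2
  rw [wSL_val, wGL_apply, wGL_apply, adj_castSucc, adj_succ, if_pos rfl, if_pos rfl, if_pos rfl,
    if_neg (castSucc_ne_succ i).symm]
  field_simp

/-- `w x_{k'k}(t) w⁻¹ = x_{kk'}(-t)` -/
theorem wSL_conj_rx (i : Fin m) (t : F) :
    wSL i * rx i.succ i.castSucc (castSucc_ne_succ i).symm t * (wSL i)⁻¹ =
      rx i.castSucc i.succ (castSucc_ne_succ i) (-t) := by
  have := rx_mul_wSL (F := F) i (-t)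
  rw [neg_neg] at this
  rw [← this]
  group

/-- `w x_{kk'}(t) w⁻¹ = x_{k'k}(-t)` -/
theorem wSL_conj_rx' (i : Fin m) (t : F) :
    wSL i * rx i.castSucc i.succ (castSucc_ne_succ i) t * (wSL i)⁻¹ =
      rx i.succ i.castSucc (castSucc_ne_succ i).symm (-t) := by
  have := rx_mul_wSL' (F := F) i (-t)
  rw [neg_neg] at this
  rw [← this]
  group

/-- the constant by which a monomial matrix rescales the root element `x_{ab}` -/
def monoRatio (ν : SLn) (σ : Equiv.Perm (Fin (m + 1))) (a b : Fin (m + 1)) : F :=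
  ν.1 (σ a) a / ν.1 (σ b) b

theorem monoRatio_ne_zero {ν : SLn} {σ : Equiv.Perm (Fin (m + 1))} (h : IsMono ν.1 σ)
    (a b : Fin (m + 1)) : monoRatio ν σ a b ≠ 0 :=
  div_ne_zero (mono_ne_zero h a) (mono_ne_zero h b)

/-- conjugating a root element by a monomial matrix -/
theorem mono_conj_rx {ν : SLn} {σ : Equiv.Perm (Fin (m + 1))} (h : IsMono ν.1 σ)
    (a b : Fin (m + 1)) (hab : a ≠ b) (t : F) :
    ν * rx a b hab t * ν⁻¹ =
      rx (σ a) (σ b) (fun e => hab (σ.injective e)) (monoRatio ν σ a b * t) := by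
  have h0 : ν.1 (σ a) (σ⁻¹ (σ a)) ≠ 0 := by
    rw [perm_inv_apply]; exact mono_ne_zero h a
  have hb0 : ν.1 (σ b) b ≠ 0 := mono_ne_zero h b
  have ha0 : ν.1 (σ a) a ≠ 0 := mono_ne_zero h a
  have key : rx (σ a) (σ b) (fun e => hab (σ.injective e)) (monoRatio ν σ a b * t) * ν =
      ν * rx a b hab t := by
    apply Subtype.ext
    rw [Matrix.SpecialLinearGroup.coe_mul, Matrix.SpecialLinearGroup.coe_mul, rx_val, rx_val,
      transvection_mul_mono h (σ a) (σ b) _ h0, perm_inv_apply, perm_inv_apply]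
    congr 2
    unfold monoRatio
    field_simp
  rw [← key]
  group

/-! ### Products `b w b'` with `b, b'` upper triangular -/

/-- below the diagonal, `b w_i b'` is supported at the position `(i+1, i)` -/
theorem upper_w_upper_apply (i : Fin m) {b b' : GL (Fin (m + 1)) F}
    (hb : b ∈ upperTriangularGL (m + 1) F) (hb' : b' ∈ upperTriangularGL (m + 1) F)
    (a c : Fin (m + 1)) (hca : c < a) (hne : ¬ (a = i.succ ∧ c = i.castSucc)) :
    ((b * wGL i * b' : GL (Fin (m + 1)) F) : Matrix (Fin (m + 1)) (Fin (m + 1)) F) a c = 0 := by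
  rw [Units.val_mul, Units.val_mul, Matrix.mul_apply]
  apply Finset.sum_eq_zero
  intro y _
  rw [(isMono_wGL i).mul_apply]
  by_cases hy : c < y
  · rw [(mem_upper.1 hb') y c hy, mul_zero]
  · rw [not_lt] at hy
    by_cases hs : adj i y < a
    · rw [(mem_upper.1 hb) a (adj i y) hs, zero_mul, zero_mul]
    · exfalso
      rw [not_lt] at hs
      apply hne
      rw [Fin.lt_def] at hca
      rw [Fin.le_def] at hy hs
      unfold adj at hs
      rcases swap_cases (k := i.castSucc) (k' := i.succ) (i := y) with ⟨h1, h2⟩ | ⟨h1, h2⟩ |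
        ⟨-, -, h2⟩
      · rw [h2] at hs
        rw [h1] at hy
        simp only [Fin.val_succ, Fin.val_castSucc] at hs hy
        constructor
        · apply Fin.ext; simp only [Fin.val_succ]; omega
        · apply Fin.ext; simp only [Fin.val_castSucc]; omega
      · rw [h2] at hs
        rw [h1] at hy
        simp only [Fin.val_succ, Fin.val_castSucc] at hs hy
        omega
      · rw [h2] at hs
        omega

end Cfsg.Agent.Lib.H7AutPSL
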