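import Cfsg.Agent.Lib.Helper7.AutPSL.PSLDataA
import Cfsg.Agent.Lib.Helper5.AutBN.Core
import Mathlib

/-!
# The unipotent, Borel and root subgroups of `PSL_{m+1}(F)` (helper7)
-/

set_option autoImplicit false

namespace Cfsg.Agent.Lib.H7AutPSL

open Matrix Cfsg Cfsg.Agent.Lib.Helper5 Cfsg.Agent.Lib.Helper5.GLBN Cfsg.Agent.Lib.Helper5.AutBN
open Cfsg.Agent.H9.SLnA Cfsg.Agent.H9.SLnB
open scoped MatrixGroups

variable {m : ℕ} {F : Type*} [Field F]

local notation "SLn" => Matrix.SpecialLinearGroup (Fin (m + 1)) F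
local notation "PSLn" => Matrix.ProjectiveSpecialLinearGroup (Fin (m + 1)) F

/-! ### Generalities on conjugates and the projection -/

theorem cj_map_hom {G G' : Type*} [Group G] [Group G'] (f : G →* G') (g : G) (K : Subgroup G) :
    cj (f g) (K.map f) = (cj g K).map f := by
  ext x
  rw [mem_cj, Subgroup.mem_map, Subgroup.mem_map]
  constructor
  · rintro ⟨k, hk, e⟩
    refine ⟨g * k * g⁻¹, ?_, ?_⟩
    · rw [mem_cj]
      have : g⁻¹ * (g * k * g⁻¹) * g = k := by group
      rwa [this]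
    · rw [map_mul, map_mul, map_inv, e]
      group
  · rintro ⟨y, hy, rfl⟩
    rw [mem_cj] at hy
    exact ⟨g⁻¹ * y * g, hy, by rw [map_mul, map_mul, map_inv]⟩

theorem cj_eq_of {G : Type*} [Group G] (g : G) (K L : Subgroup G)
    (h1 : ∀ u ∈ K, g * u * g⁻¹ ∈ L) (h2 : ∀ v ∈ L, g⁻¹ * v * g ∈ K) : cj g K = L := by
  ext x
  rw [mem_cj]
  constructor
  · intro h
    have := h1 _ h
    have e : g * (g⁻¹ * x * g) * g⁻¹ = x := by group
    rwa [e] at this
  · exact h2 x

theorem prj_eq_iff (g h : SLn) :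
    prj g = prj h ↔ g⁻¹ * h ∈ Subgroup.center SLn := QuotientGroup.eq

theorem prj_eq_one_iff (g : SLn) : prj g = 1 ↔ g ∈ Subgroup.center SLn := by
  rw [← MonoidHom.mem_ker, prj_ker]

theorem mem_map_prj_iff {K : Subgroup SLn} (hK : Subgroup.center SLn ≤ K) (g : SLn) :
    prj g ∈ K.map prj ↔ g ∈ K := by
  constructor
  · rintro ⟨k, hk, e⟩
    have h1 := hK ((prj_eq_iff k g).1 e)
    have : g = k * (k⁻¹ * g) := by group
    rw [this]
    exact K.mul_mem hk h1
  · intro h
    exact ⟨g, h, rfl⟩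

/-- central elements are scalar -/
theorem center_apply {z : SLn} (hz : z ∈ Subgroup.center SLn) :
    ∃ r : F, r ≠ 0 ∧ ∀ i j, z.1 i j = if i = j then r else 0 := by
  obtain ⟨r, hr, e⟩ := Matrix.SpecialLinearGroup.mem_center_iff.1 hz
  refine ⟨r, ?_, ?_⟩
  · rintro rfl
    rw [zero_pow (by simp)] at hr
    exact zero_ne_one hr
  · intro i j
    rw [← e]
    by_cases h : i = j
    · subst h; simp
    · simp [h]

/-- an element of the centre with a diagonal entry `1` is trivial -/
theorem center_eq_one {z : SLn} (hz : z ∈ Subgroup.center SLn) (i : Fin (m + 1))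
    (h : z.1 i i = 1) : z = 1 := by
  obtain ⟨r, -, hr⟩ := center_apply hz
  have hr1 : r = 1 := by
    have := hr i i
    rw [if_pos rfl] at this
    rw [← this, h]
  apply Subtype.ext
  ext a b
  rw [hr, hr1, Matrix.SpecialLinearGroup.coe_one, Matrix.one_apply]

theorem pslBN_B_eq : (pslBN m F).B = ((slBN m F).B).map prj := rfl

theorem prj_mem_B_iff (g : SLn) : prj g ∈ (pslBN m F).B ↔ IsUpper g.1 := by
  rw [pslBN_B_eq, mem_map_prj_iff center_le_slBN_B, mem_slBN_B_iff]

section finite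

variable [Fintype F]

/-- the image of the upper unitriangular group -/
def UT (m : ℕ) (F : Type*) [Field F] [Fintype F] :
    Subgroup (Matrix.ProjectiveSpecialLinearGroup (Fin (m + 1)) F) :=
  (UU : Subgroup (Matrix.SpecialLinearGroup (Fin (m + 1)) F)).map prj

/-- the image of the lower unitriangular group -/
def VT (m : ℕ) (F : Type*) [Field F] [Fintype F] :
    Subgroup (Matrix.ProjectiveSpecialLinearGroup (Fin (m + 1)) F) :=
  (VV : Subgroup (Matrix.SpecialLinearGroup (Fin (m + 1)) F)).map prj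

theorem UU_le_B : (UU : Subgroup SLn) ≤ (slBN m F).B := by
  intro u hu
  rw [mem_slBN_B_iff]
  exact isUpper_of_mem_UU hu

theorem UT_le_B : UT m F ≤ (pslBN m F).B := Subgroup.map_mono UU_le_B

theorem isPGroup_UT (p : ℕ) [Fact p.Prime] [CharP F p] : IsPGroup p (UT m F) :=
  (isPGroup_UU (n := m + 1) (K := F) p).map prj

theorem not_dvd_index_UT (p : ℕ) [hp : Fact p.Prime] [CharP F p] : ¬ p ∣ (UT m F).index := by
  intro h
  have h1 : (UT m F).index ∣ (UU : Subgroup SLn).index :=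
    Subgroup.index_map_dvd _ prj_surjective
  have h2 := dvd_trans h h1
  have h3 : (UU : Subgroup SLn).index * Nat.card (UU : Subgroup SLn) = Nat.card SLn :=
    Subgroup.index_mul_card _
  rw [card_UU_eq p] at h3
  have hne : Nat.card SLn ≠ 0 := Nat.card_pos.ne'
  have h4 : (UU : Subgroup SLn).index = Nat.card SLn / p ^ (Nat.card SLn).factorization p :=
    (Nat.div_eq_of_eq_mul_left (pow_pos hp.out.pos _) h3.symm).symm
  rw [h4] at h2
  exact Nat.not_dvd_ordCompl hp.out hne h2

theorem B_le_normalizer_UT :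
    (pslBN m F).B ≤ Subgroup.normalizer ((UT m F : Subgroup PSLn) : Set PSLn) := by
  rintro _ ⟨g, hg, rfl⟩
  have hg' := slBN_B_le_normalizer_UU hg
  have := Subgroup.le_normalizer_map prj (H := (UU : Subgroup SLn))
  exact this ⟨g, hg', rfl⟩

theorem B_inf_VT : (pslBN m F).B ⊓ VT m F = ⊥ := by
  rw [eq_bot_iff]
  rintro x ⟨hxB, ⟨v, hv, rfl⟩⟩
  have hxB' : prj v ∈ (pslBN m F).B := hxB
  rw [prj_mem_B_iff] at hxB'
  rw [Subgroup.mem_bot]
  have hv1 : v = 1 := by
    apply Subtype.ext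
    ext i j
    rw [Matrix.SpecialLinearGroup.coe_one, Matrix.one_apply]
    rcases lt_trichotomy i j with h | h | h
    · rw [mem_VV.1 hv i j h.le]
    · rw [mem_VV.1 hv i j h.le]
    · rw [hxB' i j h, if_neg h.ne']
  rw [hv1, map_one]

end finite

end Cfsg.Agent.Lib.H7AutPSL
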