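import Cfsg.Agent.Lib.Helper7.AutPSL.PSLDataB
import Mathlib

/-!
# Root subgroups, the longest element and the normalizer of `U` in `PSL_{m+1}(F)` (helper7)
-/

set_option autoImplicit false

namespace Cfsg.Agent.Lib.H7AutPSL

open Matrix Cfsg Cfsg.Agent.Lib.Helper5 Cfsg.Agent.Lib.Helper5.GLBN Cfsg.Agent.Lib.Helper5.AutBN
open Cfsg.Agent.H9.SLnA Cfsg.Agent.H9.SLnB
open scoped MatrixGroups

variable {m : ℕ} {F : Type*} [Field F]

local notation "SLn" => Matrix.SpecialLinearGroup (Fin (m + 1)) F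
local notation "PSLn" => Matrix.ProjectiveSpecialLinearGroup (Fin (m + 1)) F

/-! ### Root subgroups -/

/-- the root homomorphism `t ↦ x_{ab}(t)` -/
def rxHom (a b : Fin (m + 1)) (hab : a ≠ b) : Multiplicative F →* SLn where
  toFun t := rx a b hab (Multiplicative.toAdd t)
  map_one' := rx_zero a b hab
  map_mul' _ _ := (rx_mul_rx a b hab _ _).symm

/-- the root subgroup `X_{ab}` of `PSL` -/
def XT (a b : Fin (m + 1)) (hab : a ≠ b) : Subgroup PSLn := (prj.comp (rxHom a b hab)).range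

theorem mem_XT {a b : Fin (m + 1)} {hab : a ≠ b} {x : PSLn} :
    x ∈ XT a b hab ↔ ∃ t : F, x = prj (rx a b hab t) := by
  constructor
  · rintro ⟨t, rfl⟩
    exact ⟨Multiplicative.toAdd t, rfl⟩
  · rintro ⟨t, rfl⟩
    exact ⟨Multiplicative.ofAdd t, rfl⟩

theorem prj_rx_mem_XT (a b : Fin (m + 1)) (hab : a ≠ b) (t : F) : prj (rx a b hab t) ∈ XT a b hab :=
  mem_XT.2 ⟨t, rfl⟩

theorem XT_congr {a b a' b' : Fin (m + 1)} (hab : a ≠ b) (ha : a = a') (hb : b = b') :
    XT (F := F) a b hab = XT a' b' (by rw [← ha, ← hb]; exact hab) := by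
  subst ha hb
  rfl

/-- a nontrivial root element is not central -/
theorem rx_not_mem_center (a b : Fin (m + 1)) (hab : a ≠ b) {t : F} (ht : t ≠ 0) :
    rx a b hab t ∉ Subgroup.center SLn := by
  intro h
  obtain ⟨r, -, hr⟩ := center_apply h
  have := hr a b
  rw [rx_apply, if_neg hab, if_pos ⟨rfl, rfl⟩, zero_add, if_neg hab] at this
  exact ht this

theorem prj_rx_injective (a b : Fin (m + 1)) (hab : a ≠ b) :
    Function.Injective (fun t : F => prj (rx a b hab t)) := by
  intro s t h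
  have h1 := (prj_eq_iff _ _).1 h
  rw [rx_inv, rx_mul_rx] at h1
  by_contra hne
  have : -s + t ≠ 0 := by
    intro e
    apply hne
    rw [neg_add_eq_zero] at e
    exact e
  exact rx_not_mem_center a b hab this h1

/-- multiplying by a central element multiplies all entries by a scalar -/
theorem mul_center_apply (g : SLn) {z : SLn} (hz : z ∈ Subgroup.center SLn) :
    ∃ r : F, r ≠ 0 ∧ ∀ i j, (g * z).1 i j = g.1 i j * r := by
  obtain ⟨r, hr0, hr⟩ := center_apply hz
  refine ⟨r, hr0, fun i j => ?_⟩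
  rw [Matrix.SpecialLinearGroup.coe_mul, Matrix.mul_apply, Finset.sum_eq_single j]
  · rw [hr, if_pos rfl]
  · intro k _ hk
    rw [hr, if_neg hk, mul_zero]
  · intro h; exact absurd (Finset.mem_univ j) h

/-! ### The longest element -/

theorem isMono_dgM (k : Fin (m + 1)) (c : F) : IsMono (dgM k c) 1 := by
  intro i j hij
  rw [dgM_apply, if_neg]
  simpa using hij

/-- a monomial matrix of determinant one with the order reversing permutation -/
def w0M (m : ℕ) (F : Type*) [Field F] : Matrix (Fin (m + 1)) (Fin (m + 1)) F :=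
  pm Fin.revPerm * dgM 0 (pm (Fin.revPerm : Equiv.Perm (Fin (m + 1))) : Matrix _ _ F).det

theorem w0M_det : (w0M m F).det = 1 := by
  unfold w0M
  rw [det_mul, dgM_det, ← det_mul, pm_mul]
  have : (Fin.revPerm : Equiv.Perm (Fin (m + 1))) * Fin.revPerm = 1 := by
    ext x
    simp
  rw [this, pm_one, det_one]

/-- the longest element -/
def w0SL (m : ℕ) (F : Type*) [Field F] : Matrix.SpecialLinearGroup (Fin (m + 1)) F :=
  ⟨w0M m F, w0M_det⟩

theorem isMono_w0SL : IsMono (w0SL m F).1 Fin.revPerm := by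
  have := (isMono_pm (F := F) (Fin.revPerm : Equiv.Perm (Fin (m + 1)))).mul
    (isMono_dgM 0 (pm (Fin.revPerm : Equiv.Perm (Fin (m + 1))) : Matrix _ _ F).det)
  rw [mul_one] at this
  exact this

theorem revPerm_inv : (Fin.revPerm : Equiv.Perm (Fin (m + 1)))⁻¹ = Fin.revPerm := by
  ext x
  simp

theorem rev_anti (a b : Fin (m + 1)) (h : a < b) :
    (Fin.revPerm : Equiv.Perm (Fin (m + 1)))⁻¹ b < (Fin.revPerm : Equiv.Perm (Fin (m + 1)))⁻¹ a := by
  rw [revPerm_inv]
  simpa using h

theorem w0SL_mem_N : w0SL m F ∈ (slBN m F).N := (mem_slBN_N_iff _).2 ⟨_, isMono_w0SL⟩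

section finite

variable [Fintype F]

/-- conjugation by a monomial matrix with order reversing permutation interchanges `UU`, `VV` -/
theorem cj_mono_UU {ν : SLn} {σ : Equiv.Perm (Fin (m + 1))} (h : IsMono ν.1 σ)
    (hσ : ∀ a b, a < b → σ⁻¹ b < σ⁻¹ a) : cj ν (UU : Subgroup SLn) = VV := by
  have hσ' : ∀ a b, a < b → σ⁻¹⁻¹ b < σ⁻¹⁻¹ a := by
    intro a b hab
    rw [inv_inv]
    by_contra hcon
    rw [not_lt] at hcon
    rcases eq_or_lt_of_le hcon with e | hlt
    · exact hab.ne (σ.injective e)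
    · have := hσ _ _ hlt
      rw [perm_inv_apply, perm_inv_apply] at this
      exact lt_asymm hab this
  apply cj_eq_of
  · intro u hu
    exact mono_conj_UU h hσ hu
  · intro v hv
    have := mono_conj_VV (isMono_inv_SL h) hσ' hv
    rwa [inv_inv] at this

theorem cj_mono_VV {ν : SLn} {σ : Equiv.Perm (Fin (m + 1))} (h : IsMono ν.1 σ)
    (hσ : ∀ a b, a < b → σ⁻¹ b < σ⁻¹ a) : cj ν (VV : Subgroup SLn) = UU := by
  have hσ' : ∀ a b, a < b → σ⁻¹⁻¹ b < σ⁻¹⁻¹ a := by
    intro a b hab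
    rw [inv_inv]
    by_contra hcon
    rw [not_lt] at hcon
    rcases eq_or_lt_of_le hcon with e | hlt
    · exact hab.ne (σ.injective e)
    · have := hσ _ _ hlt
      rw [perm_inv_apply, perm_inv_apply] at this
      exact lt_asymm hab this
  apply cj_eq_of
  · intro v hv
    exact mono_conj_VV h hσ hv
  · intro u hu
    have := mono_conj_UU (isMono_inv_SL h) hσ' hu
    rwa [inv_inv] at this

theorem cj_n0_UT : cj (prj (w0SL m F)) (UT m F) = VT m F := by
  unfold UT VT
  rw [cj_map_hom, cj_mono_UU isMono_w0SL rev_anti]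

theorem cj_n0_VT : cj (prj (w0SL m F)) (VT m F) = UT m F := by
  unfold UT VT
  rw [cj_map_hom, cj_mono_VV isMono_w0SL rev_anti]

omit [Fintype F] in
/-- conjugating a root subgroup by a monomial element -/
theorem cj_mono_XT {ν : SLn} {σ : Equiv.Perm (Fin (m + 1))} (h : IsMono ν.1 σ)
    (a b : Fin (m + 1)) (hab : a ≠ b) :
    cj (prj ν) (XT a b hab) = XT (σ a) (σ b) (fun e => hab (σ.injective e)) := by
  apply cj_eq_of
  · intro u hu
    obtain ⟨t, rfl⟩ := mem_XT.1 hu
    rw [← map_inv, ← map_mul, ← map_mul, mono_conj_rx h a b hab t]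
    exact prj_rx_mem_XT _ _ _ _
  · intro v hv
    obtain ⟨s, rfl⟩ := mem_XT.1 hv
    have hc := monoRatio_ne_zero h a b
    have e := mono_conj_rx h a b hab (s / monoRatio ν σ a b)
    rw [mul_div_cancel₀ _ hc] at e
    rw [← e, ← map_inv, ← map_mul, ← map_mul]
    have : ν⁻¹ * (ν * rx a b hab (s / monoRatio ν σ a b) * ν⁻¹) * ν =
        rx a b hab (s / monoRatio ν σ a b) := by group
    rw [this]
    exact prj_rx_mem_XT _ _ _ _

end finite

end Cfsg.Agent.Lib.H7AutPSL
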