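import Cfsg.Agent.Lib.Helper7.AutPSL.PSLDataC
import Mathlib

/-!
# The normal form of an automorphism of `PSL_{m+1}(F)` (helper7)

After composing with an inner automorphism, an automorphism of `PSL_{m+1}(F)` stabilises the images
of the upper and lower unitriangular groups and permutes the fundamental root subgroups.
-/

set_option autoImplicit false

namespace Cfsg.Agent.Lib.H7AutPSL

open Matrix Cfsg Cfsg.Agent.Lib.Helper5 Cfsg.Agent.Lib.Helper5.GLBN Cfsg.Agent.Lib.Helper5.AutBN
open Cfsg.Agent.H9.SLnA Cfsg.Agent.H9.SLnB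
open scoped MatrixGroups

variable {m : ℕ} {F : Type*} [Field F]

local notation "SLn" => Matrix.SpecialLinearGroup (Fin (m + 1)) F
local notation "PSLn" => Matrix.ProjectiveSpecialLinearGroup (Fin (m + 1)) F

/-- the simple reflections of `PSL` -/
def sT (i : Fin m) : PSLn := prj (wSL i)

theorem wSL_mem_S (i : Fin m) : wSL (F := F) i ∈ (slBN m F).S := (mem_slBN_S _).2 ⟨i, rfl⟩

theorem sT_mem_S (i : Fin m) : sT (F := F) i ∈ (pslBN m F).S := ⟨wSL i, wSL_mem_S i, rfl⟩

theorem range_sT : Set.range (sT (m := m) (F := F)) = (pslBN m F).S := by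
  ext x
  constructor
  · rintro ⟨i, rfl⟩
    exact sT_mem_S i
  · rintro ⟨g, hg, rfl⟩
    obtain ⟨i, rfl⟩ := (mem_slBN_S g).1 hg
    exact ⟨i, rfl⟩

theorem sT_injective : Function.Injective (sT (m := m) (F := F)) := by
  intro i j h
  have h1 := (prj_eq_iff _ _).1 h
  have h2 := center_le_slBN_B h1
  have h3 := (slBN m F).inj (wSL i) (wSL_mem_S i) (wSL j) (wSL_mem_S j) h2
  apply wGL_injective (F := F)
  rw [← toGL_wSL, ← toGL_wSL, h3]

theorem closure_singleton_cases {G : Type*} [Group G] (P : BNPair G) {s : G} (hs : s ∈ P.S) {n : G}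
    (hn : n ∈ Subgroup.closure {s}) : n ∈ P.B ∨ ∃ b ∈ P.B, n = b * s := by
  obtain ⟨k, rfl⟩ := Subgroup.mem_closure_singleton.1 hn
  have hss : s * s ∈ P.B := P.sq_mem s hs
  rcases Int.even_or_odd k with ⟨j, rfl⟩ | ⟨j, rfl⟩
  · left
    rw [_root_.zpow_add, ← (Commute.refl s).mul_zpow]
    exact zpow_mem hss j
  · right
    rw [_root_.zpow_add, zpow_one, two_mul, _root_.zpow_add, ← (Commute.refl s).mul_zpow]
    exact ⟨(s * s) ^ j, zpow_mem hss j, rfl⟩

section finite

variable [Fintype F]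

theorem normalizer_UT :
    Subgroup.normalizer ((UT m F : Subgroup PSLn) : Set PSLn) = (pslBN m F).B := by
  apply le_antisymm _ B_le_normalizer_UT
  have hpar := BN.eq_parabolic_of_le (pslBN m F) _ (B_le_normalizer_UT (m := m) (F := F))
  have hempty : {s | s ∈ (pslBN m F).S ∧
      s ∈ Subgroup.normalizer ((UT m F : Subgroup PSLn) : Set PSLn)} = (∅ : Set PSLn) := by
    ext s
    simp only [Set.mem_ofPred_eq, Set.mem_empty_iff_false, iff_false, not_and]
    intro hs hsN
    rw [← range_sT] at hs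
    obtain ⟨i, rfl⟩ := hs
    have hlt : i.castSucc < i.succ := Fin.castSucc_lt_succ
    have h1 := (Subgroup.mem_normalizer_iff.1 hsN
      (prj (rx i.castSucc i.succ (castSucc_ne_succ i) 1))).1
        ⟨_, rx_mem_UU i.castSucc i.succ hlt 1, rfl⟩
    unfold sT at h1
    rw [← map_inv, ← map_mul, ← map_mul, wSL_conj_rx'] at h1
    obtain ⟨u, hu, e⟩ := h1
    have hz := (prj_eq_iff _ _).1 e
    obtain ⟨r, -, hr⟩ := mul_center_apply u hz
    have e2 : u * (u⁻¹ * rx i.succ i.castSucc (castSucc_ne_succ i).symm (-1)) =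
        rx i.succ i.castSucc (castSucc_ne_succ i).symm (-1) := by group
    have h3 := hr i.succ i.castSucc
    rw [e2, rx_apply, if_neg (castSucc_ne_succ i).symm, if_pos ⟨rfl, rfl⟩, zero_add,
      isUpper_of_mem_UU hu _ _ hlt, zero_mul] at h3
    exact one_ne_zero (neg_eq_zero.1 h3)
  intro x hx
  rw [hpar, hempty, parabolic_empty] at hx
  exact hx

/-- Sylow `p`-subgroups meeting `B` trivially are `B`-conjugate to `V` -/
theorem hopp_T (g : PSLn) (hg : cj g (UT m F) ⊓ (pslBN m F).B = ⊥) :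
    ∃ b ∈ (pslBN m F).B, cj g (UT m F) = cj b (VT m F) := by
  obtain ⟨n, hn⟩ := BN.exists_N_mem_D (pslBN m F) g
  rw [BN.mem_D] at hn
  obtain ⟨b₁, hb₁, b₂, hb₂, rfl⟩ := hn
  obtain ⟨ν, hν, hνn⟩ := n.2
  obtain ⟨σ, hσ⟩ := (mem_slBN_N_iff ν).1 hν
  have e0 : cj b₂ (UT m F) = UT m F := cj_of_mem_normalizer (B_le_normalizer_UT hb₂)
  have e1 : cj (b₁ * (n : PSLn) * b₂) (UT m F) = cj b₁ (cj (prj ν) (UT m F)) := by
    rw [← cj_mul, ← cj_mul, e0, hνn]
  rw [e1] at hg
  -- `σ` is order reversing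
  have hanti : ∀ a b, a < b → σ b < σ a := by
    intro a b hab
    by_contra hcon
    have hlt : σ a < σ b :=
      lt_of_le_of_ne (not_lt.1 hcon) (fun e => hab.ne (σ.injective e))
    have hc := monoRatio_ne_zero hσ a b
    have e := mono_conj_rx hσ a b hab.ne 1
    have hx1 : prj (ν * rx a b hab.ne 1 * ν⁻¹) ∈ cj (prj ν) (UT m F) := by
      rw [mem_cj, ← map_inv, ← map_mul, ← map_mul]
      have : ν⁻¹ * (ν * rx a b hab.ne 1 * ν⁻¹) * ν = rx a b hab.ne 1 := by group
      rw [this]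
      exact ⟨_, rx_mem_UU a b hab 1, rfl⟩
    have hx2 : prj (ν * rx a b hab.ne 1 * ν⁻¹) ∈ (pslBN m F).B := by
      rw [e]
      exact UT_le_B ⟨_, rx_mem_UU (σ a) (σ b) hlt _, rfl⟩
    have hx3 : b₁ * prj (ν * rx a b hab.ne 1 * ν⁻¹) * b₁⁻¹ ∈
        cj b₁ (cj (prj ν) (UT m F)) ⊓ (pslBN m F).B := by
      refine Subgroup.mem_inf.2 ⟨?_, ?_⟩
      · rw [mem_cj]
        have : b₁⁻¹ * (b₁ * prj (ν * rx a b hab.ne 1 * ν⁻¹) * b₁⁻¹) * b₁ =
            prj (ν * rx a b hab.ne 1 * ν⁻¹) := by group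
        rw [this]
        exact hx1
      · exact mul_mem (mul_mem hb₁ hx2) (inv_mem hb₁)
    rw [hg, Subgroup.mem_bot] at hx3
    have hx4 : prj (ν * rx a b hab.ne 1 * ν⁻¹) = 1 := by
      have : prj (ν * rx a b hab.ne 1 * ν⁻¹) =
          b₁⁻¹ * (b₁ * prj (ν * rx a b hab.ne 1 * ν⁻¹) * b₁⁻¹) * b₁ := by group
      rw [this, hx3]
      group
    rw [e, prj_eq_one_iff] at hx4
    exact rx_not_mem_center _ _ _ (mul_ne_zero hc one_ne_zero) hx4
  have hσ' : ∀ a b, a < b → σ⁻¹ b < σ⁻¹ a := by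
    intro a b hab
    by_contra hcon
    rw [not_lt] at hcon
    rcases eq_or_lt_of_le hcon with e | hlt
    · exact hab.ne (σ⁻¹.injective e)
    · have := hanti _ _ hlt
      rw [perm_apply_inv, perm_apply_inv] at this
      exact lt_asymm hab this
  refine ⟨b₁, hb₁, ?_⟩
  rw [e1]
  congr 1
  unfold UT VT
  rw [cj_map_hom, cj_mono_UU hσ hσ']

/-- the negative fundamental root subgroups are cut out by the minimal parabolic subgroups -/
theorem parabolic_inf_VT (i : Fin m) :
    XT (F := F) i.succ i.castSucc (castSucc_ne_succ i).symm =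
      (pslBN m F).parabolic {sT i} ⊓ VT m F := by
  have hlt : i.castSucc < i.succ := Fin.castSucc_lt_succ
  have hJ : ({sT i} : Set PSLn) ⊆ (pslBN m F).S := by
    rintro _ rfl
    exact sT_mem_S i
  apply le_antisymm
  · intro x hx
    obtain ⟨t, rfl⟩ := mem_XT.1 hx
    refine Subgroup.mem_inf.2 ⟨?_, ?_⟩
    · have e := wSL_conj_rx' (F := F) i (-t)
      rw [neg_neg] at e
      rw [← e, map_mul, map_mul, map_inv]
      have hs : sT (F := F) i ∈ (pslBN m F).parabolic {sT i} := mem_parabolic_self _ rfl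
      have hb : prj (rx i.castSucc i.succ (castSucc_ne_succ i) (-t)) ∈
          (pslBN m F).parabolic {sT i} :=
        BN.B_le_parabolic _ _ (UT_le_B ⟨_, rx_mem_UU _ _ hlt _, rfl⟩)
      exact mul_mem (mul_mem hs hb) (inv_mem hs)
    · exact ⟨_, rx_mem_VV i.succ i.castSucc hlt t, rfl⟩
  · intro x hx
    rw [Subgroup.mem_inf] at hx
    obtain ⟨hxP, ⟨v, hv, rfl⟩⟩ := hx
    rw [BN.mem_parabolic_iff _ hJ] at hxP
    obtain ⟨n, hn, hD⟩ := hxP
    rcases closure_singleton_cases (pslBN m F) (sT_mem_S i) hn with hnB | ⟨b, hb, rfl⟩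
    · rw [BN.D_of_mem_B _ hnB] at hD
      have : prj v ∈ (pslBN m F).B ⊓ VT m F := Subgroup.mem_inf.2 ⟨hD, ⟨v, hv, rfl⟩⟩
      rw [B_inf_VT, Subgroup.mem_bot] at this
      rw [this]
      exact one_mem _
    · rw [BN.D_B_mul _ hb, BN.mem_D] at hD
      obtain ⟨b₁, hb₁, b₂, hb₂, e⟩ := hD
      obtain ⟨β₁, hβ₁, rfl⟩ := hb₁
      obtain ⟨β₂, hβ₂, rfl⟩ := hb₂
      unfold sT at e
      rw [← map_mul, ← map_mul] at e
      have hz := (prj_eq_iff _ _).1 e.symm
      -- `v = β₁ w (β₂ z)`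
      set z := (β₁ * wSL i * β₂)⁻¹ * v with hzdef
      have hv' : v = β₁ * wSL i * (β₂ * z) := by rw [hzdef]; group
      have hβ₂' : β₂ * z ∈ (slBN m F).B := mul_mem hβ₂ (center_le_slBN_B hz)
      have hent : ∀ a c : Fin (m + 1), c < a → ¬ (a = i.succ ∧ c = i.castSucc) → v.1 a c = 0 := by
        intro a c hca hne
        have := upper_w_upper_apply i (b := Matrix.SpecialLinearGroup.toGL β₁)
          (b' := Matrix.SpecialLinearGroup.toGL (β₂ * z)) hβ₁ hβ₂' a c hca hne
        rw [← toGL_wSL, ← map_mul, ← map_mul, ← hv'] at this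
        exact this
      have hvx : v = rx i.succ i.castSucc (castSucc_ne_succ i).symm (v.1 i.succ i.castSucc) := by
        apply Subtype.ext
        ext a c
        rw [rx_apply]
        rcases lt_trichotomy a c with h | h | h
        · rw [mem_VV.1 hv a c h.le, if_neg h.ne, if_neg, add_zero]
          rintro ⟨rfl, rfl⟩
          exact lt_asymm h hlt
        · subst h
          rw [mem_VV.1 hv a a le_rfl, if_pos rfl, if_neg, add_zero]
          rintro ⟨h1, h2⟩
          exact (castSucc_ne_succ i) (h2.symm.trans h1)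
        · by_cases hp : a = i.succ ∧ c = i.castSucc
          · obtain ⟨rfl, rfl⟩ := hp
            rw [if_neg h.ne', if_pos ⟨rfl, rfl⟩, zero_add]
          · rw [hent a c h hp, if_neg h.ne', if_neg hp, add_zero]
      rw [hvx]
      exact prj_rx_mem_XT _ _ _ _

omit [Fintype F] in
/-- root elements `x_{ab}(t)`, `x_{cd}(u)` commute when `b ≠ c` and `d ≠ a` -/
theorem rx_comm_of_ne (a b c d : Fin (m + 1)) (hab : a ≠ b) (hcd : c ≠ d) (hbc : b ≠ c)
    (hda : d ≠ a) (t u : F) : rx a b hab t * rx c d hcd u = rx c d hcd u * rx a b hab t := by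
  apply Subtype.ext
  simp only [Matrix.SpecialLinearGroup.coe_mul, rx_val]
  simp only [transvection, add_mul, mul_add, one_mul, mul_one,
    single_mul_single_of_ne _ _ _ _ hbc, single_mul_single_of_ne _ _ _ _ hda, add_zero]
  abel

omit [Fintype F] in
/-- opposite fundamental root elements do not commute modulo the centre -/
theorem rx_noncomm (i : Fin m) :
    (rx i.castSucc i.succ (castSucc_ne_succ i) (1 : F) *
      rx i.succ i.castSucc (castSucc_ne_succ i).symm 1)⁻¹ *
      (rx i.succ i.castSucc (castSucc_ne_succ i).symm 1 *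
        rx i.castSucc i.succ (castSucc_ne_succ i) 1) ∉ Subgroup.center SLn := by
  intro hz
  have hne := castSucc_ne_succ i
  obtain ⟨r, -, hr⟩ := mul_center_apply _ hz
  have e2 : ∀ X Y : SLn, X * Y * ((X * Y)⁻¹ * (Y * X)) = Y * X := by intro X Y; group
  rw [e2] at hr
  have h12 := hr i.castSucc i.succ
  have h11 := hr i.castSucc i.castSucc
  simp only [Matrix.SpecialLinearGroup.coe_mul, rx_val] at h12 h11
  rw [transvection_mul_apply_of_ne _ _ _ _ hne, transvection_mul_apply_same,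
    transvection_apply, transvection_apply, transvection_apply] at h12
  rw [transvection_mul_apply_of_ne _ _ _ _ hne, transvection_mul_apply_same,
    transvection_apply, transvection_apply, transvection_apply] at h11
  simp only [hne, hne.symm, if_true, if_false, and_self, and_true, true_and, and_false,
    false_and] at h12 h11
  norm_num at h12 h11
  rw [← h12] at h11
  have h10 : (1 : F) = 0 := by linear_combination (-1 : F) * h11
  exact one_ne_zero h10

theorem rev_succ_eq (j : Fin m) :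
    (Fin.revPerm : Equiv.Perm (Fin (m + 1))) j.succ = (Fin.rev j).castSucc := by
  rw [Fin.revPerm_apply, Fin.rev_succ]

theorem rev_castSucc_eq (j : Fin m) :
    (Fin.revPerm : Equiv.Perm (Fin (m + 1))) j.castSucc = (Fin.rev j).succ := by
  rw [Fin.revPerm_apply, Fin.rev_castSucc]

omit [Fintype F] in
theorem cj_n0_Xm (j : Fin m) :
    cj (prj (w0SL m F)) (XT j.succ j.castSucc (castSucc_ne_succ j).symm) =
      XT (Fin.rev j).castSucc (Fin.rev j).succ (castSucc_ne_succ _) := by
  rw [cj_mono_XT isMono_w0SL]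
  exact XT_congr _ (rev_succ_eq j) (rev_castSucc_eq j)

/-- **The normal form of an automorphism of `PSL_{m+1}(F)`.** -/
theorem psl_normal_form (p : ℕ) [Fact p.Prime] [CharP F p] (θ : PSLn ≃* PSLn) :
    ∃ (x : PSLn) (ρ : Equiv.Perm (Fin m)),
      (UT m F).map (θ.trans (MulAut.conj x⁻¹)).toMonoidHom = UT m F ∧
      (VT m F).map (θ.trans (MulAut.conj x⁻¹)).toMonoidHom = VT m F ∧
      (∀ i : Fin m, (XT (F := F) i.castSucc i.succ (castSucc_ne_succ i)).map
          (θ.trans (MulAut.conj x⁻¹)).toMonoidHom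
        = XT (ρ i).castSucc (ρ i).succ (castSucc_ne_succ _)) ∧
      (∀ i : Fin m, (XT (F := F) i.succ i.castSucc (castSucc_ne_succ i).symm).map
          (θ.trans (MulAut.conj x⁻¹)).toMonoidHom
        = XT (ρ i).succ (ρ i).castSucc (castSucc_ne_succ _).symm) := by
  obtain ⟨x, ρ, h1, h2, -, -, h5, h6⟩ := exists_normal_form (pslBN m F) p (sT (m := m) (F := F))
    (UT m F) (VT m F) (prj (w0SL m F))
    (fun i => XT i.castSucc i.succ (castSucc_ne_succ i))
    (fun i => XT i.succ i.castSucc (castSucc_ne_succ i).symm)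
    sT_injective range_sT (isPGroup_UT p) (not_dvd_index_UT p) normalizer_UT cj_n0_UT cj_n0_VT
    B_inf_VT hopp_T parabolic_inf_VT
    (by
      intro i
      refine ⟨Fin.rev i, ?_⟩
      have h := cj_n0_Xm (F := F) (Fin.rev i)
      beta_reduce
      rw [h]
      exact XT_congr _ (by rw [Fin.rev_rev]) (by rw [Fin.rev_rev]))
    (by
      intro j
      exact ⟨Fin.rev j, cj_n0_Xm j⟩)
    (by
      intro i j hij x hx y hy
      obtain ⟨t, rfl⟩ := mem_XT.1 hx
      obtain ⟨u, rfl⟩ := mem_XT.1 hy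
      rw [← map_mul, ← map_mul, rx_comm_of_ne]
      · intro e
        exact hij (Fin.succ_injective _ e)
      · intro e
        exact hij (Fin.castSucc_injective _ e).symm)
    (by
      intro i
      refine ⟨_, prj_rx_mem_XT _ _ _ 1, _, prj_rx_mem_XT _ _ _ 1, ?_⟩
      intro e
      rw [← map_mul, ← map_mul] at e
      exact rx_noncomm i ((prj_eq_iff _ _).1 e))
    θ
  exact ⟨x, ρ, h1, h2, h5, h6⟩

end finite

end Cfsg.Agent.Lib.H7AutPSL
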