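import Cfsg.Agent.Lib.Helper7.AutPSL.BNTransfer
import Cfsg.Agent.Lib.Helper5.GLBN.Weyl
import Mathlib

/-!
# The `(B, N)`-pairs of `SL_{m+1}(F)` and `PSL_{m+1}(F)` (helper7)

Obtained from helper5's `(B, N)`-pair of `GL_n(F)` by changing the representatives of the simple
reflections to signed permutation matrices of determinant one, pulling back to `SL` and pushing
forward to `PSL`.
-/

set_option autoImplicit false

namespace Cfsg.Agent.Lib.H7AutPSL

open Matrix Cfsg Cfsg.Agent.Lib.Helper5 Cfsg.Agent.Lib.Helper5.GLBN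
open scoped MatrixGroups

variable {m : ℕ} {F : Type*} [Field F]

/-- the diagonal matrix with `c` at position `k` and `1` elsewhere -/
def dgM (k : Fin (m + 1)) (c : F) : Matrix (Fin (m + 1)) (Fin (m + 1)) F :=
  diagonal (fun j => if j = k then c else 1)

theorem dgM_mul (k : Fin (m + 1)) (c d : F) : dgM k c * dgM k d = dgM k (c * d) := by
  unfold dgM
  rw [diagonal_mul_diagonal]
  congr 1
  funext j
  by_cases h : j = k
  · rw [if_pos h, if_pos h, if_pos h]
  · rw [if_neg h, if_neg h, if_neg h, mul_one]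

theorem dgM_one (k : Fin (m + 1)) : dgM k (1 : F) = 1 := by
  unfold dgM
  rw [← diagonal_one]
  congr 1
  funext j
  by_cases h : j = k
  · rw [if_pos h]
  · rw [if_neg h]

theorem dgM_det (k : Fin (m + 1)) (c : F) : (dgM k c).det = c := by
  unfold dgM
  rw [det_diagonal, Finset.prod_ite_eq' Finset.univ k (fun _ => c), if_pos (Finset.mem_univ k)]

theorem dgM_apply (k : Fin (m + 1)) (c : F) (i j : Fin (m + 1)) :
    dgM k c i j = if i = j then (if j = k then c else 1) else 0 := by
  unfold dgM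
  rw [diagonal_apply]
  by_cases h : i = j
  · rw [if_pos h, if_pos h, h]
  · rw [if_neg h, if_neg h]

/-- the diagonal matrix with the unit `c` at position `k`, as an element of `GL` -/
def dg (k : Fin (m + 1)) (c : Fˣ) : GL (Fin (m + 1)) F :=
  ⟨dgM k (c : F), dgM k ((c⁻¹ : Fˣ) : F),
    by rw [dgM_mul, ← Units.val_mul, mul_inv_cancel, Units.val_one, dgM_one],
    by rw [dgM_mul, ← Units.val_mul, inv_mul_cancel, Units.val_one, dgM_one]⟩

theorem dg_coe (k : Fin (m + 1)) (c : Fˣ) :
    ((dg k c : GL (Fin (m + 1)) F) : Matrix (Fin (m + 1)) (Fin (m + 1)) F) = dgM k (c : F) := rfl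

theorem isMono_dg (k : Fin (m + 1)) (c : Fˣ) :
    IsMono ((dg k c : GL (Fin (m + 1)) F) : Matrix (Fin (m + 1)) (Fin (m + 1)) F) 1 := by
  intro i j hij
  rw [dg_coe, dgM_apply, if_neg]
  simpa using hij

theorem dg_mem_upper (k : Fin (m + 1)) (c : Fˣ) : dg k c ∈ upperTriangularGL (m + 1) F :=
  mem_upper_of_isMono_one (isMono_dg k c)

theorem dg_mem_mono (k : Fin (m + 1)) (c : Fˣ) : dg k c ∈ monoN (m + 1) F :=
  ⟨1, isMono_dg k c⟩

theorem dg_mem_T (k : Fin (m + 1)) (c : Fˣ) :
    dg k c ∈ (glBN (m + 1) F).B ⊓ (glBN (m + 1) F).N :=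
  ⟨dg_mem_upper k c, dg_mem_mono k c⟩

theorem dg_det (k : Fin (m + 1)) (c : Fˣ) :
    ((dg k c : GL (Fin (m + 1)) F) : Matrix (Fin (m + 1)) (Fin (m + 1)) F).det = c := by
  rw [dg_coe, dgM_det]

/-- the adjacent transposition `(i, i+1)` -/
def adj (i : Fin m) : Equiv.Perm (Fin (m + 1)) := Equiv.swap i.castSucc i.succ

theorem castSucc_ne_succ (i : Fin m) : i.castSucc ≠ i.succ := by
  intro h
  have := congrArg Fin.val h
  simp at this

theorem adj_injective : Function.Injective (adj : Fin m → Equiv.Perm (Fin (m + 1))) := by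
  intro i j h
  have h1 : adj j i.castSucc = i.succ := by
    rw [← h]; unfold adj; rw [Equiv.swap_apply_left]
  unfold adj at h1
  rcases swap_cases (k := j.castSucc) (k' := j.succ) (i := i.castSucc) with ⟨h2, -⟩ | ⟨h2, h3⟩ |
    ⟨-, -, h3⟩
  · exact Fin.castSucc_injective _ h2
  · rw [h3] at h1
    have e1 := congrArg Fin.val h2
    have e2 := congrArg Fin.val h1
    simp at e1 e2
    omega
  · rw [h3] at h1
    exact absurd h1 (castSucc_ne_succ i)

/-- the signed permutation matrix of `(i, i+1)`, as an element of `GL` -/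
def wGL (i : Fin m) : GL (Fin (m + 1)) F := permGL (adj i) * dg i.castSucc (-1)

theorem isMono_wGL (i : Fin m) :
    IsMono ((wGL i : GL (Fin (m + 1)) F) : Matrix (Fin (m + 1)) (Fin (m + 1)) F) (adj i) := by
  have := (isMono_pm (F := F) (adj i)).mul (isMono_dg (F := F) i.castSucc (-1))
  rw [mul_one] at this
  unfold wGL
  rw [Units.val_mul]
  exact this

theorem wGL_det (i : Fin m) :
    ((wGL i : GL (Fin (m + 1)) F) : Matrix (Fin (m + 1)) (Fin (m + 1)) F).det = 1 := by
  unfold wGL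
  rw [Units.val_mul, det_mul, dg_det, permGL_coe]
  unfold pm adj
  rw [det_permutation, Equiv.Perm.sign_inv, Equiv.Perm.sign_swap (castSucc_ne_succ i)]
  simp

theorem wGL_apply (i : Fin m) (a b : Fin (m + 1)) :
    ((wGL i : GL (Fin (m + 1)) F) : Matrix (Fin (m + 1)) (Fin (m + 1)) F) a b =
      if adj i a = b then (if b = i.castSucc then -1 else 1) else 0 := by
  unfold wGL
  rw [Units.val_mul, permGL_coe, pm_mul_apply, dg_coe, dgM_apply]
  have : (adj i)⁻¹ = adj i := by unfold adj; rw [Equiv.swap_inv]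
  rw [this]
  simp

/-- the set of the new representatives -/
def wSet (m : ℕ) (F : Type*) [Field F] : Set (GL (Fin (m + 1)) F) := Set.range (wGL (m := m) (F := F))

theorem permGL_injective : Function.Injective (permGL : Equiv.Perm (Fin (m + 1)) → GL (Fin (m + 1)) F) := by
  intro σ τ h
  have h1 := isMono_pm (F := F) σ
  have h2 := isMono_pm (F := F) τ
  rw [← permGL_coe, h] at h1
  exact (IsMono.unique h2 h1).symm ▸ rfl

theorem permGL_adj_mem (i : Fin m) : (permGL (adj i) : GL (Fin (m + 1)) F) ∈ (glBN (m + 1) F).S := by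
  refine ⟨i.castSucc, i.succ, ?_, rfl⟩
  simp

theorem wGL_injective : Function.Injective (wGL : Fin m → GL (Fin (m + 1)) F) := by
  intro i j h
  have h1 := isMono_wGL (F := F) i
  rw [h] at h1
  exact adj_injective (IsMono.unique h1 (isMono_wGL j))

/-- the `(B, N)`-pair of `GL` with the signed representatives -/
def glBN' (m : ℕ) (F : Type*) [Field F] : BNPair (GL (Fin (m + 1)) F) :=
  changeS (glBN (m + 1) F) (wSet m F)
    (by
      rintro _ ⟨i, rfl⟩
      exact ⟨permGL (adj i), permGL_adj_mem i, dg i.castSucc (-1), dg_mem_T _ _, rfl⟩)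
    (by
      rintro s ⟨k, k', hk, rfl⟩
      have hk1 : (k : ℕ) < m := by
        have := k'.2
        omega
      refine ⟨wGL ⟨k, hk1⟩, ⟨⟨k, hk1⟩, rfl⟩, dg k (-1), dg_mem_T _ _, ?_⟩
      have e1 : (⟨k, hk1⟩ : Fin m).castSucc = k := Fin.ext rfl
      have e2 : (⟨k, hk1⟩ : Fin m).succ = k' := Fin.ext (by simp [hk])
      unfold wGL adj
      rw [e1, e2])
    (by
      rintro _ ⟨i, rfl⟩ _ ⟨j, rfl⟩ h
      have hB := (glBN (m + 1) F).B
      have h' : (permGL (adj i) : GL (Fin (m + 1)) F)⁻¹ * permGL (adj j) ∈ (glBN (m + 1) F).B := by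
        have e : (permGL (adj i) : GL (Fin (m + 1)) F)⁻¹ * permGL (adj j) =
            dg i.castSucc (-1) * ((wGL i)⁻¹ * wGL j) * (dg j.castSucc (-1))⁻¹ := by
          unfold wGL
          group
        rw [e]
        exact mul_mem (mul_mem (dg_mem_upper _ _) h) (inv_mem (dg_mem_upper _ _))
      have := (glBN (m + 1) F).inj _ (permGL_adj_mem i) _ (permGL_adj_mem j) h'
      rw [adj_injective (permGL_injective this)])

theorem glBN'_B : (glBN' m F).B = upperTriangularGL (m + 1) F := rfl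
theorem glBN'_N : (glBN' m F).N = monoN (m + 1) F := rfl
theorem glBN'_S : (glBN' m F).S = wSet m F := rfl

/-- the signed permutation matrix of `(i, i+1)`, as an element of `SL` -/
def wSL (i : Fin m) : Matrix.SpecialLinearGroup (Fin (m + 1)) F :=
  ⟨((wGL i : GL (Fin (m + 1)) F) : Matrix (Fin (m + 1)) (Fin (m + 1)) F), wGL_det i⟩

theorem toGL_wSL (i : Fin m) :
    Matrix.SpecialLinearGroup.toGL (wSL (F := F) i) = wGL i := Units.ext rfl

theorem mem_range_toGL (g : GL (Fin (m + 1)) F)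
    (h : (g : Matrix (Fin (m + 1)) (Fin (m + 1)) F).det = 1) :
    g ∈ (Matrix.SpecialLinearGroup.toGL : Matrix.SpecialLinearGroup (Fin (m + 1)) F →* _).range :=
  ⟨⟨g, h⟩, Units.ext rfl⟩

/-- the `(B, N)`-pair of `SL_{m+1}(F)` -/
def slBN (m : ℕ) (F : Type*) [Field F] : BNPair (Matrix.SpecialLinearGroup (Fin (m + 1)) F) :=
  comapInj (glBN' m F) Matrix.SpecialLinearGroup.toGL Matrix.SpecialLinearGroup.toGL_injective
    (by
      rintro _ ⟨i, rfl⟩
      exact ⟨wSL i, toGL_wSL i⟩)
    (by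
      intro g
      have hdet : IsUnit (g : Matrix (Fin (m + 1)) (Fin (m + 1)) F).det :=
        (Matrix.isUnit_iff_isUnit_det _).1 g.isUnit
      refine ⟨dg 0 hdet.unit⁻¹, dg_mem_T _ _, ?_⟩
      apply mem_range_toGL
      rw [Units.val_mul, det_mul, dg_det]
      rw [Units.val_inv_eq_inv_val, IsUnit.unit_spec]
      exact mul_inv_cancel₀ hdet.ne_zero)

theorem slBN_B : (slBN m F).B = (upperTriangularGL (m + 1) F).comap Matrix.SpecialLinearGroup.toGL := rfl
theorem slBN_N : (slBN m F).N = (monoN (m + 1) F).comap Matrix.SpecialLinearGroup.toGL := rfl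
theorem slBN_S : (slBN m F).S = Matrix.SpecialLinearGroup.toGL ⁻¹' wSet m F := rfl

theorem mem_slBN_S (g : Matrix.SpecialLinearGroup (Fin (m + 1)) F) :
    g ∈ (slBN m F).S ↔ ∃ i, g = wSL i := by
  rw [slBN_S]
  constructor
  · rintro ⟨i, hi⟩
    refine ⟨i, ?_⟩
    apply Matrix.SpecialLinearGroup.toGL_injective
    rw [toGL_wSL]
    exact hi.symm
  · rintro ⟨i, rfl⟩
    exact ⟨i, (toGL_wSL i).symm⟩

theorem center_le_slBN_B :
    Subgroup.center (Matrix.SpecialLinearGroup (Fin (m + 1)) F) ≤ (slBN m F).B := by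
  intro z hz
  obtain ⟨r, -, hr⟩ := Matrix.SpecialLinearGroup.mem_center_iff.1 hz
  rw [slBN_B, Subgroup.mem_comap, mem_upper]
  intro i j hji
  show z.1 i j = 0
  rw [← hr]
  simp [ne_of_gt hji]

/-- the projection `SL → PSL` -/
def prj : Matrix.SpecialLinearGroup (Fin (m + 1)) F →* Matrix.ProjectiveSpecialLinearGroup (Fin (m + 1)) F :=
  QuotientGroup.mk' _

theorem prj_surjective : Function.Surjective (prj : Matrix.SpecialLinearGroup (Fin (m + 1)) F →* _) :=
  QuotientGroup.mk'_surjective _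

theorem prj_ker : (prj : Matrix.SpecialLinearGroup (Fin (m + 1)) F →* _).ker =
    Subgroup.center (Matrix.SpecialLinearGroup (Fin (m + 1)) F) := QuotientGroup.ker_mk' _

/-- the `(B, N)`-pair of `PSL_{m+1}(F)` -/
def pslBN (m : ℕ) (F : Type*) [Field F] : BNPair (Matrix.ProjectiveSpecialLinearGroup (Fin (m + 1)) F) :=
  mapSurj (slBN m F) prj prj_surjective (by rw [prj_ker]; exact center_le_slBN_B)

theorem pslBN_B : (pslBN m F).B = (slBN m F).B.map prj := rfl
theorem pslBN_N : (pslBN m F).N = (slBN m F).N.map prj := rfl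
theorem pslBN_S : (pslBN m F).S = prj '' (slBN m F).S := rfl

end Cfsg.Agent.Lib.H7AutPSL
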