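import Cfsg.Agent.Lib.Helper7.AutPSL.AutLift
import Mathlib

/-!
# Steinberg's argument for `PSL_{m+1}(F)` (helper7)

An automorphism of `PSL_{m+1}(F)`, `m ≥ 2`, stabilising every fundamental root subgroup and its
opposite is the composite of a field automorphism and conjugation by a diagonal matrix.
-/

set_option autoImplicit false

namespace Cfsg.Agent.Lib.H7AutPSL

open Matrix Cfsg Cfsg.Agent.Lib.Helper5 Cfsg.Agent.Lib.Helper5.GLBN Cfsg.Agent.Lib.Helper5.AutBN
open Cfsg.Agent.H9.SLnA Cfsg.Agent.H9.SLnB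
open scoped MatrixGroups

variable {m : ℕ} {F : Type*} [Field F]

local notation "SLn" => Matrix.SpecialLinearGroup (Fin (m + 1)) F
local notation "PSLn" => Matrix.ProjectiveSpecialLinearGroup (Fin (m + 1)) F
local notation "GLn" => GL (Fin (m + 1)) F

/-! ### Generation of `SL` by root elements -/

/-- the commutator formula for root elements -/
theorem rx_commutator (a b c : Fin (m + 1)) (hab : a ≠ b) (hbc : b ≠ c) (hac : a ≠ c) (s t : F) :
    rx a b hab s * rx b c hbc t * (rx a b hab s)⁻¹ * (rx b c hbc t)⁻¹ = rx a c hac (s * t) := by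
  rw [conj_rx_left b c a hbc hab hac s t, rx_comm_of_ne b c a c hbc hac hac.symm hbc.symm,
    mul_inv_cancel_right]

theorem monoElt_val (i j : Fin (m + 1)) (hij : i ≠ j) (a : F) (ha : a ≠ 0) :
    (rx i j hij a * rx j i hij.symm (-a⁻¹) * rx i j hij a).1 =
      1 - single i i (1 : F) - single j j 1 + single i j a - single j i a⁻¹ := by
  simp only [Matrix.SpecialLinearGroup.coe_mul, rx_val]
  simp only [transvection, add_mul, mul_add, one_mul, mul_one, single_mul_single_same,
    single_mul_single_of_ne _ _ _ _ hij.symm, add_zero]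
  have e1 : a * -a⁻¹ = -1 := by field_simp
  have e2 : -a⁻¹ * a = -1 := by field_simp
  rw [e1, e2, neg_one_mul, ← single_neg, ← single_neg, ← single_neg, ← single_neg]
  abel

theorem diag2n_val (i j : Fin (m + 1)) (hij : i ≠ j) (a : F) :
    diagonal (fun k => if k = i then a else if k = j then a⁻¹ else 1) =
      1 - single i i (1 : F) - single j j 1 + single i i a + single j j a⁻¹ := by
  ext k l
  simp only [diagonal_apply, Matrix.add_apply, Matrix.sub_apply, one_apply, single_apply]
  by_cases hkl : k = l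
  · subst hkl
    by_cases hki : k = i
    · subst hki
      simp [hij.symm]
    · by_cases hkj : k = j
      · subst hkj
        simp [hij, hij.symm]
      · simp [hki, hkj, Ne.symm hki, Ne.symm hkj]
  · have h1 : ¬ (i = k ∧ i = l) := by rintro ⟨rfl, rfl⟩; exact hkl rfl
    have h2 : ¬ (j = k ∧ j = l) := by rintro ⟨rfl, rfl⟩; exact hkl rfl
    simp [hkl, h1, h2]

/-- the diagonal element `h_{ij}(a)` is a product of root elements -/
theorem diag2n_eq (i j : Fin (m + 1)) (hij : i ≠ j) (a : F) (ha : a ≠ 0) :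
    Matrix.SpecialLinearGroup.diag2n hij a ha =
      rx i j hij a * rx j i hij.symm (-a⁻¹) * rx i j hij a *
        (rx i j hij (-1) * rx j i hij.symm 1 * rx i j hij (-1)) := by
  have h2 := monoElt_val i j hij (-1 : F) (neg_ne_zero.2 one_ne_zero)
  rw [inv_neg, inv_one, neg_neg] at h2
  apply Subtype.ext
  rw [Matrix.SpecialLinearGroup.coe_mul, monoElt_val i j hij a ha, h2,
    Matrix.SpecialLinearGroup.diag2n_coe, diag2n_val i j hij]
  simp only [sub_mul, mul_sub, add_mul, mul_add, one_mul, mul_one, single_mul_single_same,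
    single_mul_single_of_ne _ _ _ _ hij.symm, single_mul_single_of_ne _ _ _ _ hij, add_zero,
    sub_zero]
  rw [mul_neg_one, mul_neg_one, ← single_neg, ← single_neg, ← single_neg, ← single_neg]
  abel

/-- the set of all root elements of `SL` -/
def rootElts (m : ℕ) (F : Type*) [Field F] : Set (Matrix.SpecialLinearGroup (Fin (m + 1)) F) :=
  {g | ∃ (a b : Fin (m + 1)) (hab : a ≠ b) (t : F), g = rx a b hab t}

theorem rx_mem_rootElts (a b : Fin (m + 1)) (hab : a ≠ b) (t : F) : rx a b hab t ∈ rootElts m F :=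
  ⟨a, b, hab, t, rfl⟩

/-- `SL_{m+1}(F)` is generated by its root elements -/
theorem closure_rootElts (hm : 1 ≤ m) : Subgroup.closure (rootElts m F) = ⊤ := by
  rw [eq_top_iff]
  intro g _
  have : Nontrivial (Fin (m + 1)) := Fin.nontrivial_iff_two_le.2 (by omega)
  have hrx : ∀ (a b : Fin (m + 1)) (hab : a ≠ b) (t : F),
      rx a b hab t ∈ Subgroup.closure (rootElts m F) :=
    fun a b hab t => Subgroup.subset_closure (rx_mem_rootElts a b hab t)
  refine Matrix.SpecialLinearGroup.diagonal_transvection_induction'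
    (fun g => g ∈ Subgroup.closure (rootElts m F)) g ?_ ?_ ?_
  · intro i j hij c hc
    rw [diag2n_eq]
    exact mul_mem (mul_mem (mul_mem (hrx _ _ _ _) (hrx _ _ _ _)) (hrx _ _ _ _))
      (mul_mem (mul_mem (hrx _ _ _ _) (hrx _ _ _ _)) (hrx _ _ _ _))
  · intro i j hij a
    exact hrx i j hij a
  · intro A B hA hB
    exact mul_mem hA hB

/-- two automorphisms of `PSL` agreeing on the root elements are equal -/
theorem aut_ext_rx (hm : 1 ≤ m) {α β : PSLn ≃* PSLn}
    (h : ∀ (a b : Fin (m + 1)) (hab : a ≠ b) (t : F),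
      α (prj (rx a b hab t)) = β (prj (rx a b hab t))) : α = β := by
  have key : α.toMonoidHom.comp prj = β.toMonoidHom.comp prj := by
    apply MonoidHom.eq_of_eqOn_dense (closure_rootElts (F := F) hm)
    rintro _ ⟨a, b, hab, t, rfl⟩
    exact h a b hab t
  apply aut_ext
  intro g
  exact DFunLike.congr_fun key g

/-! ### The algebra -/

theorem exists_third (hm : 2 ≤ m) (a b : Fin (m + 1)) : ∃ c, c ≠ a ∧ c ≠ b := by
  have hcard : ({a, b} : Finset (Fin (m + 1))).card < (Finset.univ : Finset (Fin (m + 1))).card := by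
    rw [Finset.card_univ, Fintype.card_fin]
    exact lt_of_le_of_lt (Finset.card_insert_le _ _) (by rw [Finset.card_singleton]; omega)
  obtain ⟨c, -, hc⟩ := Finset.exists_mem_notMem_of_card_lt_card hcard
  rw [Finset.mem_insert, Finset.mem_singleton, not_or] at hc
  exact ⟨c, hc.1, hc.2⟩

/-- **The algebra behind Steinberg's argument.** A family of additive maps `f a b` with
`f a c (s t) = f a b s * f b c t` is a field endomorphism twisted by a diagonal matrix. -/
theorem steinberg_alg (hm : 2 ≤ m) (f : Fin (m + 1) → Fin (m + 1) → F → F)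
    (hadd : ∀ a b, a ≠ b → ∀ s t, f a b (s + t) = f a b s + f a b t)
    (hmul : ∀ a b c, a ≠ b → b ≠ c → a ≠ c → ∀ s t, f a c (s * t) = f a b s * f b c t)
    (hne : ∀ a b, a ≠ b → f a b 1 ≠ 0) :
    ∃ (σ : F →+* F) (d : Fin (m + 1) → F), (∀ a, d a ≠ 0) ∧
      ∀ a b, a ≠ b → ∀ t, f a b t = d a * σ t * (d b)⁻¹ := by
  -- structure constants
  have cmul : ∀ a b c, a ≠ b → b ≠ c → a ≠ c → f a c 1 = f a b 1 * f b c 1 := by
    intro a b c hab hbc hac
    have := hmul a b c hab hbc hac 1 1
    rwa [mul_one] at this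
  have fl : ∀ a b c, a ≠ b → b ≠ c → a ≠ c → ∀ s, f a c s = f a b s * f b c 1 := by
    intro a b c hab hbc hac s
    have := hmul a b c hab hbc hac s 1
    rwa [mul_one] at this
  have fr : ∀ a b c, a ≠ b → b ≠ c → a ≠ c → ∀ t, f a c t = f a b 1 * f b c t := by
    intro a b c hab hbc hac t
    have := hmul a b c hab hbc hac 1 t
    rwa [one_mul] at this
  -- the normalised maps
  have R1 : ∀ a b c, a ≠ b → b ≠ c → a ≠ c → ∀ s, f a b s / f a b 1 = f a c s / f a c 1 := by
    intro a b c hab hbc hac s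
    rw [fl a b c hab hbc hac s, cmul a b c hab hbc hac]
    have h1 := hne a b hab
    have h2 := hne b c hbc
    field_simp
  have R2 : ∀ a b c, a ≠ b → b ≠ c → a ≠ c → ∀ s, f a c s / f a c 1 = f b c s / f b c 1 := by
    intro a b c hab hbc hac s
    rw [fr a b c hab hbc hac s, cmul a b c hab hbc hac]
    have h1 := hne a b hab
    have h2 := hne b c hbc
    field_simp
  have R3 : ∀ a b, a ≠ b → ∀ s, f a b s / f a b 1 = f b a s / f b a 1 := by
    intro a b hab s
    obtain ⟨c, hca, hcb⟩ := exists_third hm a b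
    rw [R1 a b c hab hcb.symm hca.symm, R2 a b c hab hcb.symm hca.symm,
      ← R1 b a c hab.symm hca.symm hcb.symm]
  have Rall : ∀ a b a' b', a ≠ b → a' ≠ b' → ∀ s, f a b s / f a b 1 = f a' b' s / f a' b' 1 := by
    intro a b a' b' hab hab' s
    -- first move the first index to `a'`
    have step1 : ∃ x, x ≠ a' ∧ f a b s / f a b 1 = f a' x s / f a' x 1 := by
      by_cases h1 : a' = a
      · subst h1
        exact ⟨b, hab.symm, rfl⟩
      · by_cases h2 : a' = b
        · subst h2
          exact ⟨a, Ne.symm h1, R3 a a' hab s⟩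
        · exact ⟨b, Ne.symm h2, R2 a a' b (Ne.symm h1) h2 hab s⟩
    obtain ⟨x, hx, e⟩ := step1
    rw [e]
    by_cases h3 : x = b'
    · subst h3
      rfl
    · exact R1 a' x b' hx.symm h3 hab' s
  have hzero : ∀ a b, a ≠ b → f a b 0 = 0 := by
    intro a b hab
    have := hadd a b hab 0 0
    rw [add_zero] at this
    exact left_eq_add.1 this
  -- the base pair
  set a₀ : Fin (m + 1) := 0 with ha₀
  set b₀ : Fin (m + 1) := Fin.last m with hb₀
  have hab₀ : a₀ ≠ b₀ := by
    rw [ha₀, hb₀]
    intro h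
    have := congrArg Fin.val h
    rw [Fin.val_last, Fin.val_zero] at this
    omega
  obtain ⟨c₀, hca₀, hcb₀⟩ := exists_third hm a₀ b₀
  let σ : F →+* F :=
    { toFun := fun s => f a₀ b₀ s / f a₀ b₀ 1
      map_one' := div_self (hne a₀ b₀ hab₀)
      map_zero' := by rw [hzero a₀ b₀ hab₀, zero_div]
      map_add' := by
        intro s t
        rw [hadd a₀ b₀ hab₀, add_div]
      map_mul' := by
        intro s t
        rw [Rall a₀ b₀ a₀ c₀ hab₀ hca₀.symm (s * t), Rall a₀ b₀ b₀ c₀ hab₀ hcb₀.symm t,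
          hmul a₀ b₀ c₀ hab₀ hcb₀.symm hca₀.symm, cmul a₀ b₀ c₀ hab₀ hcb₀.symm hca₀.symm]
        have h1 := hne a₀ b₀ hab₀
        have h2 := hne b₀ c₀ hcb₀.symm
        field_simp }
  have hσ : ∀ a b, a ≠ b → ∀ t, f a b t = f a b 1 * σ t := by
    intro a b hab t
    show f a b t = f a b 1 * (f a₀ b₀ t / f a₀ b₀ 1)
    rw [← Rall a b a₀ b₀ hab hab₀ t, mul_div_cancel₀ _ (hne a b hab)]
  have hinv : ∀ a b, a ≠ b → f a b 1 * f b a 1 = 1 := by
    intro a b hab
    obtain ⟨c, hca, hcb⟩ := exists_third hm a b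
    have e1 := cmul a b c hab hcb.symm hca.symm
    have e2 := cmul b a c hab.symm hca.symm hcb.symm
    rw [e2, ← mul_assoc] at e1
    have h3 := hne a c hca.symm
    exact (mul_right_cancel₀ h3 (by rw [one_mul]; exact e1)).symm
  refine ⟨σ, fun a => if a = a₀ then 1 else f a a₀ 1, ?_, ?_⟩
  · intro a
    beta_reduce
    by_cases h : a = a₀
    · rw [if_pos h]; exact one_ne_zero
    · rw [if_neg h]; exact hne a a₀ h
  · intro a b hab t
    beta_reduce
    rw [hσ a b hab t]
    by_cases h1 : a = a₀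
    · have h2 : b ≠ a₀ := fun h => hab (h1.trans h.symm)
      rw [if_pos h1, if_neg h2, one_mul, mul_comm]
      congr 1
      rw [h1]
      exact eq_inv_of_mul_eq_one_left (hinv a₀ b (Ne.symm h2))
    · by_cases h2 : b = a₀
      · rw [if_neg h1, if_pos h2, inv_one, mul_one, h2]
      · rw [if_neg h1, if_neg h2, cmul a a₀ b h1 (Ne.symm h2) hab,
          eq_inv_of_mul_eq_one_left (hinv a₀ b (Ne.symm h2))]
        ring

/-! ### Diagonal matrices -/

/-- the diagonal matrix with entries `d`, in `GL` -/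
def dgl (d : Fin (m + 1) → Fˣ) : GLn :=
  ⟨diagonal (fun i => (d i : F)), diagonal (fun i => (((d i)⁻¹ : Fˣ) : F)),
    by rw [diagonal_mul_diagonal, ← diagonal_one]; congr 1; ext i; simp,
    by rw [diagonal_mul_diagonal, ← diagonal_one]; congr 1; ext i; simp⟩

theorem dgl_val (d : Fin (m + 1) → Fˣ) :
    ((dgl d : GLn) : Matrix (Fin (m + 1)) (Fin (m + 1)) F) = diagonal (fun i => (d i : F)) := rfl

theorem dgl_inv_val (d : Fin (m + 1) → Fˣ) :
    (((dgl d)⁻¹ : GLn) : Matrix (Fin (m + 1)) (Fin (m + 1)) F) =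
      diagonal (fun i => (((d i)⁻¹ : Fˣ) : F)) := rfl

theorem conjSL_dgl_rx (d : Fin (m + 1) → Fˣ) (a b : Fin (m + 1)) (hab : a ≠ b) (t : F) :
    conjSL (dgl d) (rx a b hab t) = rx a b hab ((d a : F) * t * ((d b : F))⁻¹) := by
  apply Subtype.ext
  rw [conjSL_val, dgl_val, dgl_inv_val]
  ext i j
  rw [mul_diagonal, diagonal_mul, rx_apply, rx_apply]
  by_cases hij : i = j
  · subst hij
    have : ¬ (i = a ∧ i = b) := by rintro ⟨rfl, rfl⟩; exact hab rfl
    rw [if_pos rfl, if_neg this, if_neg this, add_zero, mul_one,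
      Units.val_inv_eq_inv_val, mul_inv_cancel₀ (Units.ne_zero _)]
  · rw [if_neg hij, zero_add, zero_add]
    by_cases h : i = a ∧ j = b
    · obtain ⟨rfl, rfl⟩ := h
      rw [if_pos ⟨rfl, rfl⟩, if_pos ⟨rfl, rfl⟩, Units.val_inv_eq_inv_val]
    · rw [if_neg h, if_neg h, mul_zero, zero_mul]

/-! ### Root stability -/

/-- `θ` maps each root element `x_{ab}(t)` to a root element `x_{ab}(t')` -/
def RootStable (θ : PSLn ≃* PSLn) (a b : Fin (m + 1)) (hab : a ≠ b) : Prop :=
  ∀ t : F, ∃ t' : F, θ (prj (rx a b hab t)) = prj (rx a b hab t')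

theorem rootStable_of_map {θ : PSLn ≃* PSLn} {a b : Fin (m + 1)} {hab : a ≠ b}
    (h : (XT (F := F) a b hab).map θ.toMonoidHom = XT a b hab) : RootStable θ a b hab := by
  intro t
  have h1 : θ (prj (rx a b hab t)) ∈ (XT (F := F) a b hab).map θ.toMonoidHom :=
    ⟨_, prj_rx_mem_XT a b hab t, rfl⟩
  rw [h] at h1
  exact mem_XT.1 h1

theorem prj_rx_commutator (a b c : Fin (m + 1)) (hab : a ≠ b) (hbc : b ≠ c) (hac : a ≠ c)
    (s t : F) :
    prj (rx a b hab s) * prj (rx b c hbc t) * (prj (rx a b hab s))⁻¹ * (prj (rx b c hbc t))⁻¹ =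
      prj (rx a c hac (s * t)) := by
  rw [← rx_commutator a b c hab hbc hac s t, map_mul, map_mul, map_mul, map_inv, map_inv]

theorem rootStable_comm {θ : PSLn ≃* PSLn} {a b c : Fin (m + 1)} (hab : a ≠ b) (hbc : b ≠ c)
    (hac : a ≠ c) (h1 : RootStable θ a b hab) (h2 : RootStable θ b c hbc) :
    RootStable θ a c hac := by
  intro t
  obtain ⟨t', e1⟩ := h1 t
  obtain ⟨u', e2⟩ := h2 1
  refine ⟨t' * u', ?_⟩
  have e := prj_rx_commutator a b c hab hbc hac t 1
  rw [mul_one] at e
  rw [← e, map_mul, map_mul, map_mul, map_inv, map_inv, e1, e2, prj_rx_commutator]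

theorem rootStable_congr {θ : PSLn ≃* PSLn} {a b a' b' : Fin (m + 1)} (hab : a ≠ b)
    (ha : a = a') (hb : b = b') (h : RootStable θ a b hab) :
    RootStable θ a' b' (by rw [← ha, ← hb]; exact hab) := by
  subst ha hb
  exact h

theorem rootStable_all {θ : PSLn ≃* PSLn}
    (hp : ∀ i : Fin m, RootStable θ i.castSucc i.succ (castSucc_ne_succ i))
    (hq : ∀ i : Fin m, RootStable θ i.succ i.castSucc (castSucc_ne_succ i).symm)
    (a b : Fin (m + 1)) (hab : a ≠ b) : RootStable θ a b hab := by
  have base : ∀ a b : Fin (m + 1), a.val + 1 = b.val →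
      (∀ h, RootStable θ a b h) ∧ (∀ h, RootStable θ b a h) := by
    intro a b h
    have hlt : a.val < m := by have := b.isLt; omega
    have ea : (⟨a.val, hlt⟩ : Fin m).castSucc = a := Fin.ext rfl
    have eb : (⟨a.val, hlt⟩ : Fin m).succ = b := Fin.ext (by rw [Fin.val_succ]; exact h)
    exact ⟨fun _ => rootStable_congr _ ea eb (hp ⟨a.val, hlt⟩),
      fun _ => rootStable_congr _ eb ea (hq ⟨a.val, hlt⟩)⟩
  have key : ∀ d : ℕ, ∀ a b : Fin (m + 1), a.val + d + 1 = b.val →
      (∀ h, RootStable θ a b h) ∧ (∀ h, RootStable θ b a h) := by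
    intro d
    induction d with
    | zero =>
      intro a b h
      exact base a b (by omega)
    | succ d ih =>
      intro a b h
      have hc : a.val + 1 < m + 1 := by have := b.isLt; omega
      set c : Fin (m + 1) := ⟨a.val + 1, hc⟩ with hcdef
      have hac : a ≠ c := by
        intro e
        have := congrArg Fin.val e
        rw [hcdef] at this
        simp at this
      have hcb : c ≠ b := by
        intro e
        have := congrArg Fin.val e
        rw [hcdef] at this
        simp at this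
        omega
      have h1 := base a c (by rw [hcdef])
      have h2 := ih c b (by rw [hcdef]; show a.val + 1 + d + 1 = b.val; omega)
      exact ⟨fun h' => rootStable_comm hac hcb h' (h1.1 hac) (h2.1 hcb),
        fun h' => rootStable_comm hcb.symm hac.symm h' (h2.2 hcb.symm) (h1.2 hac.symm)⟩
  rcases lt_or_gt_of_ne (Fin.val_ne_of_ne hab) with h | h
  · exact (key (b.val - a.val - 1) a b (by omega)).1 hab
  · exact (key (a.val - b.val - 1) b a (by omega)).2 hab

/-! ### The theorem -/

/-- the coefficient function of a root-stable automorphism -/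
noncomputable def rootCoef (θ : PSLn ≃* PSLn) (hθ : ∀ a b hab, RootStable θ a b hab)
    (a b : Fin (m + 1)) (t : F) : F :=
  if hab : a ≠ b then Classical.choose (hθ a b hab t) else 0

theorem rootCoef_spec (θ : PSLn ≃* PSLn) (hθ : ∀ a b hab, RootStable θ a b hab)
    (a b : Fin (m + 1)) (hab : a ≠ b) (t : F) :
    θ (prj (rx a b hab t)) = prj (rx a b hab (rootCoef θ hθ a b t)) := by
  unfold rootCoef
  rw [dif_pos hab]
  exact Classical.choose_spec (hθ a b hab t)

/-- **Steinberg's theorem for `PSL_{m+1}(F)`, `m ≥ 2`.** An automorphism mapping every fundamental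
root element and every opposite one into its own root subgroup is a field automorphism followed by
conjugation by a diagonal matrix. -/
theorem steinberg [Finite F] (hm : 2 ≤ m) (θ : PSLn ≃* PSLn)
    (hp : ∀ i : Fin m, RootStable θ i.castSucc i.succ (castSucc_ne_succ i))
    (hq : ∀ i : Fin m, RootStable θ i.succ i.castSucc (castSucc_ne_succ i).symm) :
    ∃ (σ : F ≃+* F) (d : Fin (m + 1) → Fˣ), θ = (fieldT σ).trans (conjT (dgl d)) := by
  have hθ := rootStable_all hp hq
  have hadd : ∀ a b, a ≠ b → ∀ s t,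
      rootCoef θ hθ a b (s + t) = rootCoef θ hθ a b s + rootCoef θ hθ a b t := by
    intro a b hab s t
    apply prj_rx_injective a b hab
    beta_reduce
    rw [← rootCoef_spec θ hθ a b hab, ← rx_mul_rx, map_mul, map_mul, rootCoef_spec θ hθ a b hab,
      rootCoef_spec θ hθ a b hab, ← map_mul, rx_mul_rx]
  have hmul : ∀ a b c, a ≠ b → b ≠ c → a ≠ c → ∀ s t,
      rootCoef θ hθ a c (s * t) = rootCoef θ hθ a b s * rootCoef θ hθ b c t := by
    intro a b c hab hbc hac s t
    apply prj_rx_injective a c hac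
    beta_reduce
    rw [← rootCoef_spec θ hθ a c hac, ← prj_rx_commutator a b c hab hbc hac, map_mul, map_mul,
      map_mul, map_inv, map_inv, rootCoef_spec θ hθ a b hab, rootCoef_spec θ hθ b c hbc,
      prj_rx_commutator a b c hab hbc hac]
  have hne : ∀ a b, a ≠ b → rootCoef θ hθ a b 1 ≠ 0 := by
    intro a b hab h0
    have e := rootCoef_spec θ hθ a b hab 1
    rw [h0, rx_zero, map_one] at e
    have e' : prj (rx a b hab (1 : F)) = 1 := by
      apply θ.injective
      rw [e, map_one]
    have := prj_rx_injective a b hab (e'.trans (by rw [rx_zero, map_one] : (1 : PSLn) = prj (rx a b hab (0 : F))))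
    exact one_ne_zero this
  obtain ⟨σ₀, d₀, hd₀, hf⟩ := steinberg_alg hm (rootCoef θ hθ) hadd hmul hne
  have hbij : Function.Bijective σ₀ :=
    ⟨σ₀.injective, Finite.injective_iff_surjective.1 σ₀.injective⟩
  refine ⟨RingEquiv.ofBijective σ₀ hbij, fun a => Units.mk0 (d₀ a) (hd₀ a), ?_⟩
  apply aut_ext_rx (by omega)
  intro a b hab t
  rw [rootCoef_spec θ hθ, MulEquiv.trans_apply, fieldT_prj, fieldSL_rx, conjT_prj, conjSL_dgl_rx,
    hf a b hab t]
  rfl

end Cfsg.Agent.Lib.H7AutPSL
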